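import Cfsg.Agent.Lib.Classical.AutPSU.Kinds
import Cfsg.Agent.Lib.Classical.AutPSL.Count
import Cfsg.Prelude.Def_KGroupFacts

/-!
Automorphisms of `PSU_n(q)`, part 7: the order of the automorphism group and the structure of the
outer automorphism group.
-/

set_option autoImplicit false

namespace Cfsg.Agent.Lib.Classical.AutPSU

open Matrix
open Cfsg.Agent.Lib.Classical

variable {F : Type*} [Field F] [Fintype F] {q n : ℕ}

set_option quotPrecheck false in
local notation "SUn" => Subtype (fun A => A ∈ Cfsg.SU n F q)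
set_option quotPrecheck false in
local notation "GUn" => Subtype (fun A => A ∈ Cfsg.GU n F q)
set_option quotPrecheck false in
local notation "Vn" => (Fin n → F)
set_option quotPrecheck false in
local notation "Mat" => Matrix (Fin n) (Fin n) F
set_option quotPrecheck false in
local notation "PSUn" => Cfsg.PSU n F q

/-- The norm-one elements. -/
def U1 (F : Type*) [Field F] (q : ℕ) : Subgroup Fˣ := (powMonoidHom (q + 1) : Fˣ →* Fˣ).ker

theorem mem_U1 {F : Type*} [Field F] {q : ℕ} {u : Fˣ} : u ∈ U1 F q ↔ (u : F) ^ (q + 1) = 1 := by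
  rw [U1, MonoidHom.mem_ker, powMonoidHom_apply, ← Units.val_inj, Units.val_pow_eq_pow_val, Units.val_one]

variable (hF : Fintype.card F = q ^ 2)

set_option quotPrecheck false in
local notation "B" => hermBilin hF n
set_option quotPrecheck false in
local notation "σq" => conjHom hF

include hF in
theorem card_U1 : Nat.card (U1 F q) = q + 1 := by
  rw [U1, IsCyclic.card_powMonoidHom_ker, natCard_units, hF]
  exact Nat.gcd_eq_right ⟨q - 1, by rw [← Nat.sq_sub_sq, one_pow]⟩

include hF in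
theorem conj_mul_self_of_mem_U1 {u : Fˣ} (hu : u ∈ U1 F q) : σq (u : F) * u = 1 := by
  rw [conjHom_apply, ← pow_succ, mem_U1.mp hu]

/-- The scalar unitary matrices. -/
def scU : U1 F q →* GUn :=
  MonoidHom.mk' (fun u => ⟨Matrix.GeneralLinearGroup.scalar (Fin n) u.1, fun x y => by
    show Cfsg.hermForm n F q (Matrix.scalar (Fin n) (u.1 : F) *ᵥ x) (Matrix.scalar (Fin n) (u.1 : F) *ᵥ y) = _
    simp only [Cfsg.hermForm, Matrix.scalar_apply, Matrix.mulVec_diagonal, mul_pow]
    refine Finset.sum_congr rfl fun i _ => ?_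
    linear_combination x i * y i ^ q * mem_U1.mp u.2⟩) fun a b => Subtype.ext (map_mul _ _ _)

theorem scU_coe (u : U1 F q) : ((scU (n := n) u).1 : Mat) = Matrix.scalar (Fin n) ((u : Fˣ) : F) := rfl

theorem scU_mulVec (u : U1 F q) (x : Vn) : ((scU (n := n) u).1 : Mat) *ᵥ x = ((u : Fˣ) : F) • x := by
  rw [scU_coe]
  simp [Matrix.scalar_apply, ← Matrix.smul_one_eq_diagonal, Matrix.smul_mulVec]

theorem dia_scU (u : U1 F q) : (dia (scU u) : MulAut PSUn) = 1 := by
  refine MulEquiv.ext fun x => ?_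
  obtain ⟨s, rfl⟩ := pr_surjective x
  rw [dia_pr, MulAut.one_apply]
  refine congrArg pr (Subtype.ext (Subtype.ext ?_))
  show ((scU (n := n) u).1 : Mat) * mat s * _ = mat s
  rw [show ((scU (n := n) u).1 : Mat) * mat s = mat s * ((scU (n := n) u).1 : Mat) by
    rw [scU_coe]; exact (Matrix.scalar_commute _ (fun r => Commute.all _ r) _).eq,
    mul_assoc, ← Units.val_mul, mul_inv_cancel, Units.val_one, mul_one]

variable (p : ℕ) [Fact p.Prime] [CharP F p]

include hF p in
/-- The kernel of the parametrisation. -/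
theorem eq_one_of_param (hn : 3 ≤ n) {g : GUn} {σ : F ≃+* F}
    (h : dia g * fld σ = (1 : MulAut PSUn)) : σ = 1 ∧ ∃ u, g = scU u := by
  obtain ⟨e, f, w, hΦ, -⟩ := exists_frame hF (n := n) (by omega)
  set L : Vn → Vn := fun x => (g.1 : Mat) *ᵥ fun i => σ (x i) with hL
  have hLadd : ∀ x y, L (x + y) = L x + L y := fun x y => by
    simp only [hL, Pi.add_apply, map_add]
    exact Matrix.mulVec_add _ (fun i => σ (x i)) (fun i => σ (y i))
  have hLsmul : ∀ (c : F) x, L (c • x) = σ c • L x := fun c x => by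
    simp only [hL, Pi.smul_apply, smul_eq_mul, map_mul]
    exact Matrix.mulVec_smul _ (σ c) (fun i => σ (x i))
  have hfix : ∀ v, v ≠ 0 → B v v = 0 → ∃ a : F, L v = a • v := by
    intro v hv0 hv
    obtain ⟨c, hc0, hc⟩ := exists_skew hF
    have hσc : σq (σ c) = -σ c := by rw [conj_comm, hc, map_neg]
    have h1 := congrArg (fun α : MulAut PSUn => α (tau v c)) h
    simp only [MulAut.mul_apply, MulAut.one_apply, fld_tau hF σ hv hc,
      dia_tau hF g (v := fun i => σ (v i)) (by rw [form_map, hv, map_zero]) hσc] at h1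
    obtain ⟨a, -, e1, -⟩ := tau_eq_imp hF p (by omega) hv0 hv
      (by rw [gu_form, form_map, hv, map_zero]) hc0 hc hσc h1.symm
    exact ⟨a, e1⟩
  obtain ⟨he0, hf0⟩ := ne_zero_of_herm hF hΦ.ef
  obtain ⟨l, hl⟩ := hfix e he0 hΦ.ee
  obtain ⟨μ, hμ⟩ := hfix f hf0 hΦ.ff
  have hform : ∀ x y, B (L x) (L y) = σ (B x y) := fun x y => by
    simp only [hL]; rw [gu_form, form_map]
  have hμ0 : μ ≠ 0 := fun h0 => by
    have := hform e f
    rw [hμ, h0, zero_smul, map_zero, hΦ.ef, map_one] at this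
    exact zero_ne_one this
  have hl0 : l ≠ 0 := fun h0 => by
    have := hform e f
    rw [hl, h0, zero_smul, map_zero, LinearMap.zero_apply, hΦ.ef, map_one] at this
    exact zero_ne_one this
  have hW : ∀ x, InW hF e f x → InW hF e f (L x) := fun x hx => by
    constructor
    · have := hform e x
      rw [hl, map_smulₛₗ, LinearMap.smul_apply, hx.1, map_zero, smul_eq_mul, mul_eq_zero] at this
      exact this.resolve_left ((map_ne_zero_iff _ (RingHom.injective _)).mpr hl0)
    · have := hform f x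
      rw [hμ, map_smulₛₗ, LinearMap.smul_apply, hx.2, map_zero, smul_eq_mul, mul_eq_zero] at this
      exact this.resolve_left ((map_ne_zero_iff _ (RingHom.injective _)).mpr hμ0)
  have hpt : ∀ x a, InW hF e f x → Adm hF x a → L x = μ • x ∧ σ a * l = μ * a := by
    intro x a hx ha
    obtain ⟨ν, hν⟩ := hfix _ (pt_ne_zero hF hΦ hx a) (pt_self hF hΦ hx ha)
    rw [pt, hLadd, hLadd, hLsmul, hμ, hl] at hν
    have h1 := congrArg (B e) hν
    rw [map_add, map_add, map_smul, map_smul, map_smul, map_smul, map_add, map_add, map_smul, hΦ.ef,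
      (hW x hx).1, hΦ.ee, hx.1] at h1
    simp at h1
    subst h1
    have h2 := congrArg (B f) hν
    rw [map_add, map_add, map_smul, map_smul, map_smul, map_smul, map_add, map_add, map_smul, hΦ.ff,
      (hW x hx).2, hΦ.fe, hx.2] at h2
    simp at h2
    refine ⟨?_, h2⟩
    have : L x + (σ a * l) • e = μ • x + (μ * a) • e := by
      linear_combination (norm := module) hν
    rw [h2] at this
    exact add_right_cancel this
  obtain ⟨i₀⟩ : Nonempty (Fin (n - 2)) := ⟨⟨0, by omega⟩⟩
  have hσ : σ = 1 := by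
    refine RingEquiv.ext fun t => ?_
    obtain ⟨a, ha⟩ := exists_adm hF (w i₀)
    obtain ⟨b, hb⟩ := exists_adm hF (t • w i₀)
    have h1 := (hpt _ a (inW_w hF hΦ i₀) ha).1
    have h2 := (hpt _ b ((inW_w hF hΦ i₀).smul hF t) hb).1
    rw [hLsmul, h1, smul_smul, smul_smul] at h2
    have h3 := congrArg (B (w i₀)) h2
    simp [hΦ.ww, hμ0, mul_comm (σ t) μ] at h3
    exact h3
  subst hσ
  obtain ⟨k, hk0, hk⟩ := exists_skew hF
  have hlμ : l = μ := by
    have h1 := (hpt 0 k (inW_zero hF e f) (by simp [Adm, hk])).2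
    rw [RingAut.one_apply, mul_comm k] at h1
    exact mul_right_cancel₀ hk0 h1
  subst hlμ
  have hgx : ∀ x, (g.1 : Mat) *ᵥ x = l • x := by
    intro x
    have hW' : ∀ i, L (w i) = l • w i := fun i => by
      obtain ⟨a, ha⟩ := exists_adm hF (w i)
      exact (hpt _ a (inW_w hF hΦ i) ha).1
    have h1 : L x = (g.1 : Mat) *ᵥ x := rfl
    rw [← h1, ← hΦ.expand hF (by omega) x, hLadd, hLadd, hLsmul, hLsmul, hl, hμ]
    have : L (∑ i, B (w i) x • w i) = ∑ i, L (B (w i) x • w i) :=
      map_sum (AddMonoidHom.mk' L hLadd) _ _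
    rw [this, smul_add, smul_add, Finset.smul_sum, smul_comm l, smul_comm l]
    congr 2
    funext i
    rw [hLsmul, hW', RingAut.one_apply, smul_comm]
  have hN : l ^ (q + 1) = 1 := by
    have := hform e f
    rw [hl, hμ, hΦ.ef, map_one, form_smul_smul, hΦ.ef, mul_one, conjHom_apply, ← pow_succ] at this
    exact this
  refine ⟨rfl, ⟨Units.mk0 l hl0, mem_U1.mpr hN⟩, Subtype.ext (Units.ext (Matrix.ext_iff_mulVec.mpr fun x => ?_))⟩
  rw [hgx, scU_mulVec]
  rfl

include hF p in
theorem dia_eq_one_iff (hn : 3 ≤ n) (g : GUn) : (dia g : MulAut PSUn) = 1 ↔ ∃ u, g = scU u := by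
  refine ⟨fun h => (eq_one_of_param hF p hn (σ := 1) ?_).2, fun ⟨u, hu⟩ => by rw [hu, dia_scU]⟩
  rw [map_one fld, mul_one, h]

include hF p in
theorem param_unique (hn : 3 ≤ n) {g h : GUn} {σ τ : F ≃+* F}
    (e : dia g * fld σ = (dia h * fld τ : MulAut PSUn)) : σ = τ := by
  have h1 : dia (h⁻¹ * g) * fld (σ * τ⁻¹) = (1 : MulAut PSUn) := by
    rw [map_mul, map_inv, map_mul, map_inv]
    calc (dia h)⁻¹ * dia g * (fld σ * (fld τ)⁻¹) = (dia h)⁻¹ * (dia g * fld σ) * (fld τ)⁻¹ := by group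
      _ = 1 := by rw [e]; group
  exact mul_inv_eq_one.mp (eq_one_of_param hF p hn h1).1

/-- The field part of an automorphism. -/
noncomputable def galPart (hn : 3 ≤ n) (h32 : ¬ (n = 3 ∧ q = 2)) : MulAut PSUn →* (F ≃+* F) :=
  MonoidHom.mk' (fun β => (decomposition hF p hn h32 β).choose_spec.choose) fun a b => by
    obtain ⟨k, hk⟩ : ∃ k, a = dia k * fld (decomposition hF p hn h32 a).choose_spec.choose :=
      ⟨_, (decomposition hF p hn h32 a).choose_spec.choose_spec⟩
    obtain ⟨l, hl⟩ : ∃ l, b = dia l * fld (decomposition hF p hn h32 b).choose_spec.choose :=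
      ⟨_, (decomposition hF p hn h32 b).choose_spec.choose_spec⟩
    refine param_unique hF p hn (g := (decomposition hF p hn h32 (a * b)).choose)
      (h := k * galG (decomposition hF p hn h32 a).choose_spec.choose l) ?_
    rw [← (decomposition hF p hn h32 (a * b)).choose_spec.choose_spec, map_mul, map_mul]
    conv_lhs => rw [hk, hl]
    rw [mul_assoc (dia k), ← mul_assoc (fld _), fld_mul_dia, mul_assoc, mul_assoc]

theorem galPart_dia_fld (hn : 3 ≤ n) (h32 : ¬ (n = 3 ∧ q = 2)) (g : GUn) (σ : F ≃+* F) :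
    galPart hF p hn h32 (dia g * fld σ) = σ :=
  (param_unique hF p hn (decomposition hF p hn h32 (dia g * fld σ)).choose_spec.choose_spec).symm

theorem galPart_surjective (hn : 3 ≤ n) (h32 : ¬ (n = 3 ∧ q = 2)) :
    Function.Surjective (galPart hF p hn h32) := fun σ => ⟨dia 1 * fld σ, galPart_dia_fld hF p hn h32 1 σ⟩

theorem ker_galPart (hn : 3 ≤ n) (h32 : ¬ (n = 3 ∧ q = 2)) :
    (galPart hF p hn h32).ker = (dia (F := F) (q := q) (n := n)).range := by
  ext β
  rw [MonoidHom.mem_ker]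
  constructor
  · intro h
    obtain ⟨g, σ, rfl⟩ := decomposition hF p hn h32 β
    rw [galPart_dia_fld] at h
    exact ⟨g, by rw [h, map_one fld, mul_one]⟩
  · rintro ⟨g, rfl⟩
    have := galPart_dia_fld hF p hn h32 g 1
    rwa [map_one fld, mul_one] at this

include hF p in
theorem inndiag_normal (hn : 3 ≤ n) (h32 : ¬ (n = 3 ∧ q = 2)) (a : MulAut PSUn) {y : MulAut PSUn}
    (hy : y ∈ (dia (F := F) (q := q) (n := n)).range) : a * y * a⁻¹ ∈ (dia (F := F) (q := q) (n := n)).range := by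
  rw [← ker_galPart hF p hn h32] at hy ⊢
  exact (MonoidHom.normal_ker _).conj_mem y hy a

include hF p in
theorem center_PSU (hn : 3 ≤ n) (h32 : ¬ (n = 3 ∧ q = 2)) : Subgroup.center PSUn = ⊥ := by
  haveI := isSimpleGroup_PSU hF hn h32
  refine ((inferInstance : (Subgroup.center PSUn).Normal).eq_bot_or_eq_top).resolve_right fun h => ?_
  obtain ⟨e, f, w, hΦ, -⟩ := exists_frame hF (n := n) (by omega)
  obtain ⟨c, hc0, hc⟩ := exists_skew hF
  have hcomm := (Subgroup.mem_center_iff.mp (h ▸ Subgroup.mem_top (tau (q := q) f c)) (tau e c))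
  exact one_ne_zero (hΦ.ef.symm.trans
    ((tau_commute_iff hF p (by omega) (ne_zero_of_herm hF hΦ.ef).2 hΦ.ee hΦ.ff hc0 hc0 hc hc).mp hcomm))

include hF p in
theorem card_inn (hn : 3 ≤ n) (h32 : ¬ (n = 3 ∧ q = 2)) :
    Nat.card (Cfsg.Inn PSUn) = Nat.card PSUn := by
  refine (Nat.card_congr (MonoidHom.ofInjective (f := (MulAut.conj : PSUn →* MulAut PSUn)) ?_).toEquiv).symm
  rw [← MonoidHom.ker_eq_bot_iff, eq_bot_iff]
  intro x hx
  rw [← center_PSU hF p hn h32, Subgroup.mem_center_iff]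
  intro y
  have := congrArg (fun α : MulAut PSUn => α y) (MonoidHom.mem_ker.mp hx)
  simp only [MulAut.conj_apply, MulAut.one_apply] at this
  exact (mul_inv_eq_iff_eq_mul.mp this).symm

include hF p in
theorem card_range_dia (hn : 3 ≤ n) :
    Nat.card (dia (F := F) (q := q) (n := n)).range = Nat.gcd n (q + 1) * Nat.card PSUn := by
  have hker : (dia (F := F) (q := q) (n := n)).ker = (scU (F := F) (q := q) (n := n)).range := by
    ext g
    rw [MonoidHom.mem_ker, dia_eq_one_iff hF p hn]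
    exact ⟨fun ⟨u, hu⟩ => ⟨u, hu.symm⟩, fun ⟨u, hu⟩ => ⟨u, hu.symm⟩⟩
  have hinj : Function.Injective (scU (F := F) (q := q) (n := n)) := fun a b h => by
    refine Subtype.ext (Units.ext ?_)
    have := congrFun (congrFun (congrArg (fun g : GUn => (g.1 : Mat)) h) ⟨0, by omega⟩) ⟨0, by omega⟩
    simpa [scU_coe] using this
  have h1 := (dia (F := F) (q := q) (n := n)).ker.index_mul_card
  rw [Subgroup.index_ker, hker, ← Nat.card_congr (MonoidHom.ofInjective hinj).toEquiv, card_U1 hF,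
    ← card_center_mul_card_PSU hF (show 1 ≤ n by omega)] at h1
  exact Nat.eq_of_mul_eq_mul_right (show 0 < q + 1 by omega) (h1.trans (by ring))

theorem card_gal {p f : ℕ} [Fact p.Prime] (hf : q = p ^ f) (hF : Fintype.card F = q ^ 2) :
    IsCyclic (F ≃+* F) ∧ Nat.card (F ≃+* F) = 2 * f := by
  have h : Fintype.card F = p ^ (f * 2) := by rw [hF, hf, ← pow_mul]
  haveI : CharP F p := charP_of_card_eq_prime_pow h
  rw [mul_comm 2 f]
  exact AutPSL.gal_cyclic_card h

include hF p in
theorem card_mulAut {f : ℕ} (hq : q = p ^ f) (hn : 3 ≤ n) (h32 : ¬ (n = 3 ∧ q = 2)) :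
    Nat.card (MulAut PSUn) = Nat.gcd n (q + 1) * (2 * f) * Nat.card PSUn := by
  rw [← (galPart hF p hn h32).ker.index_mul_card, Subgroup.index_ker,
    MonoidHom.range_eq_top.mpr (galPart_surjective hF p hn h32), Subgroup.card_top, ker_galPart,
    card_range_dia hF p hn, (card_gal hq hF).2]
  ring

include hF p in
theorem out_structure {f : ℕ} (hq : q = p ^ f) (hn : 3 ≤ n) (h32 : ¬ (n = 3 ∧ q = 2)) :
    ∃ φ : Cfsg.Out PSUn →* Multiplicative (ZMod (2 * f)),
      Function.Surjective φ ∧ IsCyclic φ.ker ∧ Nat.card φ.ker = Nat.gcd n (q + 1) := by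
  classical
  obtain ⟨hc, hcard⟩ := card_gal hq hF
  let E : (F ≃+* F) ≃* Multiplicative (ZMod (2 * f)) :=
    mulEquivOfCyclicCardEq (by rw [hcard, Nat.card_congr Multiplicative.toAdd, Nat.card_zmod])
  let ψ : MulAut PSUn →* Multiplicative (ZMod (2 * f)) := E.toMonoidHom.comp (galPart hF p hn h32)
  have hψker : ψ.ker = (dia (F := F) (q := q) (n := n)).range := by
    rw [← ker_galPart hF p hn h32]
    ext β
    simp [ψ, MonoidHom.mem_ker]
  have hle : Cfsg.Inn PSUn ≤ ψ.ker := hψker ▸ inn_le_range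
  let φ : Cfsg.Out PSUn →* Multiplicative (ZMod (2 * f)) := QuotientGroup.lift _ ψ hle
  have hkerφ : φ.ker = ψ.ker.map (QuotientGroup.mk' (Cfsg.Inn PSUn)) := QuotientGroup.ker_lift _ ψ hle
  refine ⟨φ, fun y => ?_, ?_, ?_⟩
  · obtain ⟨β, hβ⟩ := galPart_surjective hF p hn h32 (E.symm y)
    exact ⟨QuotientGroup.mk β, by show E (galPart hF p hn h32 β) = y; rw [hβ, E.apply_symm_apply]⟩
  · set Φ : GUn →* Cfsg.Out PSUn := (QuotientGroup.mk' _).comp dia with hΦ
    have hker : φ.ker = Φ.range := by rw [hkerφ, hψker, MonoidHom.map_range]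
    set d : GUn →* U1 F q := MonoidHom.codRestrict
      ((Matrix.GeneralLinearGroup.det : GL (Fin n) F →* Fˣ).comp (Cfsg.GU n F q).subtype) (U1 F q) (fun g => by
        rw [mem_U1]
        have h := congrArg Matrix.det ((mem_GU_iff hF g.1).mp g.2)
        rw [Matrix.det_mul, Matrix.det_transpose, Matrix.det_one, ← RingHom.mapMatrix_apply,
          ← RingHom.map_det, conjHom_apply, ← pow_succ'] at h
        exact h) with hd
    haveI : IsCyclic d.range := Subgroup.isCyclic _
    obtain ⟨⟨_, g₀, rfl⟩, hg₀⟩ := IsCyclic.exists_generator (α := d.range)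
    have hone : ∀ g : GUn, d g = 1 → Φ g = 1 := by
      intro g hg
      have hdet : (g.1 : Mat).det = 1 := congrArg (fun u : U1 F q => ((u : Fˣ) : F)) hg
      let s : SUn := ⟨⟨(g.1 : Mat), hdet⟩, g.2⟩
      rw [show g = suG s from Subtype.ext (Units.ext rfl)]
      show (QuotientGroup.mk (dia (suG s)) : Cfsg.Out PSUn) = 1
      rw [dia_suG, QuotientGroup.eq_one_iff]
      exact ⟨pr s, rfl⟩
    rw [hker]
    refine ⟨⟨⟨Φ g₀, g₀, rfl⟩, ?_⟩⟩
    rintro ⟨_, g, rfl⟩
    obtain ⟨k, hk⟩ := hg₀ ⟨d g, g, rfl⟩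
    refine ⟨k, Subtype.ext ?_⟩
    have hk' : d g₀ ^ k = d g := congrArg Subtype.val hk
    have h1 := hone ((g₀ ^ k)⁻¹ * g) (by rw [map_mul, map_inv, map_zpow, hk', inv_mul_cancel])
    rw [map_mul, map_inv, map_zpow, inv_mul_eq_one] at h1
    show (Φ g₀) ^ k = Φ g
    exact h1
  · have h1 := ((QuotientGroup.mk' (Cfsg.Inn PSUn)).subgroupMap ψ.ker).ker.index_mul_card
    rw [Subgroup.index_ker, MonoidHom.range_eq_top.mpr (MonoidHom.subgroupMap_surjective _ _), Subgroup.card_top] at h1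
    have h2 : ((QuotientGroup.mk' (Cfsg.Inn PSUn)).subgroupMap ψ.ker).ker = (Cfsg.Inn PSUn).subgroupOf ψ.ker := by
      ext x
      rw [MonoidHom.mem_ker, Subgroup.mem_subgroupOf, ← Subtype.val_inj]
      exact QuotientGroup.eq_one_iff _
    rw [h2, Nat.card_congr (Subgroup.subgroupOfEquivOfLe hle).toEquiv, card_inn hF p hn h32, hψker,
      card_range_dia hF p hn] at h1
    haveI : Finite SUn := Subtype.finite
    rw [hkerφ, hψker]
    exact Nat.eq_of_mul_eq_mul_right Nat.card_pos h1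

end Cfsg.Agent.Lib.Classical.AutPSU
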