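import Cfsg.Agent.Lib.Classical.AutPSU.InvolModel

/-!
Normal forms of the involutory field-type automorphisms of `PSU_n(q)`, odd `q`.
-/

set_option autoImplicit false

namespace Cfsg.Agent.Lib.Classical.AutPSU

open Matrix
open Cfsg.Agent.Lib.Geometry (exists_mul_conj_eq)
open Cfsg.Agent.Lib.Classical

/-- The symplectic form's stabiliser, as a matrix group. -/
theorem oddFree_gramStab_J {F : Type*} [Field F] [Fintype F] {n m : ℕ} (hodd : Odd (Fintype.card F)) (hm : 2 ≤ m)
    (e : Fin m ⊕ Fin m ≃ Fin n) :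
    OddFree.OddFree (AutPSL.gramStab (Matrix.reindex e e (Matrix.J (Fin m) F))) := by
  classical
  obtain ⟨G, hG⟩ : ∃ G : GL (Fin n) F, (G : Matrix (Fin n) (Fin n) F) = Matrix.reindex e e (Matrix.J (Fin m) F) :=
    ⟨((Matrix.isUnit_iff_isUnit_det _).mpr (by
      rw [Matrix.det_reindex_self]; exact Matrix.isUnit_det_J (Fin m) F)).unit, rfl⟩
  rw [← hG]
  let R : Matrix (Fin m ⊕ Fin m) (Fin m ⊕ Fin m) F ≃ₐ[F] Matrix (Fin n) (Fin n) F := Matrix.reindexAlgEquiv F F e
  let ι : Subtype (fun A => A ∈ Matrix.symplecticGroup (Fin m) F) →* GL (Fin n) F :=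
    (Units.map (R : Matrix (Fin m ⊕ Fin m) (Fin m ⊕ Fin m) F →* Matrix (Fin n) (Fin n) F)).comp
      (MonoidHom.toHomUnits
        { toFun := fun A => (A.1 : Matrix (Fin m ⊕ Fin m) (Fin m ⊕ Fin m) F), map_one' := rfl, map_mul' := fun _ _ => rfl })
  have hιc : ∀ A, (ι A : Matrix (Fin n) (Fin n) F) = R A.1 := fun A => rfl
  have hRt : ∀ X, R Xᵀ = (R X)ᵀ := fun X => by
    simp [R, Matrix.reindexAlgEquiv_apply, Matrix.reindex_apply, Matrix.transpose_submatrix]
  have hRJ : R (Matrix.J (Fin m) F) = (G : Matrix (Fin n) (Fin n) F) := by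
    rw [hG]; simp [R, Matrix.reindexAlgEquiv_apply]
  have hmem : ∀ A, ι A ∈ AutPSL.gramStab (G : Matrix (Fin n) (Fin n) F) := fun A => by
    show (ι A : Matrix (Fin n) (Fin n) F) * G * (ι A : Matrix (Fin n) (Fin n) F)ᵀ = G
    rw [hιc, ← hRJ, ← hRt, ← map_mul, ← map_mul, SymplecticGroup.mem_iff.mp A.2]
  let θ := ι.codRestrict (AutPSL.gramStab (G : Matrix (Fin n) (Fin n) F)) hmem
  have hθ : Function.Bijective θ := by
    refine ⟨fun A B h => Subtype.ext (R.injective ?_), fun g => ?_⟩
    · rw [← hιc, ← hιc]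
      exact congrArg (fun z : AutPSL.gramStab (G : Matrix (Fin n) (Fin n) F) => ((z.1 : GL (Fin n) F) : Matrix (Fin n) (Fin n) F)) h
    · have hAm : R.symm (g.1 : Matrix (Fin n) (Fin n) F) ∈ Matrix.symplecticGroup (Fin m) F := by
        rw [SymplecticGroup.mem_iff]
        refine R.injective ?_
        rw [map_mul, map_mul, hRt, R.apply_symm_apply, hRJ]
        exact g.2
      refine ⟨⟨_, hAm⟩, Subtype.ext (Units.ext ?_)⟩
      show R (R.symm (g.1 : Matrix (Fin n) (Fin n) F)) = _
      rw [R.apply_symm_apply]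
  refine OddFree.OddFree.congr ?_ (MulEquiv.ofBijective θ hθ)
  intro N hN hN2
  haveI := hN
  haveI : IsSimpleGroup (Cfsg.PSp m F) := isSimpleGroup_psp hm fun _ => by
    have := Fintype.one_lt_card (α := F)
    rw [Nat.odd_iff] at hodd
    omega
  let π : Subtype (fun A => A ∈ Matrix.symplecticGroup (Fin m) F) →* Cfsg.PSp m F := QuotientGroup.mk' _
  have hπ : Function.Surjective π := QuotientGroup.mk'_surjective _
  rcases (hN.map π hπ).eq_bot_or_eq_top with h | h
  · rw [eq_bot_iff]
    intro x hx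
    have hxc : x ∈ Subgroup.center _ := (QuotientGroup.eq_one_iff x).mp (by
      have : π x ∈ N.map π := ⟨x, hx, rfl⟩
      rwa [h, Subgroup.mem_bot] at this)
    refine Subgroup.mem_bot.mpr (OddFree.eq_one_of_sq hN2 hx (Subtype.ext ?_))
    show x.1 * x.1 = 1
    rcases (mem_center_sp_iff (by omega) x).mp hxc with e | e <;> rw [e] <;> simp
  · exfalso
    have hd := (Subgroup.card_map_dvd N π)
    rw [h, Subgroup.card_top] at hd
    have hev : 2 ∣ Nat.card (Cfsg.PSp m F) := by
      let J₀ : Subtype (fun A => A ∈ Matrix.symplecticGroup (Fin m) F) := ⟨_, SymplecticGroup.J_mem (Fin m) F⟩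
      have ho : orderOf (π J₀) = 2 := by
        haveI : Fact (Nat.Prime 2) := ⟨Nat.prime_two⟩
        refine orderOf_eq_prime ?_ fun e => ?_
        · rw [← map_pow]
          refine (QuotientGroup.eq_one_iff _).mpr ((mem_center_sp_iff (by omega) _).mpr (Or.inr ?_))
          rw [sq]
          exact Matrix.J_squared (Fin m) F
        · have h' := (mem_center_sp_iff (by omega) _).mp ((QuotientGroup.eq_one_iff J₀).mp e)
          have hne : (J₀.1) (Sum.inl ⟨0, by omega⟩) (Sum.inr ⟨0, by omega⟩) = -1 := by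
            show Matrix.J (Fin m) F _ _ = _
            simp [Matrix.J]
          rcases h' with h' | h' <;> rw [h'] at hne <;> simp at hne
      exact ho ▸ orderOf_dvd_natCard _
    exact (Nat.not_even_iff_odd.mpr hN2) (even_iff_two_dvd.mpr (hev.trans hd))

variable {F : Type*} [Field F] [Fintype F] {q n : ℕ}

set_option quotPrecheck false in
local notation "SUn" => Subtype (fun A => A ∈ Cfsg.SU n F q)
set_option quotPrecheck false in
local notation "GUn" => Subtype (fun A => A ∈ Cfsg.GU n F q)
set_option quotPrecheck false in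
local notation "GLn" => GL (Fin n) F
set_option quotPrecheck false in
local notation "Vn" => (Fin n → F)
set_option quotPrecheck false in
local notation "Mat" => Matrix (Fin n) (Fin n) F
set_option quotPrecheck false in
local notation "PSUn" => Cfsg.PSU n F q
set_option quotPrecheck false in
local notation "sc" => (GeneralLinearGroup.scalar (Fin n) : Fˣ →* GL (Fin n) F)

variable (hF : Fintype.card F = q ^ 2)

set_option quotPrecheck false in
local notation "B" => hermBilin hF n
set_option quotPrecheck false in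
local notation "σq" => conjHom hF

variable (p : ℕ) [Fact p.Prime] [CharP F p] {σ : F ≃+* F} {K : Type*} [Field K] [Fintype K] {j : K →+* F}

include hF p in
/-- The orthogonal kind. -/
theorem invProps_diag (hn : 3 ≤ n) (h32 : ¬ (n = 3 ∧ q = 2)) (hcard : Fintype.card F = Fintype.card K ^ 2)
    (hodd : Odd (Fintype.card K)) (hj : ∀ a, σ a = a ↔ ∃ b, j b = a) (htwo : σ * σ = 1) (hσ1 : σ ≠ 1)
    (hconj : ∀ a, σ a = a ^ q) (d : Fin n → F) (G : GUn) (hG : (G.1 : Mat) = Matrix.diagonal d) :
    CoreCriterion.InvProps (dia G * fld σ : MulAut PSUn) := by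
  classical
  have h2K : (2 : K) ≠ 0 := OddFree.two_ne_zero_of_odd hodd
  have h2 : (2 : F) ≠ 0 := by rw [← map_ofNat j]; exact (map_ne_zero_iff _ j.injective).mpr h2K
  have hσσ : ∀ a, σ (σ a) = a := fun a => RingEquiv.congr_fun htwo a
  have hd : ∀ i, d i * σ (d i) = 1 := fun i => by
    have h := congrFun (congrFun ((mem_GU_iff hF G.1).mp G.2) i) i
    rw [hG, Matrix.diagonal_transpose, Matrix.diagonal_map (map_zero _), Matrix.diagonal_mul_diagonal,
      Matrix.diagonal_apply_eq, Matrix.one_apply_eq, conjHom_apply, ← hconj] at h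
    exact h
  have hb : ∀ i, ∃ b : F, b ≠ 0 ∧ d i * σ b = b := fun i =>
    AutPSL.exists_twist_scalar Nat.prime_two (by rw [sq]; exact htwo) hσ1 (a := d i) (by
      simp [AutPSL.galNorm, hd i])
  choose b hb0 hb using hb
  have ha : ∀ i, ∃ a : K, j a = b i * σ (b i) := fun i =>
    (hj _).mp (by rw [map_mul, hσσ, mul_comm])
  choose a ha using ha
  have ha0 : ∀ i, a i ≠ 0 := fun i e => by
    have := ha i
    rw [e, map_zero, eq_comm, mul_eq_zero] at this
    rcases this with h | h
    · exact hb0 i h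
    · exact hb0 i (σ.injective (h.trans (map_zero σ).symm))
  let M : GLn := AutPSL.diagGL fun i => Units.mk0 (b i) (hb0 i)
  have hM : (M : Mat) = Matrix.diagonal b := rfl
  have hMi : ((M⁻¹ : GLn) : Mat) = Matrix.diagonal fun i => (b i)⁻¹ := by
    show Matrix.diagonal _ = _
    congr 1
  let A' : Matrix (Fin n) (Fin n) K := Matrix.diagonal fun i => (((Units.mk0 (a i) (ha0 i))⁻¹ : Kˣ) : K)
  have m : Model σ j G M (Matrix.diagonal a) A' := by
    refine ⟨hj, htwo, hconj, ⟨1, ?_⟩, ⟨1, one_ne_zero, ?_⟩, ?_⟩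
    · rw [map_one, one_mul, eq_mul_inv_iff_mul_eq]
      refine Units.ext ?_
      rw [Units.val_mul, AutPSL.galGL_coe, hM, hG, Matrix.diagonal_map (map_zero σ), Matrix.diagonal_mul_diagonal]
      congr 1
      funext i
      exact hb i
    · rw [one_smul, hM, Matrix.diagonal_transpose, Matrix.diagonal_map (map_zero σ),
        Matrix.diagonal_map (map_zero j), Matrix.diagonal_mul_diagonal]
      congr 1
      funext i
      exact (ha i).symm
    · rw [Matrix.diagonal_mul_diagonal, ← Matrix.diagonal_one]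
      congr 1
      funext i
      simp [ha0 i]
  have hfree : OddFree.OddFree (AutPSL.gramStab A') := by
    rw [AutPSL.gramStab_diagonal_eq h2K]
    exact OddFree.oddFree_diag hodd n hn _ fun i => Units.ne_zero _
  refine ⟨fun N hN hNn hN2 => m.odd_fixed_eq_bot hF p hn h32 hfree N hN hNn hN2, fun γ hc hγodd hfix => ?_⟩
  obtain ⟨g, τ, rfl⟩ := decomposition hF p hn h32 γ
  have hγL := Model.odd_lift hF p hn hγodd
  have hgoff : ∀ r s, r ≠ s → (g.1 : Mat) r s = 0 := by
    intro r s hrs
    obtain ⟨l, hl⟩ : ∃ l : Fin n, l ∉ ({r, s} : Finset (Fin n)) := by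
      by_contra hcon
      push Not at hcon
      have := (Finset.card_le_card (s := (Finset.univ : Finset (Fin n))) (t := {r, s}) fun x _ => hcon x).trans
        Finset.card_le_two
      simp at this
      omega
    simp only [Finset.mem_insert, Finset.mem_singleton, not_or] at hl
    let v : Fin n → F := fun k => if k = r ∨ k = l then -1 else 1
    have hv : ∀ k, v k * v k = 1 := fun k => by simp only [v]; split_ifs <;> simp
    have hvσ : ∀ k, σ (v k) = v k := fun k => by simp only [v]; split_ifs <;> simp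
    have hdet : (Matrix.diagonal v).det = 1 := by
      rw [Matrix.det_diagonal, Finset.prod_eq_mul r l (fun e => hl.1 e.symm)
        (fun k _ hk => by simp [v, hk.1, hk.2]) (fun h => absurd (Finset.mem_univ _) h)
        (fun h => absurd (Finset.mem_univ _) h)]
      simp [v]
    let S : SUn := ⟨⟨Matrix.diagonal v, hdet⟩, (mem_SU_iff hF _).mpr (diagonal_preserves hF _ fun k => by
      rw [pow_succ, ← hconj, hvσ, hv])⟩
    have hfixS : (dia G * fld σ : MulAut PSUn) (pr S) = pr S := by
      rw [MulAut.mul_apply, fld_pr, dia_pr]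
      refine congrArg pr (Subtype.ext (Subtype.ext ?_))
      show (G.1 : Mat) * (Matrix.diagonal v).map σ * ((G.1⁻¹ : GLn) : Mat) = Matrix.diagonal v
      rw [Matrix.diagonal_map (map_zero σ), show (fun l => σ (v l)) = v from funext hvσ,
        show (G.1 : Mat) * Matrix.diagonal v = Matrix.diagonal v * (G.1 : Mat) by
          rw [hG, Matrix.diagonal_mul_diagonal, Matrix.diagonal_mul_diagonal]; simp only [mul_comm],
        mul_assoc, Units.mul_inv, mul_one]
    have h := AutPSL.sign_commute p (by omega) hγL rfl (s := S.1)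
      (by
        show (Matrix.diagonal v).map τ = Matrix.diagonal v
        rw [Matrix.diagonal_map (map_zero τ)]
        congr 1
        funext k
        simp only [Function.comp_apply, v]
        split_ifs <;> simp)
      (by
        show Matrix.diagonal v * Matrix.diagonal v = 1
        rw [Matrix.diagonal_mul_diagonal, ← Matrix.diagonal_one]
        congr 1; funext k; exact hv k)
      (Model.lift_fix hF p (hfix _ hfixS))
    have h' := congrFun (congrFun h r) s
    change ((g.1 : Mat) * Matrix.diagonal v) r s = (Matrix.diagonal v * (g.1 : Mat)) r s at h'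
    rw [Matrix.mul_diagonal, Matrix.diagonal_mul, show v r = -1 by simp [v],
      show v s = 1 by simp [v, hrs.symm, Ne.symm hl.2]] at h'
    exact (mul_eq_zero.mp (show (2 : F) * (g.1 : Mat) r s = 0 by linear_combination h')).resolve_left h2
  obtain ⟨g', hg'⟩ : ∃ g' : GLn, g' = M⁻¹ * g.1 * AutPSL.galGL τ M := ⟨_, rfl⟩
  have hentry : ∀ r s, (g' : Mat) r s = (b r)⁻¹ * (g.1 : Mat) r s * τ (b s) := fun r s => by
    rw [hg', Units.val_mul, Units.val_mul, AutPSL.galGL_coe, hM, hMi, Matrix.diagonal_map (map_zero τ),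
      Matrix.mul_diagonal, Matrix.diagonal_mul]
  have hoff : ∀ r s, r ≠ s → (g' : Mat) r s = 0 := fun r s hrs => by
    rw [hentry, hgoff r s hrs, mul_zero, zero_mul]
  have hg0 : ∀ r, (g' : Mat) r r ≠ 0 := fun r e => by
    have h := congrFun (congrFun g'.mul_inv r) r
    rw [Matrix.mul_apply, Finset.sum_eq_zero (fun k _ => by
      rcases eq_or_ne r k with rfl | hrk
      · rw [e, zero_mul]
      · rw [hoff r k hrk, zero_mul]), Matrix.one_apply_eq] at h
    exact zero_ne_one h
  -- a rotation, as a product of two reflections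
  let i₀ : Fin n := ⟨0, by omega⟩
  let i₁ : Fin n := ⟨1, by omega⟩
  let i₂ : Fin n := ⟨2, by omega⟩
  have h01 : i₀ ≠ i₁ := by simp [i₀, i₁]
  have hrot : ∀ t : K, a i₀ + a i₁ * (t * t) ≠ 0 →
      τ (j (a i₀ / (a i₀ + a i₁ * (t * t)))) = j (a i₀ / (a i₀ + a i₁ * (t * t))) := by
    intro t hQ
    obtain ⟨Q, hQe⟩ : ∃ Q, Q = a i₀ + a i₁ * (t * t) := ⟨_, rfl⟩
    rw [← hQe] at hQ ⊢
    let v : Fin n → K := Pi.single i₀ 1 + Pi.single i₁ t
    let w : Fin n → K := fun k => -(2 / Q) * (a k * v k)
    let D₀ : Matrix (Fin n) (Fin n) K := Matrix.diagonal fun k => if k = i₀ then -1 else 1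
    let R : Matrix (Fin n) (Fin n) K := D₀ * (1 + Matrix.vecMulVec v w)
    have hwv : w ⬝ᵥ v = -2 := by
      simp only [dotProduct, w, v, Pi.add_apply]
      rw [Finset.sum_eq_add i₀ i₁ h01 (fun k _ hk => by simp [hk.1, hk.2]) (by simp) (by simp)]
      simp [h01, h01.symm]
      field_simp
      rw [hQe]; ring
    have hdet : R.det = 1 := by
      rw [Matrix.det_mul, Matrix.vecMulVec_eq Unit, Matrix.det_one_add_replicateCol_mul_replicateRow, hwv,
        Matrix.det_diagonal, Finset.prod_ite_eq' Finset.univ i₀ (fun _ => (-1 : K)), if_pos (Finset.mem_univ _)]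
      ring
    have hAv : ∀ X : Fin n → K, Matrix.diagonal a *ᵥ X = fun k => a k * X k := fun X => funext fun k =>
      Matrix.mulVec_diagonal _ _ _
    have hD : D₀ᵀ * Matrix.diagonal a * D₀ = Matrix.diagonal a := by
      simp only [D₀, Matrix.diagonal_transpose, Matrix.diagonal_mul_diagonal]
      congr 1
      funext k
      split_ifs <;> ring
    have hT : (1 + Matrix.vecMulVec v w)ᵀ * Matrix.diagonal a * (1 + Matrix.vecMulVec v w) = Matrix.diagonal a := by
      rw [Matrix.transpose_add, Matrix.transpose_one, Matrix.transpose_vecMulVec]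
      ext r s
      have hsum : ((1 + Matrix.vecMulVec w v) * Matrix.diagonal a * (1 + Matrix.vecMulVec v w)) r s =
          (Matrix.diagonal a) r s + a r * v r * w s + w r * (v s * a s) + w r * w s * ∑ k, v k * a k * v k := by
        rw [add_mul (1 : Matrix (Fin n) (Fin n) K), one_mul, mul_add, mul_one, add_mul, Matrix.vecMulVec_mul,
          Matrix.vecMulVec_mul_vecMulVec, Matrix.mul_vecMulVec, hAv]
        simp only [Matrix.add_apply, Matrix.vecMulVec_apply, Matrix.vecMul_diagonal, dotProduct]
        simp only [Pi.smul_apply, smul_eq_mul, Matrix.vecMul_diagonal]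
        ring
      rw [hsum, show ∑ k, v k * a k * v k = Q by
        simp only [v, Pi.add_apply]
        rw [Finset.sum_eq_add i₀ i₁ h01 (fun k _ hk => by simp [hk.1, hk.2]) (by simp) (by simp), hQe]
        simp [h01, h01.symm]
        ring]
      simp only [w]
      field_simp
      ring
    have hRA : Rᵀ * Matrix.diagonal a * R = Matrix.diagonal a := by
      rw [Matrix.transpose_mul,
        show (1 + Matrix.vecMulVec v w)ᵀ * D₀ᵀ * Matrix.diagonal a * (D₀ * (1 + Matrix.vecMulVec v w)) =
          (1 + Matrix.vecMulVec v w)ᵀ * (D₀ᵀ * Matrix.diagonal a * D₀) * (1 + Matrix.vecMulVec v w) by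
          simp only [mul_assoc], hD, hT]
    let h := GeneralLinearGroup.mkOfDetNeZero R (by rw [hdet]; exact one_ne_zero)
    obtain ⟨c, hc'⟩ := m.rel hF p hfix (h := h) ((gram_iff m.inv _).mp hRA) hdet
    rw [← hg'] at hc'
    have hent : ∀ r s, (g' : Mat) r r * τ (j (R r s)) = c * (j (R r s) * (g' : Mat) s s) := fun r s => by
      have e := congrFun (congrFun hc' r) s
      rw [Matrix.smul_apply, smul_eq_mul, Matrix.mul_apply,
        Finset.sum_eq_single r (fun x _ hx => by rw [hoff r x hx.symm, zero_mul]) (by simp), Matrix.map_apply,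
        Matrix.map_apply, Matrix.mul_apply,
        Finset.sum_eq_single s (fun x _ hx => by rw [hoff x s hx, mul_zero]) (by simp)] at e
      exact e
    have hR : ∀ r, R r r = (if r = i₀ then -1 else 1) * (1 + v r * w r) := fun r => by
      simp only [R, D₀, Matrix.diagonal_mul, Matrix.add_apply, Matrix.one_apply_eq, Matrix.vecMulVec_apply]
    have hc1 : c = 1 := by
      have e := hent i₂ i₂
      have e2 : R i₂ i₂ = 1 := by
        rw [hR, if_neg (by simp [i₀, i₂]), one_mul]
        simp [v, i₀, i₁, i₂, Fin.ext_iff]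
      rw [e2, map_one, map_one, mul_one, one_mul] at e
      exact mul_right_cancel₀ (hg0 i₂) (by rw [one_mul]; exact e.symm)
    have e := hent i₀ i₀
    have e2 : R i₀ i₀ = 2 * (a i₀ / Q) - 1 := by
      rw [hR, if_pos rfl]
      simp [v, w, h01]
      field_simp
      ring
    rw [hc1, one_mul, e2, map_sub, map_one, map_mul, map_ofNat, map_sub, map_one, map_mul, map_ofNat] at e
    have e3 := mul_left_cancel₀ (hg0 i₀) (e.trans (mul_comm _ _))
    exact mul_left_cancel₀ h2 (by linear_combination e3)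
  have hδ : ∀ t : K, τ (j (a i₁ / a i₀ * (t * t))) = j (a i₁ / a i₀ * (t * t)) := by
    intro t
    by_cases hQ : a i₀ + a i₁ * (t * t) = 0
    · rw [show a i₁ / a i₀ * (t * t) = -1 by
        field_simp [ha0 i₀]
        linear_combination hQ, map_neg, map_one, map_neg, map_one]
    · have h := hrot t hQ
      have e : a i₁ / a i₀ * (t * t) = (a i₀ / (a i₀ + a i₁ * (t * t)))⁻¹ - 1 := by
        rw [inv_div, add_div, div_self (ha0 i₀)]
        ring
      rw [e, map_sub, map_one, map_inv₀, map_sub, map_one, map_inv₀, h]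
  have hτ : ∀ x, τ (j x) = j x := by
    have h1 := hδ 1
    rw [mul_one, mul_one] at h1
    have hsq : ∀ t : K, τ (j (t * t)) = j (t * t) := fun t => by
      have h := hδ t
      rw [map_mul j, map_mul τ, h1] at h
      exact mul_left_cancel₀ ((map_ne_zero_iff _ j.injective).mpr (div_ne_zero (ha0 _) (ha0 _))) h
    intro x
    have hx : x = (x + 1) / 2 * ((x + 1) / 2) - (x - 1) / 2 * ((x - 1) / 2) := by field_simp; ring
    rw [hx, map_sub, map_sub, hsq, hsq]
  refine m.eq_one_of_rigid hF p hn hcard hσ1 hγodd hc hτ ?_ fun x => ⟨x, ?_, rfl⟩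
  · rw [← hg']; exact hoff
  · rw [Matrix.diagonal_apply_eq]; exact ha0 x

omit [Fintype F] [Fintype K] in
/-- Scalar blocks. -/
theorem blocks_mul {L : Type*} [CommRing L] {m : ℕ} (a b c d a' b' c' d' : L) :
    fromBlocks (a • (1 : Matrix (Fin m) (Fin m) L)) (b • (1 : Matrix (Fin m) (Fin m) L))
        (c • (1 : Matrix (Fin m) (Fin m) L)) (d • (1 : Matrix (Fin m) (Fin m) L)) *
      fromBlocks (a' • (1 : Matrix (Fin m) (Fin m) L)) (b' • (1 : Matrix (Fin m) (Fin m) L))
        (c' • (1 : Matrix (Fin m) (Fin m) L)) (d' • (1 : Matrix (Fin m) (Fin m) L)) =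
    fromBlocks ((a * a' + b * c') • 1) ((a * b' + b * d') • 1) ((c * a' + d * c') • 1) ((c * b' + d * d') • 1) := by
  simp [fromBlocks_multiply, smul_smul, ← add_smul, mul_comm]

include hF p in
/-- The symplectic kind. -/
theorem invProps_symp (hn : 3 ≤ n) (h32 : ¬ (n = 3 ∧ q = 2)) (hcard : Fintype.card F = Fintype.card K ^ 2)
    (hodd : Odd (Fintype.card K)) (hj : ∀ a, σ a = a ↔ ∃ b, j b = a) (htwo : σ * σ = 1) (hσ1 : σ ≠ 1)
    (hconj : ∀ a, σ a = a ^ q) {k : ℕ} (e : Fin k ⊕ Fin k ≃ Fin n) (G : GUn)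
    (hG : (G.1 : Mat) = Matrix.reindex e e (Matrix.J (Fin k) F)) :
    CoreCriterion.InvProps (dia G * fld σ : MulAut PSUn) := by
  classical
  have h2K : (2 : K) ≠ 0 := OddFree.two_ne_zero_of_odd hodd
  have h2 : (2 : F) ≠ 0 := by rw [← map_ofNat j]; exact (map_ne_zero_iff _ j.injective).mpr h2K
  have hk : 2 ≤ k := by
    have := Fintype.card_congr e
    simp at this
    omega
  obtain ⟨ω, hω0, hω⟩ := exists_skew hF
  rw [conjHom_apply, ← hconj] at hω
  obtain ⟨t, ht⟩ := exists_mul_conj_eq (conjHom_ne_id hF) (conjHom_conjHom hF) (s := (-1 : F)) (by simp)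
  rw [conjHom_apply, ← hconj] at ht
  have ht0 : t ≠ 0 := fun e0 => by simp [e0] at ht
  have hσt : σ t ≠ 0 := fun e0 => ht0 (σ.injective (e0.trans (map_zero σ).symm))
  let R : Matrix (Fin k ⊕ Fin k) (Fin k ⊕ Fin k) F ≃ₐ[F] Mat := Matrix.reindexAlgEquiv F F e
  let bl : F → F → F → F → Matrix (Fin k ⊕ Fin k) (Fin k ⊕ Fin k) F :=
    fun a b c d => fromBlocks (a • 1) (b • 1) (c • 1) (d • 1)
  have hone : bl 1 0 0 1 = 1 := by simp [bl, fromBlocks_one]
  let M : GLn := ⟨R (bl 1 ω t (-(t * ω))), R (bl 2⁻¹ (2 * t)⁻¹ (2 * ω)⁻¹ (-(2 * t * ω)⁻¹)),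
    by rw [← map_mul]; refine (congrArg R ?_).trans (map_one R)
       rw [← hone]; simp only [bl, blocks_mul]
       congr 2 <;> field_simp <;> ring,
    by rw [← map_mul]; refine (congrArg R ?_).trans (map_one R)
       rw [← hone]; simp only [bl, blocks_mul]
       congr 2 <;> field_simp <;> ring⟩
  have hM : (M : Mat) = R (bl 1 ω t (-(t * ω))) := rfl
  have hJ : Matrix.J (Fin k) F = bl 0 (-1) 1 0 := by simp [bl, Matrix.J]
  have hG' : (G.1 : Mat) = R (bl 0 (-1) 1 0) := by
    rw [hG, ← hJ]; simp [R, Matrix.reindexAlgEquiv_apply]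
  have hRmap : ∀ X, (R X).map σ = R (X.map σ) := fun X => Matrix.ext fun _ _ => rfl
  have hRt : ∀ X, (R X)ᵀ = R Xᵀ := fun X => by
    simp [R, Matrix.reindexAlgEquiv_apply, Matrix.reindex_apply, Matrix.transpose_submatrix]
  have hblmap : ∀ a b c d, (bl a b c d).map σ = bl (σ a) (σ b) (σ c) (σ d) := fun a b c d => by
    have h1 : ∀ z : F, (z • (1 : Matrix (Fin k) (Fin k) F)).map σ = σ z • 1 := fun z => by
      rw [Matrix.map_smul' _ _ _ (map_mul σ), Matrix.map_one _ (map_zero σ) (map_one σ)]
    simp only [bl, fromBlocks_map, h1]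
  have hσM : (M : Mat).map σ = R (bl 1 (-ω) (σ t) (σ t * ω)) := by
    rw [hM, hRmap, hblmap, map_one, map_neg, map_mul, hω]; simp
  let A' : Matrix (Fin n) (Fin n) K := Matrix.reindex e e (Matrix.J (Fin k) K)
  have hA'j : A'.map j = R (bl 0 (-1) 1 0) := by
    rw [← hJ]
    ext x y
    show j (Matrix.J (Fin k) K (e.symm x) (e.symm y)) = Matrix.J (Fin k) F (e.symm x) (e.symm y)
    rcases e.symm x with x' | x' <;> rcases e.symm y with y' | y' <;> simp [Matrix.J, Matrix.one_apply, apply_ite j]
  have m : Model σ j G M (-A') A' := by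
    refine ⟨hj, htwo, hconj, ⟨Units.mk0 (-σ t) (neg_ne_zero.mpr hσt), ?_⟩,
      ⟨-(2 * ω), neg_ne_zero.mpr (mul_ne_zero h2 hω0), ?_⟩, ?_⟩
    · rw [← mul_assoc, eq_mul_inv_iff_mul_eq]
      refine Units.ext ?_
      rw [Units.val_mul, AutPSL.galGL_coe, hσM, hG', Units.val_mul, sc_coe_mul, Units.val_mk0, hM, ← map_mul,
        ← map_smul]
      congr 1
      simp only [bl, blocks_mul, fromBlocks_smul, smul_smul]
      congr 2 <;> first | ring1 | linear_combination ht | linear_combination ω * ht | linear_combination -ω * ht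
    · rw [hσM, hM, hRt, ← map_mul, Matrix.map_neg _ (map_neg j), hA'j, smul_neg, ← neg_smul, neg_neg, ← map_smul]
      congr 1
      simp only [bl, fromBlocks_transpose, Matrix.transpose_smul, Matrix.transpose_one, blocks_mul, fromBlocks_smul,
        smul_smul]
      congr 2 <;> first | ring1 | linear_combination ht | linear_combination ω * ht | linear_combination -ω * ht |
        linear_combination -(ω * ω) * ht
    · rw [neg_mul, show A' * A' = -1 from ?_, neg_neg]
      show (Matrix.reindexAlgEquiv K K e (Matrix.J (Fin k) K)) * (Matrix.reindexAlgEquiv K K e (Matrix.J (Fin k) K)) = -1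
      rw [← map_mul, Matrix.J_squared, map_neg, map_one]
  refine ⟨fun N hN hNn hN2 => m.odd_fixed_eq_bot hF p hn h32 (oddFree_gramStab_J hodd hk e) N hN hNn hN2,
    fun γ hc hγodd hfix => ?_⟩
  obtain ⟨g, τ, rfl⟩ := decomposition hF p hn h32 γ
  obtain ⟨g', hg'⟩ : ∃ g' : GLn, g' = M⁻¹ * g.1 * AutPSL.galGL τ M := ⟨_, rfl⟩
  have hA'xy : ∀ a b, A' (e a) (e b) = Matrix.J (Fin k) K a b := fun a b => by
    simp [A', Matrix.reindex_apply, Matrix.submatrix_apply]
  have key : ∀ x y : Fin n, x ≠ y → (∀ z, z ≠ x → A' y z = 0 ∧ A' z y = 0) →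
      A' x y + A' y x = 0 → A' y y = 0 →
      (∀ z, z ≠ x → (g' : Mat) z x = 0) ∧ (∀ z, z ≠ y → (g' : Mat) y z = 0) ∧ (g' : Mat) x x = (g' : Mat) y y ∧
        ∀ a : K, τ (j a) * (g' : Mat) x x = j a * (g' : Mat) x x := by
    intro x y hxy hGy hsum hGyy
    have hst : ∀ a : K, (Matrix.transvection x y a) * A' * (Matrix.transvection x y a)ᵀ = A' := by
      intro a
      have hT : (Matrix.transvection x y a)ᵀ = Matrix.transvection y x a := by
        simp [Matrix.transvection, Matrix.transpose_add, Matrix.transpose_single]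
      rw [hT]
      ext r c
      rcases eq_or_ne c x with rfl | hcx
      · rw [Matrix.mul_transvection_apply_same]
        rcases eq_or_ne r c with rfl | hrx
        · rw [Matrix.transvection_mul_apply_same, Matrix.transvection_mul_apply_same, hGyy]
          linear_combination a * hsum
        · rw [Matrix.transvection_mul_apply_of_ne _ _ _ _ hrx, Matrix.transvection_mul_apply_of_ne _ _ _ _ hrx,
            (hGy r hrx).2]
          ring
      · rw [Matrix.mul_transvection_apply_of_ne _ _ _ _ hcx]
        rcases eq_or_ne r x with rfl | hrx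
        · rw [Matrix.transvection_mul_apply_same, (hGy c hcx).1]
          ring
        · rw [Matrix.transvection_mul_apply_of_ne _ _ _ _ hrx]
    have hmapj : ∀ {L L' : Type _} [Field L] [Field L'] (f : L →+* L') (a : L),
        (Matrix.transvection x y a).map f = Matrix.transvection x y (f a) := by
      intro L L' _ _ f a
      ext r c
      simp [Matrix.transvection, Matrix.one_apply, Matrix.single_apply, apply_ite f]
    have hrel : ∀ a : K, (g' : Mat) * Matrix.transvection x y (τ (j a)) = Matrix.transvection x y (j a) * (g' : Mat) := by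
      intro a
      obtain ⟨c, hc'⟩ := m.rel hF p hfix
        (h := Matrix.SpecialLinearGroup.toGL (Matrix.SpecialLinearGroup.transvection hxy a)) (hst a)
        (Matrix.det_transvection_of_ne x y hxy a)
      rw [← hg'] at hc'
      change (g' : Mat) * ((Matrix.transvection x y a).map j).map (τ.toRingHom) =
        c • ((Matrix.transvection x y a).map j * (g' : Mat)) at hc'
      rw [hmapj j, show (Matrix.transvection x y (j a)).map τ.toRingHom = Matrix.transvection x y (τ.toRingHom (j a)) by
        ext r c; simp [Matrix.transvection, Matrix.one_apply, Matrix.single_apply, apply_ite τ]] at hc'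
      change (g' : Mat) * Matrix.transvection x y (τ (j a)) = _ at hc'
      suffices h : c = 1 by rw [hc', h, one_smul]
      have hE : ∀ b : F, (Matrix.transvection x y b - 1) * (Matrix.transvection x y b - 1) = 0 := fun b => by
        rw [Matrix.transvection, add_sub_cancel_left, Matrix.single_mul_single_of_ne _ _ _ _ hxy.symm]
      have hconj' : c • Matrix.transvection x y (j a) - 1 =
          (g' : Mat) * (Matrix.transvection x y (τ (j a)) - 1) * ((g'⁻¹ : GLn) : Mat) := by
        rw [mul_sub, mul_one, sub_mul, Units.mul_inv, hc', Matrix.smul_mul, mul_assoc, Units.mul_inv, mul_one]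
      have hsq : (c • Matrix.transvection x y (j a) - 1) * (c • Matrix.transvection x y (j a) - 1) = 0 := by
        rw [hconj', show ∀ X : Mat, (g' : Mat) * X * ((g'⁻¹ : GLn) : Mat) * ((g' : Mat) * X * ((g'⁻¹ : GLn) : Mat)) =
          (g' : Mat) * (X * (((g'⁻¹ : GLn) : Mat) * (g' : Mat)) * X) * ((g'⁻¹ : GLn) : Mat) from fun X => by simp only [mul_assoc],
          Units.inv_mul, mul_one, hE, mul_zero, zero_mul]
      have h := congrFun (congrFun hsq y) y
      rw [Matrix.mul_apply, Finset.sum_eq_single y (fun k _ hk => by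
        simp [Matrix.transvection, hxy, hxy.symm, Ne.symm hk]) (by simp)] at h
      simp [Matrix.transvection, hxy, hxy.symm] at h
      exact sub_eq_zero.mp h
    have hent : ∀ (a : K) r c, (g' : Mat) r x * (if c = y then τ (j a) else 0) =
        (if r = x then j a else 0) * (g' : Mat) y c := by
      intro a r c
      have h := congrFun (congrFun (hrel a) r) c
      rw [Matrix.transvection, Matrix.transvection, mul_add, add_mul, mul_one, one_mul, Matrix.add_apply,
        Matrix.add_apply, add_right_inj] at h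
      rw [Matrix.mul_apply, Matrix.mul_apply, Finset.sum_eq_single x
        (fun k _ hk => by simp [Ne.symm hk]) (by simp),
        Finset.sum_eq_single y (fun k _ hk => by simp [Ne.symm hk]) (by simp)] at h
      rw [Matrix.single_apply, Matrix.single_apply] at h
      rcases eq_or_ne c y with hcy | hcy <;> rcases eq_or_ne r x with hrx | hrx <;>
        simp [hcy, hrx, Ne.symm] at h ⊢ <;> exact h
    refine ⟨fun z hz => ?_, fun z hz => ?_, ?_, fun a => ?_⟩
    · simpa [hz] using hent 1 z y
    · simpa [hz, eq_comm] using hent 1 x z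
    · simpa using hent 1 x y
    · have h1 := hent 1 x y
      have ha := hent a x y
      simp only [if_pos] at h1 ha
      rw [map_one, map_one, mul_one, one_mul] at h1
      rw [mul_comm, ha, h1]
  have hJK : ∀ a b, Matrix.J (Fin k) K a b = Sum.elim (fun i => Sum.elim (fun _ => (0 : K)) (fun l => if i = l then -1 else 0) b)
      (fun i => Sum.elim (fun l => if i = l then 1 else 0) (fun _ => (0 : K)) b) a := fun a b => by
    rcases a with a | a <;> rcases b with b | b <;> simp [Matrix.J, Matrix.one_apply, neg_ite]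
  have hpairs : ∀ i : Fin k, ∀ b : Bool,
      let x := e (cond b (Sum.inl i) (Sum.inr i)); let y := e (cond b (Sum.inr i) (Sum.inl i))
      (∀ z, z ≠ x → (g' : Mat) z x = 0) ∧ (∀ z, z ≠ y → (g' : Mat) y z = 0) ∧ (g' : Mat) x x = (g' : Mat) y y ∧
        ∀ a : K, τ (j a) * (g' : Mat) x x = j a * (g' : Mat) x x := by
    intro i b x y
    have hxy : x ≠ y := fun h => by cases b <;> simp [x, y] at h
    refine key x y hxy (fun z hz => ?_) ?_ ?_
    · obtain ⟨z, rfl⟩ := e.surjective z
      rw [Ne, e.injective.eq_iff] at hz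
      rw [hA'xy, hA'xy, hJK, hJK]
      cases b <;> rcases z with z | z <;> simp at hz ⊢ <;> simp [hz, Ne.symm hz]
    · rw [hA'xy, hA'xy, hJK, hJK]; cases b <;> simp
    · rw [hA'xy, hJK]; cases b <;> simp
  have hoff : ∀ a c, a ≠ c → (g' : Mat) a c = 0 := by
    intro a c hac
    obtain ⟨c, rfl⟩ := e.surjective c
    rcases c with i | i
    · exact (hpairs i true).1 a hac
    · exact (hpairs i false).1 a hac
  have hτ : ∀ a, τ (j a) = j a := by
    intro a
    obtain ⟨-, -, -, ha⟩ := hpairs ⟨0, by omega⟩ true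
    refine mul_right_cancel₀ (fun e0 => ?_) (ha a)
    set x := e (Sum.inl (⟨0, by omega⟩ : Fin k))
    have h := congrFun (congrFun g'.mul_inv x) x
    rw [Matrix.mul_apply, Finset.sum_eq_zero (fun l _ => by
      rcases eq_or_ne x l with rfl | hxl
      · rw [show (g' : Mat) x x = 0 from e0, zero_mul]
      · rw [hoff x l hxl, zero_mul]), Matrix.one_apply_eq] at h
    exact zero_ne_one h
  refine m.eq_one_of_rigid hF p hn hcard hσ1 hγodd hc hτ ?_ fun x => ?_
  · rw [← hg']; exact hoff
  obtain ⟨x, rfl⟩ := e.surjective x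
  rw [← hg']
  rcases x with i | i
  · exact ⟨e (Sum.inr i), by rw [Matrix.neg_apply, hA'xy, hJK]; simp, (hpairs i true).2.2.1⟩
  · exact ⟨e (Sum.inl i), by rw [Matrix.neg_apply, hA'xy, hJK]; simp, (hpairs i false).2.2.1⟩

include hF in
/-- A vector outside isotropy, orthogonal to a family. -/
theorem exists_anisotropic_perp (h2 : (2 : F) ≠ 0) {ι : Type*} [Fintype ι] (u : ι → Vn)
    (horth : ∀ a b, a ≠ b → B (u a) (u b) = 0) (hne : ∀ a, B (u a) (u a) ≠ 0) (hlt : Fintype.card ι < n) :
    ∃ v, (∀ a, B (u a) v = 0) ∧ B v v ≠ 0 := by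
  classical
  by_contra hcon
  push Not at hcon
  let T : Vn →ₗ[F] (ι → F) := LinearMap.pi fun a => B (u a)
  have hker : T.ker ≠ ⊥ := LinearMap.ker_ne_bot_of_finrank_lt (by
    rw [Module.finrank_fintype_fun_eq_card, Module.finrank_fintype_fun_eq_card, Fintype.card_fin]; exact hlt)
  obtain ⟨w, hw, hw0⟩ := (Submodule.ne_bot_iff _).mp hker
  have hwu : ∀ a, B (u a) w = 0 := fun a => congrFun (LinearMap.mem_ker.mp hw) a
  obtain ⟨ω, hω0, hω⟩ := exists_skew hF
  have hz : ∀ z, (∀ a, B (u a) z = 0) → B w z = 0 := by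
    intro z hz
    have e1 := hcon (w + z) fun a => by rw [map_add, hwu, hz, add_zero]
    have e2 := hcon (w + ω • z) fun a => by rw [map_add, map_smul, hwu, hz, smul_zero, add_zero]
    simp only [map_add, LinearMap.add_apply, map_smulₛₗ, LinearMap.smul_apply, map_smul, smul_eq_mul, hω,
      RingHom.id_apply, hcon w hwu, hcon z hz, mul_zero, add_zero, zero_add] at e1 e2
    exact (mul_eq_zero.mp (show (2 * ω) * B w z = 0 by linear_combination ω * e1 + e2)).resolve_left
      (mul_ne_zero h2 hω0)
  refine hw0 ((hermBilin_nondegenerate hF n).1 _ fun x => ?_)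
  have hx : x = (x - ∑ a, (B (u a) x / B (u a) (u a)) • u a) + ∑ a, (B (u a) x / B (u a) (u a)) • u a :=
    (sub_add_cancel _ _).symm
  rw [hx, map_add, map_sum, hz _ (fun b => by
    rw [map_sub, map_sum, Finset.sum_eq_single b (fun a _ hab => by rw [map_smul, horth b a hab.symm, smul_zero])
      (by simp), map_smul, smul_eq_mul, div_mul_cancel₀ _ (hne b), sub_self]), zero_add]
  refine Finset.sum_eq_zero fun a _ => ?_
  rw [map_smul, show B w (u a) = 0 by rw [← herm_symm hF, hwu, map_zero], smul_zero]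

include hF in
/-- Unitary matrices from orthonormal columns. -/
theorem exists_GU_of_columns (w : Fin n → Vn) (hw : ∀ a b, B (w a) (w b) = if a = b then 1 else 0) :
    ∃ k : GUn, ∀ a b, (k.1 : Mat) a b = w b a := by
  let M : Mat := Matrix.of fun a b => w b a
  have hMpres : Mᵀ * M.map σq = 1 := by
    ext a b
    rw [transpose_mul_map_apply hF, ← hermBilin_apply hF, Matrix.one_apply]
    show B (w b) (w a) = _
    rw [hw]
    simp [eq_comm]
  have hdet : M.det ≠ 0 := fun e0 => by
    have := congrArg Matrix.det hMpres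
    rw [Matrix.det_mul, Matrix.det_transpose, e0, zero_mul, Matrix.det_one] at this
    exact zero_ne_one this
  exact ⟨⟨GeneralLinearGroup.mkOfDetNeZero M hdet, (mem_GU_iff hF _).mpr hMpres⟩, fun a b => rfl⟩

include hF p in
/-- Every involution outside the inner-diagonal group. -/
theorem invProps_semi (hn : 3 ≤ n) (h32 : ¬ (n = 3 ∧ q = 2)) (hcard : Fintype.card F = Fintype.card K ^ 2)
    (hodd : Odd (Fintype.card K)) (hj : ∀ a, σ a = a ↔ ∃ b, j b = a) (htwo : σ * σ = 1) (hσ1 : σ ≠ 1)
    (hconj : ∀ a, σ a = a ^ q) (g : GUn) (hg : (dia g * fld σ : MulAut PSUn) ^ 2 = 1) :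
    CoreCriterion.InvProps (dia g * fld σ : MulAut PSUn) := by
  classical
  have h2K : (2 : K) ≠ 0 := OddFree.two_ne_zero_of_odd hodd
  have h2 : (2 : F) ≠ 0 := by rw [← map_ofNat j]; exact (map_ne_zero_iff _ j.injective).mpr h2K
  have hσσ : ∀ a, σ (σ a) = a := fun a => RingEquiv.congr_fun htwo a
  have hσq : ∀ X : Mat, X.map σq = X.map σ := fun X => Matrix.ext fun a b => by
    rw [Matrix.map_apply, Matrix.map_apply, conjHom_apply, hconj]
  rw [dia_mul_fld_pow, show σ ^ 2 = 1 by rw [sq]; exact htwo, map_one, mul_one, dia_eq_one_iff hF p hn] at hg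
  obtain ⟨c, hc⟩ := hg
  have hc' : (g.1 : Mat) * (g.1 : Mat).map σ = ((c : Fˣ) : F) • 1 := by
    have h := congrArg (fun x : GUn => (x.1 : Mat)) hc
    simp only [prodG, map_one, mul_one, Subgroup.coe_mul, Units.val_mul, galG_coe, scU_coe] at h
    rw [h, Matrix.scalar_apply, Matrix.smul_one_eq_diagonal]
  have hgU := (mem_GU_iff hF g.1).mp g.2
  rw [hσq] at hgU
  have hgT : (g.1 : Mat) = ((c : Fˣ) : F) • (g.1 : Mat)ᵀ := by
    have h1 := congrArg (((c : Fˣ) : F) • ·) hgU
    simp only [← Matrix.smul_mul] at h1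
    have hinv : IsUnit ((g.1 : Mat).map σ) := by
      rw [← AutPSL.galGL_coe]; exact Units.isUnit _
    exact hinv.mul_right_cancel (hc'.trans h1.symm)
  have hc2 : ((c : Fˣ) : F) * ((c : Fˣ) : F) = 1 := by
    obtain ⟨r, s, hrs⟩ : ∃ r s, (g.1 : Mat) r s ≠ 0 := by
      by_contra hcon
      push Not at hcon
      have h := congrFun (congrFun g.1.mul_inv ⟨0, by omega⟩) ⟨0, by omega⟩
      simp [Matrix.mul_apply, hcon] at h
    have e1 := congrFun (congrFun hgT r) s
    have e2 := congrFun (congrFun hgT s) r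
    rw [Matrix.smul_apply, Matrix.transpose_apply, smul_eq_mul] at e1 e2
    rw [e2, ← mul_assoc] at e1
    exact mul_right_cancel₀ hrs (by rw [one_mul]; exact e1.symm)
  -- the semilinear map
  let J : Vn → Vn := fun x => (g.1 : Mat) *ᵥ fun i => σ (x i)
  have hJadd : ∀ x y, J (x + y) = J x + J y := fun x y => by
    simp only [J, Pi.add_apply, map_add]
    exact Matrix.mulVec_add _ (fun i => σ (x i)) (fun i => σ (y i))
  have hJsmul : ∀ (a : F) x, J (a • x) = σ a • J x := fun a x => by
    simp only [J, Pi.smul_apply, smul_eq_mul, map_mul]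
    exact Matrix.mulVec_smul _ (σ a) (fun i => σ (x i))
  have hJform : ∀ x y, B (J x) (J y) = σ (B x y) := fun x y => by
    simp only [J]; rw [gu_form, form_map]
  have hJ2 : ∀ x, J (J x) = ((c : Fˣ) : F) • x := fun x => by
    show (g.1 : Mat) *ᵥ (fun i => σ (((g.1 : Mat) *ᵥ fun l => σ (x l)) i)) = _
    rw [← map_mulVec', Matrix.mulVec_mulVec, hc', Matrix.smul_mulVec, Matrix.one_mulVec]
    congr 1
    exact funext fun i => hσσ _
  have hB : ∀ v, σ (B v v) = B v v := fun v => by
    rw [hconj, ← conjHom_apply hF]; exact form_self_conj hF v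
  have hnorm : ∀ {v}, B v v ≠ 0 → ∃ ν : F, ν ≠ 0 ∧ B (ν • v) (ν • v) = 1 := by
    intro v hv
    obtain ⟨ν, hν⟩ := exists_mul_conj_eq (conjHom_ne_id hF) (conjHom_conjHom hF) (s := B v v) (form_self_conj hF v)
    have hν0 : ν ≠ 0 := fun e0 => hv (by rw [← hν, e0]; simp)
    refine ⟨ν⁻¹, inv_ne_zero hν0, ?_⟩
    rw [form_smul_smul, map_inv₀, ← mul_inv, hν, inv_mul_cancel₀ hv]
  have hfin : ∀ (G : GUn) (k : GUn), g * galG σ k = k * G →
      CoreCriterion.InvProps (dia G * fld σ : MulAut PSUn) → CoreCriterion.InvProps (dia g * fld σ : MulAut PSUn) := by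
    intro G k hk h
    have h' := CoreCriterion.invProps_conj (dia k) h
    rwa [show dia k * (dia G * fld σ) * (dia k)⁻¹ = dia g * (fld σ : MulAut PSUn) by
      rw [show dia k * (dia G * fld σ) * (dia k)⁻¹ = dia k * dia G * (dia k)⁻¹ * (dia k * fld σ * (dia k)⁻¹) by group,
        conj_fld, ← map_inv, ← map_mul, ← map_mul, ← mul_assoc, ← map_mul]
      congr 2
      rw [← hk]
      group] at h'
  rcases mul_self_eq_one_iff.mp hc2 with hc1 | hc1
  · -- symmetric
    simp only [hc1, one_smul] at hJ2
    have step : ∀ l, l ≤ n → ∃ u : Fin l → Vn, (∀ a b, a ≠ b → B (u a) (u b) = 0) ∧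
        (∀ a, B (u a) (u a) ≠ 0) ∧ ∀ a, J (u a) = u a := by
      intro l
      induction l with
      | zero => exact fun _ => ⟨Fin.elim0, fun a => a.elim0, fun a => a.elim0, fun a => a.elim0⟩
      | succ l ih =>
        intro hl
        obtain ⟨u, horth, hne, hfx⟩ := ih (by omega)
        obtain ⟨v, hv, hvv⟩ := exists_anisotropic_perp hF h2 u horth hne (by rw [Fintype.card_fin]; omega)
        obtain ⟨ω, hω0, hω⟩ := exists_skew hF
        rw [conjHom_apply, ← hconj] at hω
        have hJv : ∀ a, B (u a) (J v) = 0 := fun a => by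
          conv_lhs => rw [← hfx a]
          rw [hJform, hv, map_zero]
        obtain ⟨w, hw, hwf, hww⟩ : ∃ w, (∀ a, B (u a) w = 0) ∧ J w = w ∧ B w w ≠ 0 := by
          by_contra hcon
          push Not at hcon
          obtain ⟨u₁, hu₁⟩ : ∃ u₁, u₁ = v + J v := ⟨_, rfl⟩
          obtain ⟨u₂, hu₂⟩ : ∃ u₂, u₂ = ω • (v - J v) := ⟨_, rfl⟩
          have hf1 : J u₁ = u₁ := by rw [hu₁, hJadd, hJ2, add_comm]
          have hf2 : J u₂ = u₂ := by
            have hJneg : ∀ x, J (-x) = -J x := fun x => by
              rw [← neg_one_smul F x, hJsmul, map_neg, map_one, neg_one_smul]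
            rw [hu₂, hJsmul, hω, sub_eq_add_neg, hJadd, hJneg, hJ2]
            module
          have hp1 : ∀ a, B (u a) u₁ = 0 := fun a => by rw [hu₁, map_add, hv, hJv, add_zero]
          have hp2 : ∀ a, B (u a) u₂ = 0 := fun a => by rw [hu₂, map_smul, map_sub, hv, hJv, sub_self, smul_zero]
          have e1 := hcon u₁ hp1 hf1
          have e2 := hcon u₂ hp2 hf2
          have e3 := hcon (u₁ + u₂) (fun a => by rw [map_add, hp1, hp2, add_zero]) (by rw [hJadd, hf1, hf2])
          have e4 : B u₁ u₂ = B u₂ u₁ := by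
            rw [← herm_symm hF u₁ u₂, conjHom_apply, ← hconj]
            conv_lhs => rw [← hf1, ← hf2, hJform]
          simp only [map_add, LinearMap.add_apply, e1, e2, zero_add, add_zero] at e3
          have e5 : B u₁ u₂ = 0 := (mul_eq_zero.mp (show (2 : F) * B u₁ u₂ = 0 by linear_combination e3 + e4)).resolve_left h2
          refine hvv ?_
          have hvc : (2 * ω) • v = ω • u₁ + u₂ := by rw [hu₁, hu₂]; module
          have e6 : B ((2 * ω) • v) ((2 * ω) • v) = 0 := by
            rw [hvc]
            simp only [map_add, LinearMap.add_apply, map_smulₛₗ, LinearMap.smul_apply, map_smul, smul_eq_mul, e1, e2,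
              e5, ← e4, RingHom.id_apply, mul_zero, add_zero]
          rw [form_smul_smul, mul_eq_zero] at e6
          exact e6.resolve_left (mul_ne_zero ((map_ne_zero_iff _ (RingHom.injective _)).mpr (mul_ne_zero h2 hω0))
            (mul_ne_zero h2 hω0))
        refine ⟨Fin.snoc u w, fun a b hab => ?_, fun a => ?_, fun a => ?_⟩
        · rcases Fin.eq_castSucc_or_eq_last a with ⟨a, rfl⟩ | rfl <;>
            rcases Fin.eq_castSucc_or_eq_last b with ⟨b, rfl⟩ | rfl
          · simp only [Fin.snoc_castSucc]; exact horth a b fun e => hab (congrArg _ e)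
          · simp only [Fin.snoc_castSucc, Fin.snoc_last]; exact hw a
          · simp only [Fin.snoc_castSucc, Fin.snoc_last]; rw [← herm_symm hF, hw b, map_zero]
          · exact absurd rfl hab
        · rcases Fin.eq_castSucc_or_eq_last a with ⟨a, rfl⟩ | rfl <;> simp [hne, hww]
        · rcases Fin.eq_castSucc_or_eq_last a with ⟨a, rfl⟩ | rfl <;> simp [hfx, hwf]
    obtain ⟨u, horth, hne, hfx⟩ := step n le_rfl
    choose ν hν0 hν using fun a => hnorm (hne a)
    obtain ⟨k, hk⟩ := exists_GU_of_columns hF (fun a => ν a • u a) (fun a b => by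
      rcases eq_or_ne a b with rfl | hab
      · rw [hν, if_pos rfl]
      · rw [form_smul_smul, horth a b hab, mul_zero, if_neg hab])
    let d : Fin n → F := fun a => σ (ν a) / ν a
    have hmat : (g.1 : Mat) * (k.1 : Mat).map σ = (k.1 : Mat) * Matrix.diagonal d := by
      ext a b
      rw [Matrix.mul_diagonal, hk]
      have h1 : ((g.1 : Mat) * (k.1 : Mat).map σ) a b = J (ν b • u b) a := by
        simp [J, Matrix.mul_apply, Matrix.mulVec, dotProduct, hk]
      rw [h1, hJsmul, hfx]
      simp only [d, Pi.smul_apply, smul_eq_mul]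
      field_simp [hν0 b]
    refine hfin (k⁻¹ * (g * galG σ k)) k (by rw [mul_inv_cancel_left]) ?_
    refine invProps_diag hF p hn h32 hcard hodd hj htwo hσ1 hconj d _ ?_
    show ((k.1⁻¹ : GLn) : Mat) * ((g.1 : Mat) * (k.1 : Mat).map σ) = _
    rw [hmat, ← mul_assoc, Units.inv_mul, one_mul]
  · -- alternating
    simp only [hc1, neg_one_smul] at hJ2
    have hgA : (g.1 : Mat) = -(g.1 : Mat)ᵀ := by
      conv_lhs => rw [hgT, hc1, neg_one_smul]
    have hJperp : ∀ v, B v (J v) = 0 := by
      intro v
      rw [hermBilin_apply]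
      have h : ∀ y : Vn, Cfsg.hermForm n F q ((g.1 : Mat) *ᵥ y) (fun i => σ (y i)) = 0 := by
        intro y
        have e0 : y ⬝ᵥ ((g.1 : Mat) *ᵥ y) = -(y ⬝ᵥ ((g.1 : Mat) *ᵥ y)) := by
          conv_lhs => rw [hgA, Matrix.neg_mulVec, dotProduct_neg, Matrix.dotProduct_mulVec,
            Matrix.vecMul_transpose, dotProduct_comm]
        have e1 : y ⬝ᵥ ((g.1 : Mat) *ᵥ y) = 0 :=
          (mul_eq_zero.mp (show (2 : F) * _ = 0 by linear_combination e0)).resolve_left h2
        rw [← e1, dotProduct]
        simp only [Cfsg.hermForm, ← hconj, hσσ]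
        exact Finset.sum_congr rfl fun i _ => mul_comm _ _
      have := h fun i => σ (v i)
      simp only [hσσ] at this
      exact this
    have heven : Even n := by
      have h := congrArg Matrix.det hgA
      rw [Matrix.det_neg, Matrix.det_transpose, Fintype.card_fin] at h
      have hd : (g.1 : Mat).det ≠ 0 := (GeneralLinearGroup.det g.1).ne_zero
      rcases Nat.even_or_odd n with he | ho
      · exact he
      · rw [ho.neg_one_pow] at h
        exact absurd (show (2 : F) * (g.1 : Mat).det = 0 by linear_combination h) (mul_ne_zero h2 hd)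
    obtain ⟨k, hk2⟩ := heven
    have step : ∀ l, l + l ≤ n → ∃ u : Fin l → Vn,
        (∀ a b, B (u a) (u b) = if a = b then 1 else 0) ∧ ∀ a b, B (u a) (J (u b)) = 0 := by
      intro l
      induction l with
      | zero => exact fun _ => ⟨Fin.elim0, fun a => a.elim0, fun a => a.elim0⟩
      | succ l ih =>
        intro hl
        obtain ⟨u, huu, huJ⟩ := ih (by omega)
        let U : Fin l ⊕ Fin l → Vn := Sum.elim u fun a => J (u a)
        have hJu : ∀ a b, B (J (u a)) (u b) = 0 := fun a b => by rw [← herm_symm hF, huJ, map_zero]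
        have hJJ : ∀ a b, B (J (u a)) (J (u b)) = if a = b then 1 else 0 := fun a b => by
          rw [hJform, huu]; split_ifs <;> simp
        obtain ⟨v₀, hv₀, hvv⟩ := exists_anisotropic_perp hF h2 U
          (by
            rintro (a | a) (b | b) hab
            · show B (u a) (u b) = 0
              rw [huu, if_neg fun e => hab (congrArg Sum.inl e)]
            · exact huJ a b
            · exact hJu a b
            · show B (J (u a)) (J (u b)) = 0
              rw [hJJ, if_neg fun e => hab (congrArg Sum.inr e)])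
          (by rintro (a | a) <;> simp [U, huu, hJJ])
          (by simp; omega)
        obtain ⟨ν, -, hν⟩ := hnorm hvv
        obtain ⟨v, hv⟩ : ∃ v, v = ν • v₀ := ⟨_, rfl⟩
        rw [← hv] at hν
        have hv1 : ∀ a, B (u a) v = 0 := fun a => by rw [hv, map_smul, show B (u a) v₀ = 0 from hv₀ (Sum.inl a), smul_zero]
        have hv2 : ∀ a, B (J (u a)) v = 0 := fun a => by rw [hv, map_smul, show B (J (u a)) v₀ = 0 from hv₀ (Sum.inr a), smul_zero]
        have hv3 : ∀ a, B v (u a) = 0 := fun a => by rw [← herm_symm hF, hv1, map_zero]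
        have hv4 : ∀ a, B (u a) (J v) = 0 := fun a => by
          have h := hJform (J (u a)) v
          rw [hv2, map_zero, hJ2, ← neg_one_smul F (u a), map_smulₛₗ, LinearMap.smul_apply, map_neg, map_one,
            smul_eq_mul, neg_one_mul, neg_eq_zero] at h
          exact h
        have hv5 : ∀ a, B v (J (u a)) = 0 := fun a => by rw [← herm_symm hF, hv2, map_zero]
        refine ⟨Fin.snoc u v, fun a b => ?_, fun a b => ?_⟩
        · rcases Fin.eq_castSucc_or_eq_last a with ⟨a, rfl⟩ | rfl <;>
            rcases Fin.eq_castSucc_or_eq_last b with ⟨b, rfl⟩ | rfl <;>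
            simp only [Fin.snoc_castSucc, Fin.snoc_last]
          · rw [huu]; simp
          · rw [hv1, if_neg (Fin.castSucc_lt_last _).ne]
          · rw [hv3, if_neg (Fin.castSucc_lt_last _).ne']
          · rw [if_pos trivial]; exact hν
        · rcases Fin.eq_castSucc_or_eq_last a with ⟨a, rfl⟩ | rfl <;>
            rcases Fin.eq_castSucc_or_eq_last b with ⟨b, rfl⟩ | rfl <;>
            simp only [Fin.snoc_castSucc, Fin.snoc_last]
          · exact huJ a b
          · exact hv4 a
          · exact hv5 b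
          · exact hJperp v
    obtain ⟨u, huu, huJ⟩ := step k (by omega)
    let e : Fin k ⊕ Fin k ≃ Fin n := finSumFinEquiv.trans (finCongr hk2.symm)
    let W : Fin k ⊕ Fin k → Vn := Sum.elim u fun a => J (u a)
    have hWW : ∀ a' b', B (W a') (W b') = if a' = b' then 1 else 0 := fun a' b' => by
      rcases a' with a' | a' <;> rcases b' with b' | b' <;> simp only [W, Sum.elim_inl, Sum.elim_inr, Sum.inl.injEq,
        Sum.inr.injEq, reduceCtorEq, if_false]
      · exact huu a' b'
      · exact huJ a' b'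
      · rw [← herm_symm hF, huJ, map_zero]
      · rw [hJform, huu]; split_ifs <;> simp
    obtain ⟨kk, hkk⟩ := exists_GU_of_columns hF (fun a => W (e.symm a)) (fun a b => by
      rw [hWW]; simp only [e.symm.injective.eq_iff])
    have hmat : (g.1 : Mat) * (kk.1 : Mat).map σ = (kk.1 : Mat) * Matrix.reindex e e (Matrix.J (Fin k) F) := by
      ext a b
      obtain ⟨b, rfl⟩ := e.surjective b
      have h1 : ((g.1 : Mat) * (kk.1 : Mat).map σ) a (e b) = J (W b) a := by
        simp [J, Matrix.mul_apply, Matrix.mulVec, dotProduct, hkk]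
      rw [h1, Matrix.mul_apply, ← e.sum_comp]
      simp only [hkk, Matrix.reindex_apply, Matrix.submatrix_apply, Equiv.symm_apply_apply, Fintype.sum_sum_type]
      rcases b with b | b
      · simp [W, Matrix.J, Matrix.one_apply]
      · simp [W, Matrix.J, Matrix.one_apply, neg_ite, hJ2]
    refine hfin (kk⁻¹ * (g * galG σ kk)) kk (by rw [mul_inv_cancel_left]) ?_
    refine invProps_symp hF p hn h32 hcard hodd hj htwo hσ1 hconj e _ ?_
    show ((kk.1⁻¹ : GLn) : Mat) * ((g.1 : Mat) * (kk.1 : Mat).map σ) = _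
    rw [hmat, ← mul_assoc, Units.inv_mul, one_mul]

end Cfsg.Agent.Lib.Classical.AutPSU
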