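import Cfsg.Agent.Lib.Classical.AutPSU.FieldFixed
import Cfsg.Agent.Lib.Classical.AutPSU.InvolForms

/-!
Automorphisms of `PSU`: the criterion for the cores of centralizers of outer automorphisms of prime order.
-/

set_option autoImplicit false

namespace Cfsg.Agent.Lib.Classical.AutPSU

open Cfsg.Agent.Lib.Classical

variable {F : Type*} [Field F] [Fintype F] {q n : ℕ} (hF : Fintype.card F = q ^ 2) (p : ℕ) [Fact p.Prime] [CharP F p]

set_option quotPrecheck false in
local notation "GUn" => Subtype (fun A => A ∈ Cfsg.GU n F q)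

include hF in
theorem not_three_two (hn : 3 ≤ n) (hK : IsSimpleGroup (Cfsg.PSU n F q)) : ¬ (n = 3 ∧ q = 2) := by
  rintro ⟨rfl, rfl⟩
  have hF4 : Fintype.card F = 4 := hF
  obtain ⟨hc, hs⟩ := Cfsg.Agent.S0282.result hF4
  haveI := hs
  haveI := hK
  have hcomm : ∀ a b : Cfsg.PSU 3 F 2, a * b = b * a := IsSimpleGroup.comm_iff_isSolvable.mpr hs
  letI : CommGroup (Cfsg.PSU 3 F 2) := { (inferInstance : Group (Cfsg.PSU 3 F 2)) with mul_comm := hcomm }
  have := IsSimpleGroup.prime_card (α := Cfsg.PSU 3 F 2)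
  rw [hc] at this
  norm_num at this

include hF p in
theorem psu_balance (hn : 3 ≤ n) (hK : IsSimpleGroup (Cfsg.PSU n F q)) (A : Subgroup (MulAut (Cfsg.PSU n F q)))
    (hinn : ∀ k, MulAut.conj k ∈ A) {ℓ : ℕ} [Fact ℓ.Prime] (hℓp : ℓ ≠ p) (β : MulAut (Cfsg.PSU n F q))
    (hord : orderOf β = ℓ) (hnot : ¬ Cfsg.IsInnerDiagonalAutPSU β) :
    Cfsg.pPrimeCore ℓ ↥(A ⊓ Subgroup.centralizer {β}) ≠ ⊥ ↔
      ((∃ γ φ : MulAut (Cfsg.PSU n F q), Cfsg.IsInnerDiagonalAutPSU γ ∧ (∃ σ : F ≃+* F, Cfsg.IsFieldAutPSUOf σ φ) ∧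
          β = φ.trans γ) ∧
        Nat.Coprime ℓ (Nat.card ↥(MonoidHom.eqLocus β.toMonoidHom (MonoidHom.id (Cfsg.PSU n F q))))) := by
  classical
  have h32 := not_three_two hF hn hK
  have hℓ : ℓ.Prime := Fact.out
  obtain ⟨f, hq⟩ : ∃ f, q = p ^ f := by
    obtain ⟨f, hp', hc⟩ := FiniteField.card F p
    rw [hF] at hc
    obtain ⟨i, -, hi⟩ := (Nat.dvd_prime_pow hp').mp (hc ▸ dvd_pow_self q two_ne_zero)
    exact ⟨i, hi⟩
  obtain ⟨g, σ, hβ⟩ := decomposition hF p hn h32 β
  have hpow := pow_orderOf_eq_one β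
  rw [hord, hβ, dia_mul_fld_pow] at hpow
  obtain ⟨hσℓ, hg⟩ := eq_one_of_param hF p hn hpow
  have hσ : σ ≠ 1 := by
    rintro rfl
    refine hnot ?_
    rw [hβ, map_one, mul_one]
    exact isInnerDiagonal_dia g
  have hoσ : orderOf σ = ℓ := orderOf_eq_prime hσℓ hσ
  rcases hℓ.eq_two_or_odd' with h2 | hodd
  · subst h2
    have hp2 : Odd p := (Fact.out : p.Prime).odd_of_ne_two fun e => hℓp e.symm
    have hqodd : Odd q := hq ▸ hp2.pow
    have htwo : σ * σ = 1 := by rw [← sq]; exact hσℓ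
    obtain ⟨K, hK', hj, hcard⟩ := CoreCriterion.exists_fixed_subfield (F := F) hoσ
    have hKq : Fintype.card K = q := Nat.pow_left_injective two_ne_zero (hcard.symm.trans hF)
    have hconj : ∀ a, σ a = a ^ q := by
      let c : F ≃+* F := RingEquiv.ofBijective (conjHom hF)
        (Finite.injective_iff_bijective.mp (conjHom hF).injective)
      have hcj : ∀ t : K, c (K.subtype t) = K.subtype t := fun t => by
        show conjHom hF (K.subtype t) = _
        rw [conjHom_apply, ← map_pow, ← hKq, FiniteField.pow_card]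
      obtain ⟨i, hi⟩ := CoreCriterion.mem_zpowers_of_fix hcard hσ (fun t => (hj _).mpr ⟨t, rfl⟩) hcj
      have hc1 : c ≠ 1 := fun e => conjHom_ne_id hF (RingHom.ext fun a => RingEquiv.congr_fun e a)
      change σ ^ i = c at hi
      rcases Int.even_or_odd i with ⟨m, hm⟩ | ⟨m, hm⟩
      · exfalso
        refine hc1 (hi ▸ ?_)
        rw [hm, ← two_mul, _root_.zpow_mul, zpow_ofNat, hσℓ, _root_.one_zpow]
      · intro a
        have : c = σ := by rw [← hi, hm, _root_.zpow_add, _root_.zpow_mul, zpow_ofNat, hσℓ, _root_.one_zpow, one_mul, zpow_one]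
        rw [← this, ← conjHom_apply hF]; rfl
    refine CoreCriterion.criterion_of_invProps hinn hord
      (dvd_card_PSU hF hn Nat.prime_two (even_iff_two_dvd.mp hqodd.add_one)) (psu_hZ hF p hn h32) ?_ _
    rw [hβ]
    exact invProps_semi hF p hn h32 hcard (hKq ▸ hqodd) hj htwo hσ hconj g (by
      rw [← hβ, ← hord, pow_orderOf_eq_one])
  · obtain ⟨c, hc⟩ := hg
    obtain ⟨u, k, hk⟩ := exists_descent hF (by omega) hℓ hodd hoσ g hc
    have hconj : β = dia k * fld σ * (dia k)⁻¹ := by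
      rw [hβ, hk, map_mul, dia_scU, one_mul, conj_fld]
    have hprops := CoreCriterion.props_conj (dia k) (props_field hF p hq hn h32 hodd hℓp hoσ)
    rw [← hconj] at hprops
    rw [CoreCriterion.core_criterion hinn hord (psu_hZ hF p hn h32) hprops, iff_and_self]
    intro _
    exact ⟨dia g, fld σ, isInnerDiagonal_dia g, ⟨σ, isFieldAutOf_fld σ⟩, by rw [hβ]; rfl⟩

end Cfsg.Agent.Lib.Classical.AutPSU
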