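import Cfsg.Agent.Lib.Classical.AutPSU.Count
import Cfsg.Agent.Lib.Classical.AutPSL.FieldClass

/-!
Galois descent for unitary matrices, and automorphisms of prime order in the coset of a field
automorphism of `PSU_n(q)`.
-/

set_option autoImplicit false

namespace Cfsg.Agent.Lib.Classical.AutPSU

open Matrix
open Cfsg.Agent.Lib.Geometry (exists_mul_conj_eq exists_orthonormal_family)
open Cfsg.Agent.Lib.Classical

variable {F : Type*} [Field F] [Fintype F] {q n : ℕ}

set_option quotPrecheck false in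
local notation "GUn" => Subtype (fun A => A ∈ Cfsg.GU n F q)
set_option quotPrecheck false in
local notation "Vn" => (Fin n → F)
set_option quotPrecheck false in
local notation "Mat" => Matrix (Fin n) (Fin n) F
set_option quotPrecheck false in
local notation "GLn" => GL (Fin n) F
set_option quotPrecheck false in
local notation "PSUn" => Cfsg.PSU n F q

/-- A field automorphism on the norm-one elements. -/
def mapU1 (σ : F ≃+* F) : U1 F q →* U1 F q :=
  MonoidHom.mk' (fun u => ⟨Units.map (σ : F →* F) u.1, mem_U1.mpr (by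
    show σ ((u.1 : Fˣ) : F) ^ (q + 1) = 1
    rw [← map_pow, mem_U1.mp u.2, map_one])⟩) fun a b => Subtype.ext (map_mul _ _ _)

theorem galG_scU (σ : F ≃+* F) (u : U1 F q) : galG (n := n) σ (scU u) = scU (mapU1 σ u) := by
  refine Subtype.ext (Units.ext ?_)
  rw [galG_coe, scU_coe, scU_coe]
  ext i j
  simp [Matrix.scalar_apply, Matrix.diagonal, apply_ite σ, mapU1]

/-- The twisted product. -/
def prodG (σ : F ≃+* F) (g : GUn) : ℕ → GUn
  | 0 => 1
  | k + 1 => g * galG σ (prodG σ g k)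

theorem dia_mul_fld_pow (σ : F ≃+* F) (g : GUn) (k : ℕ) :
    (dia g * fld σ : MulAut PSUn) ^ k = dia (prodG σ g k) * fld (σ ^ k) := by
  induction k with
  | zero => rw [pow_zero, pow_zero, prodG, map_one, map_one, mul_one]
  | succ k ih =>
    rw [pow_succ', ih, prodG, mul_assoc, ← mul_assoc (fld σ), fld_mul_dia, map_mul, pow_succ' σ,
      map_mul, mul_assoc, mul_assoc]

theorem conj_fld (σ : F ≃+* F) (k : GUn) :
    dia k * fld σ * (dia k)⁻¹ = dia (k * (galG σ k)⁻¹) * (fld σ : MulAut PSUn) := by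
  rw [mul_assoc, ← map_inv, fld_mul_dia, map_inv, map_inv, ← mul_assoc, map_mul, map_inv]

theorem prodG_coe (σ : F ≃+* F) (g : GUn) (k : ℕ) : (prodG σ g k).1 = AutPSL.galProd σ g.1 k := by
  induction k with
  | zero => rfl
  | succ k ih =>
    show g.1 * Units.map (RingHom.toMonoidHom σ.toRingHom.mapMatrix) (prodG σ g k).1 = _
    rw [ih]
    rfl

variable (hF : Fintype.card F = q ^ 2)

set_option quotPrecheck false in
local notation "B" => hermBilin hF n
set_option quotPrecheck false in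
local notation "σq" => conjHom hF

/-- The fixed field of a field automorphism. -/
abbrev fixedK (σ : F ≃+* F) : Subfield F := FixedPoints.subfield (Subgroup.zpowers σ) F

omit [Fintype F] in
theorem mem_fixedK {σ : F ≃+* F} {c : F} : c ∈ fixedK σ ↔ σ c = c :=
  ⟨fun h => h ⟨σ, Subgroup.mem_zpowers σ⟩, fun h τ =>
    (Subgroup.zpowers_le.mpr (show σ ∈ MulAction.stabilizer (F ≃+* F) c from h)) τ.2⟩

include hF in
/-- In odd order the fixed field is not fixed by the conjugation. -/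
theorem exists_fixed_not_conj {σ : F ≃+* F} (hodd : Odd (orderOf σ)) :
    ∃ ω : F, σ ω = ω ∧ σq ω ≠ ω := by
  by_contra hcon
  push Not at hcon
  haveI : Finite (F ≃+* F) := Finite.of_injective (fun e : F ≃+* F => (e : F → F)) DFunLike.coe_injective
  let c : F ≃+* F := RingEquiv.ofBijective σq (Function.Involutive.bijective (conjHom_conjHom hF))
  let cA : F ≃ₐ[fixedK σ] F := AlgEquiv.ofRingEquiv (f := c) fun x => hcon x (mem_fixedK.mp x.2)
  obtain ⟨⟨τ, hτ⟩, hg⟩ := (FixedPoints.toAlgAut_bijective (Subgroup.zpowers σ) F).2 cA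
  have hτc : τ = c := RingEquiv.ext fun x => AlgEquiv.congr_fun hg x
  subst hτc
  have hc2 : c ^ 2 = 1 := RingEquiv.ext fun x => by
    rw [pow_two]
    exact conjHom_conjHom hF x
  have hd : orderOf c ∣ orderOf σ := by
    have := orderOf_dvd_natCard (⟨c, hτ⟩ : Subgroup.zpowers σ)
    rwa [Nat.card_zpowers, Subgroup.orderOf_mk] at this
  rcases (Nat.dvd_prime Nat.prime_two).mp (orderOf_dvd_of_pow_eq_one hc2) with h1 | h1
  · exact conjHom_ne_id hF (RingHom.ext fun x => RingEquiv.congr_fun (orderOf_eq_one_iff.mp h1) x)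
  · rw [h1] at hd
    exact (Nat.not_even_iff_odd.mpr hodd) (even_iff_two_dvd.mpr hd)

include hF in
/-- Descent for unitary matrices. -/
theorem exists_descent (hn : 1 ≤ n) {σ : F ≃+* F} {r : ℕ} (hr : r.Prime) (hodd : Odd r)
    (hσr : orderOf σ = r) (a : GUn) {c : U1 F q} (hc : prodG σ a r = scU c) :
    ∃ (u : U1 F q) (k : GUn), a = scU u * (k * (galG σ k)⁻¹) := by
  classical
  have hσ : σ ^ r = 1 := hσr ▸ pow_orderOf_eq_one σ
  have hne : σ ≠ 1 := fun e => hr.one_lt.ne (by rw [← hσr, e, orderOf_one])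
  obtain ⟨u, h, hh⟩ := AutPSL.exists_eq_scalar_mul_twist hr hσ hne hn (g := a.1) (by
    rw [← prodG_coe, hc, GeneralLinearGroup.center_eq_range_scalar]; exact ⟨c.1, rfl⟩)
  set μ : F := (σq (u : F) * u)⁻¹ with hμ
  have hσu : σq (u : F) ≠ 0 := (map_ne_zero_iff _ (RingHom.injective _)).mpr u.ne_zero
  have hmat : ∀ x : Vn, (a.1 : Mat) *ᵥ ((h : Mat).map σ *ᵥ x) = (u : F) • ((h : Mat) *ᵥ x) := by
    intro x
    have h1 : a.1 * AutPSL.galGL σ h = GeneralLinearGroup.scalar (Fin n) u * h := by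
      rw [hh]; group
    have h2 := congrArg (fun M : GLn => (M : Mat) *ᵥ x) h1
    simp only [Units.val_mul, ← Matrix.mulVec_mulVec] at h2
    rw [← AutPSL.galGL_coe, h2]
    show Matrix.scalar (Fin n) (u : F) *ᵥ _ = _
    simp [Matrix.scalar_apply, ← Matrix.smul_one_eq_diagonal, Matrix.smul_mulVec]
  -- the pulled back form
  have hrel : ∀ x y : Vn, (∀ i, σ (x i) = x i) → (∀ i, σ (y i) = y i) →
      B ((h : Mat) *ᵥ x) ((h : Mat) *ᵥ y) = μ * σ (B ((h : Mat) *ᵥ x) ((h : Mat) *ᵥ y)) := by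
    intro x y hx hy
    have hs : ∀ z : Vn, (∀ i, σ (z i) = z i) →
        (fun i => σ (((h : Mat) *ᵥ z) i)) = (h : Mat).map σ *ᵥ z := fun z hz => by
      rw [← map_mulVec', show (fun i => σ (z i)) = z from funext hz]
    rw [← form_map, hs x hx, hs y hy]
    conv_rhs => rw [← gu_form hF a, hmat, hmat, form_smul_smul]
    rw [hμ]
    field_simp
  have hstd : ∀ i j : Fin n, σ ((Pi.single i (1 : F) : Vn) j) = (Pi.single i (1 : F) : Vn) j := by
    intro i j
    simp [Pi.single_apply, apply_ite σ]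
  obtain ⟨x₀, y₀, hx₀, hy₀, hb⟩ : ∃ x y : Vn, (∀ i, σ (x i) = x i) ∧ (∀ i, σ (y i) = y i) ∧
      B ((h : Mat) *ᵥ x) ((h : Mat) *ᵥ y) ≠ 0 := by
    obtain ⟨z, hz⟩ := exists_form_eq_one hF (v := (h : Mat) *ᵥ Pi.single ⟨0, hn⟩ 1) (fun e => by
      have := congrArg (((h⁻¹ : GLn) : Mat) *ᵥ ·) e
      simp only [Matrix.mulVec_mulVec, ← Units.val_mul, inv_mul_cancel, Units.val_one, Matrix.one_mulVec,
        Matrix.mulVec_zero] at this
      exact one_ne_zero (Pi.single_eq_zero_iff.mp this))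
    by_contra hcon
    push Not at hcon
    have hall : (B ((h : Mat) *ᵥ Pi.single ⟨0, hn⟩ 1)).comp (Matrix.toLin' (h : Mat)) = 0 :=
      (Pi.basisFun F _).ext fun l => by
        rw [Pi.basisFun_apply, LinearMap.comp_apply, Matrix.toLin'_apply, LinearMap.zero_apply]
        exact hcon _ _ (hstd _) (hstd l)
    have h3 := LinearMap.congr_fun hall (((h⁻¹ : GLn) : Mat) *ᵥ z)
    rw [LinearMap.comp_apply, Matrix.toLin'_apply, Matrix.mulVec_mulVec, ← Units.val_mul,
      mul_inv_cancel, Units.val_one, Matrix.one_mulVec, hz, LinearMap.zero_apply] at h3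
    exact one_ne_zero h3
  set b := B ((h : Mat) *ᵥ x₀) ((h : Mat) *ᵥ y₀)
  have hbrel : b = μ * σ b := hrel x₀ y₀ hx₀ hy₀
  have hμq : σq μ = μ := by rw [hμ, map_inv₀, map_mul, conjHom_conjHom, mul_comm]
  have hodd' : Odd (orderOf σ) := hσr.symm ▸ hodd
  obtain ⟨ω, hω, hb'0⟩ : ∃ ω : F, σ ω = ω ∧ ω * b + σq (ω * b) ≠ 0 := by
    by_cases h1 : b + σq b = 0
    · obtain ⟨ω, hω, hωq⟩ := exists_fixed_not_conj hF hodd'
      refine ⟨ω, hω, fun h2 => hωq ?_⟩
      rw [map_mul] at h2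
      have h3 : (ω - σq ω) * b = 0 := by linear_combination h2 - σq ω * h1
      exact (sub_eq_zero.mp ((mul_eq_zero.mp h3).resolve_right hb)).symm
    · exact ⟨1, map_one σ, by rwa [one_mul]⟩
  set b' := ω * b + σq (ω * b) with hb'def
  have hb'q : σq b' = b' := by rw [hb'def, map_add, conjHom_conjHom, add_comm]
  have hb'rel : b' = μ * σ b' := by
    rw [hb'def, map_add σ, ← conj_comm hF]
    simp only [map_mul, hω]
    conv_lhs => rw [hbrel, map_mul σq μ, hμq]
    ring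
  -- the form over the fixed field
  have hKq : ∀ x : fixedK σ, σq (x : F) ∈ fixedK σ := fun x => by
    rw [mem_fixedK, ← conj_comm hF, mem_fixedK.mp x.2]
  let σK : fixedK σ →+* fixedK σ := RingHom.codRestrict ((σq : F →+* F).comp (fixedK σ).subtype) (fixedK σ) hKq
  have hσK : σK ≠ RingHom.id _ := by
    obtain ⟨ω', hω', hωq'⟩ := exists_fixed_not_conj hF hodd'
    exact fun e => hωq' (congrArg Subtype.val (RingHom.congr_fun e ⟨ω', mem_fixedK.mpr hω'⟩))
  have hσK2 : ∀ x, σK (σK x) = x := fun x => Subtype.ext (conjHom_conjHom hF _)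
  let emb : (Fin n → fixedK σ) → Vn := fun x i => (x i : F)
  have hmem : ∀ x y : Fin n → fixedK σ, b'⁻¹ * B ((h : Mat) *ᵥ emb x) ((h : Mat) *ᵥ emb y) ∈ fixedK σ := by
    intro x y
    rw [mem_fixedK, map_mul, map_inv₀]
    have h1 := hrel (emb x) (emb y) (fun i => mem_fixedK.mp (x i).2) (fun i => mem_fixedK.mp (y i).2)
    have hσb : σ b' ≠ 0 := fun e => hb'0 (σ.injective (e.trans (map_zero σ).symm))
    conv_rhs => rw [h1, hb'rel]
    have hμ0 : μ ≠ 0 := inv_ne_zero (mul_ne_zero hσu u.ne_zero)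
    field_simp
  have hadd : ∀ x y : Fin n → fixedK σ, emb (x + y) = emb x + emb y := fun x y => rfl
  have hsmul : ∀ (t : fixedK σ) (x : Fin n → fixedK σ), emb (t • x) = (t : F) • emb x := fun t x => rfl
  let BK : (Fin n → fixedK σ) →ₛₗ[σK] (Fin n → fixedK σ) →ₗ[fixedK σ] fixedK σ :=
    LinearMap.mk₂'ₛₗ σK (RingHom.id _) (fun x y => ⟨_, hmem x y⟩)
      (fun x x' y => Subtype.ext (by
        show b'⁻¹ * _ = b'⁻¹ * _ + b'⁻¹ * _
        rw [hadd, Matrix.mulVec_add, map_add, LinearMap.add_apply, mul_add]))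
      (fun t x y => Subtype.ext (by
        show b'⁻¹ * _ = σq (t : F) * (b'⁻¹ * _)
        rw [hsmul, Matrix.mulVec_smul, map_smulₛₗ, LinearMap.smul_apply, smul_eq_mul]
        ring))
      (fun x y y' => Subtype.ext (by
        show b'⁻¹ * _ = b'⁻¹ * _ + b'⁻¹ * _
        rw [hadd, Matrix.mulVec_add, map_add, mul_add]))
      (fun t x y => Subtype.ext (by
        show b'⁻¹ * _ = (t : F) * (b'⁻¹ * _)
        rw [hsmul, Matrix.mulVec_smul, map_smul, smul_eq_mul]
        ring))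
  have hBK : ∀ x y, ((BK x y : fixedK σ) : F) = b'⁻¹ * B ((h : Mat) *ᵥ emb x) ((h : Mat) *ᵥ emb y) :=
    fun x y => rfl
  have hS : BK.IsSymm := ⟨fun x y => Subtype.ext (by
    show σq (b'⁻¹ * _) = b'⁻¹ * _
    rw [map_mul, map_inv₀, hb'q, herm_symm hF])⟩
  have hleft : ∀ x, (∀ y, BK x y = 0) → x = 0 := by
    intro x hx
    have hall : (B ((h : Mat) *ᵥ emb x)).comp (Matrix.toLin' (h : Mat)) = 0 :=
      (Pi.basisFun F _).ext fun l => by
        rw [Pi.basisFun_apply, LinearMap.comp_apply, Matrix.toLin'_apply, LinearMap.zero_apply]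
        have h1 := congrArg Subtype.val (hx (Pi.single l 1))
        rw [hBK, show emb (Pi.single l 1) = Pi.single l 1 from funext fun i => by
          simp [emb, Pi.single_apply, apply_ite (fun t : fixedK σ => (t : F))]] at h1
        exact (mul_eq_zero.mp h1).resolve_left (inv_ne_zero hb'0)
    have h2 : (h : Mat) *ᵥ emb x = 0 := (hermBilin_nondegenerate hF n).1 _ fun z => by
      have h3 := LinearMap.congr_fun hall (((h⁻¹ : GLn) : Mat) *ᵥ z)
      rwa [LinearMap.comp_apply, Matrix.toLin'_apply, Matrix.mulVec_mulVec, ← Units.val_mul,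
        mul_inv_cancel, Units.val_one, Matrix.one_mulVec, LinearMap.zero_apply] at h3
    have h4 : emb x = 0 := by
      have := congrArg (((h⁻¹ : GLn) : Mat) *ᵥ ·) h2
      simpa [Matrix.mulVec_mulVec, ← Units.val_mul] using this
    exact funext fun i => Subtype.ext (congrFun h4 i)
  have hN : BK.Nondegenerate := ⟨hleft, fun y hy => hleft y fun x => by
    rw [← hS.eq x y, hy x, map_zero]⟩
  obtain ⟨e, he⟩ := exists_orthonormal_family hσK hσK2 BK hS hN n (by
    rw [Module.finrank_fintype_fun_eq_card, Fintype.card_fin])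
  obtain ⟨ν, hν⟩ := exists_mul_conj_eq (conjHom_ne_id hF) (conjHom_conjHom hF) (s := b') hb'q
  have hν0 : ν ≠ 0 := fun e0 => hb'0 (by rw [← hν, e0, mul_zero])
  let S : Mat := Matrix.of fun i j => (e j i : F)
  set M : Mat := ν⁻¹ • ((h : Mat) * S) with hMdef
  have hcol : ∀ j, (fun i => M i j) = ν⁻¹ • ((h : Mat) *ᵥ emb (e j)) := fun j => by
    funext i
    simp [hMdef, Matrix.mul_apply, Matrix.mulVec, dotProduct, S, emb]
  have hMpres : Mᵀ * M.map σq = 1 := by
    ext i j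
    rw [transpose_mul_map_apply hF, ← hermBilin_apply hF, hcol, hcol, form_smul_smul, Matrix.one_apply]
    have h1 := hBK (e j) (e i)
    rw [he] at h1
    rw [eq_inv_mul_iff_mul_eq₀ hb'0] at h1
    rw [← h1, map_inv₀, ← mul_assoc, ← mul_inv, hν, inv_mul_cancel₀ hb'0, one_mul]
    by_cases hij : i = j
    · subst hij; simp
    · simp [hij, Ne.symm hij]
  have hdet : M.det ≠ 0 := fun e0 => by
    have := congrArg Matrix.det hMpres
    rw [Matrix.det_mul, Matrix.det_transpose, e0, zero_mul, Matrix.det_one] at this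
    exact zero_ne_one this
  let k : GUn := ⟨GeneralLinearGroup.mkOfDetNeZero M hdet, (mem_GU_iff hF _).mpr hMpres⟩
  set w : F := (u : F) * ν / σ ν with hw
  have hσν : σ ν ≠ 0 := fun e0 => hν0 (σ.injective (e0.trans (map_zero σ).symm))
  have hkey : ∀ x, (a.1 : Mat) *ᵥ (((galG σ k).1 : Mat) *ᵥ x) = w • (((k.1 : GLn) : Mat) *ᵥ x) := by
    intro x
    have hσS : S.map σ = S := Matrix.ext fun i j => mem_fixedK.mp (e j i).2
    rw [galG_coe, show ((k.1 : GLn) : Mat) = M from rfl, hMdef,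
      Matrix.map_smul' _ _ _ (map_mul σ), Matrix.map_mul, hσS, Matrix.smul_mulVec, Matrix.smul_mulVec,
      ← Matrix.mulVec_mulVec, ← Matrix.mulVec_mulVec, Matrix.mulVec_smul, hmat, smul_smul, smul_smul]
    congr 1
    rw [map_inv₀, hw]
    field_simp
  have hwN : w ^ (q + 1) = 1 := by
    obtain ⟨z, hz⟩ := exists_form_eq_one hF (v := (Pi.single ⟨0, hn⟩ 1 : Vn)) (Pi.single_ne_zero_iff.2 one_ne_zero)
    have h1 := gu_form hF a (((galG σ k).1 : Mat) *ᵥ Pi.single ⟨0, hn⟩ 1) (((galG σ k).1 : Mat) *ᵥ z)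
    rw [hkey, hkey, form_smul_smul, gu_form, gu_form, hz, mul_one, conjHom_apply, ← pow_succ] at h1
    exact h1
  have hw0 : w ≠ 0 := div_ne_zero (mul_ne_zero u.ne_zero hν0) hσν
  refine ⟨⟨Units.mk0 w hw0, mem_U1.mpr hwN⟩, k, ?_⟩
  rw [← mul_assoc, eq_mul_inv_iff_mul_eq]
  refine Subtype.ext (Units.ext (Matrix.ext_iff_mulVec.mpr fun x => ?_))
  rw [Subgroup.coe_mul, Subgroup.coe_mul, Units.val_mul, Units.val_mul, ← Matrix.mulVec_mulVec,
    ← Matrix.mulVec_mulVec, hkey, scU_mulVec]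
  rfl

variable (p : ℕ) [Fact p.Prime] [CharP F p]

include hF p in
theorem fld_injective (hn : 3 ≤ n) : Function.Injective (fld : (F ≃+* F) →* MulAut PSUn) := fun σ τ e =>
  param_unique hF p hn (g := 1) (h := 1) (by rw [map_one dia, one_mul, one_mul, e])

include hF p in
theorem exists_standard {f : ℕ} (hq : q = p ^ f) (hn : 3 ≤ n) (h32 : ¬ (n = 3 ∧ q = 2)) {x : MulAut PSUn}
    (hx : Cfsg.IsFieldAutClassPSU x) :
    ∃ (σ : F ≃+* F) (h : GUn), σ ≠ 1 ∧ Odd (orderOf σ) ∧ x = dia h * fld σ * (dia h)⁻¹ := by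
  obtain ⟨α, φ, σ, hσ, hodd, hφ, hx⟩ := hx
  obtain ⟨g, τ, rfl⟩ := decomposition hF p hn h32 α
  rw [eq_fld_of_isFieldAutOf hφ] at hx
  haveI := (card_gal hq hF).1
  refine ⟨σ, galG τ⁻¹ g⁻¹, hσ, hodd, ?_⟩
  have hcomm : (fld σ : MulAut PSUn) = fld τ⁻¹ * fld σ * fld τ := by
    rw [← map_mul, ← map_mul, (IsCyclic.commutative (α := F ≃+* F)).is_comm.comm τ⁻¹ σ, inv_mul_cancel_right]
  have hd : (dia (galG τ⁻¹ g⁻¹) : MulAut PSUn) = fld τ⁻¹ * (dia g)⁻¹ * fld τ := by
    rw [← map_inv dia, fld_mul_dia, mul_assoc, ← map_mul fld, inv_mul_cancel, map_one fld, mul_one]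
  have hx' : x = (dia g * fld τ)⁻¹ * fld σ * (dia g * fld τ) := by rw [← hx]; group
  rw [hx', hd]
  conv_rhs => rw [hcomm]
  rw [map_inv fld]
  group

include hF p in
theorem order_iff_conj {f : ℕ} (hq : q = p ^ f) (hn : 3 ≤ n) (h32 : ¬ (n = 3 ∧ q = 2)) {x δ : MulAut PSUn}
    (hx : Cfsg.IsFieldAutClassPSU x) {r : ℕ} (hr : r.Prime) (hxr : orderOf x = r)
    (hδ : δ ∈ Cfsg.inndiagPSU n F q) :
    orderOf (δ * x) = r ↔ Cfsg.IsConjUnder (Cfsg.inndiagPSU n F q) x (δ * x) := by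
  refine ⟨fun h => ?_, fun ⟨w, _, e⟩ => by rw [e, AutPSL.orderOf_conj_eq, hxr]⟩
  obtain ⟨σ, h₀, hσ, hodd, rfl⟩ := exists_standard hF p hq hn h32 hx
  rw [inndiag_eq] at hδ ⊢
  obtain ⟨g₀, rfl⟩ := hδ
  rw [AutPSL.orderOf_conj_eq, orderOf_injective fld (fld_injective hF p hn)] at hxr
  set g := g₀ * h₀ * (galG σ h₀)⁻¹ with hg
  have hgx : dia g₀ * (dia h₀ * fld σ * (dia h₀)⁻¹) = dia g * (fld σ : MulAut PSUn) := by
    rw [conj_fld, ← mul_assoc, ← map_mul, hg, mul_assoc g₀]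
  have hpow : (dia g * fld σ : MulAut PSUn) ^ r = 1 := by
    rw [← hgx, ← h, pow_orderOf_eq_one]
  rw [dia_mul_fld_pow, show σ ^ r = 1 from hxr ▸ pow_orderOf_eq_one σ, map_one fld, mul_one,
    dia_eq_one_iff hF p hn] at hpow
  obtain ⟨c, hc⟩ := hpow
  obtain ⟨u, k, hk⟩ := exists_descent hF (by omega) hr (hxr ▸ hodd) hxr g hc
  refine ⟨dia (k * h₀⁻¹), ⟨_, rfl⟩, ?_⟩
  rw [hgx, hk, map_mul, dia_scU, one_mul, ← conj_fld, map_mul, map_inv]
  group

end Cfsg.Agent.Lib.Classical.AutPSU
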