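import Cfsg.Prelude.Def_LieTypeDatum
import Cfsg.Agent.Lib.Classical.UnitarySimple
import Cfsg.Agent.Lib.Classical.AutPSp.Elements

/-!
Automorphisms of `PSU_n(q)`, part 1: transvections, unitary and field automorphisms.
-/

set_option autoImplicit false

namespace Cfsg.Agent.Lib.Classical.AutPSU

open Matrix
open Cfsg.Agent.Lib.Geometry (det_id_add_smulRight)
open Cfsg.Agent.Lib.Classical

variable {F : Type*} [Field F] {q n : ℕ}

set_option quotPrecheck false in
local notation "SUn" => Subtype (fun A => A ∈ Cfsg.SU n F q)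
set_option quotPrecheck false in
local notation "GUn" => Subtype (fun A => A ∈ Cfsg.GU n F q)
set_option quotPrecheck false in
local notation "Vn" => (Fin n → F)
set_option quotPrecheck false in
local notation "Mat" => Matrix (Fin n) (Fin n) F
set_option quotPrecheck false in
local notation "GLn" => GL (Fin n) F
set_option quotPrecheck false in
local notation "PSUn" => Cfsg.PSU n F q

/-- The matrix of a special unitary element. -/
abbrev mat (g : SUn) : Mat := (g.1 : Matrix.SpecialLinearGroup (Fin n) F).1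

theorem su_ext {g h : SUn} (e : ∀ x, mat g *ᵥ x = mat h *ᵥ x) : g = h :=
  Subtype.ext (Subtype.ext (Matrix.ext_iff_mulVec.mpr e))

theorem mat_mul (g h : SUn) : mat (g * h) = mat g * mat h := rfl

theorem mat_one : mat (1 : SUn) = 1 := rfl

theorem mulVec_mul' (g h : SUn) (x : Vn) : mat (g * h) *ᵥ x = mat g *ᵥ (mat h *ᵥ x) := by
  rw [mat_mul, Matrix.mulVec_mulVec]

theorem one_mulVec' (x : Vn) : mat (1 : SUn) *ᵥ x = x := by rw [mat_one, Matrix.one_mulVec]

theorem inv_mulVec_cancel (g : SUn) (x : Vn) : mat g⁻¹ *ᵥ (mat g *ᵥ x) = x := by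
  rw [← mulVec_mul', inv_mul_cancel, one_mulVec']

theorem mulVec_inv_cancel (g : SUn) (x : Vn) : mat g *ᵥ (mat g⁻¹ *ᵥ x) = x := by
  rw [← mulVec_mul', mul_inv_cancel, one_mulVec']

theorem mulVec_ne_zero' (g : SUn) {x : Vn} (hx : x ≠ 0) : mat g *ᵥ x ≠ 0 := fun h => hx (by
  have := congrArg (mat g⁻¹ *ᵥ ·) h
  simp only [Matrix.mulVec_zero] at this
  rwa [inv_mulVec_cancel] at this)

/-- The projection. -/
def pr : SUn →* PSUn := QuotientGroup.mk' _

theorem pr_surjective : Function.Surjective (pr (F := F) (n := n) (q := q)) :=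
  QuotientGroup.mk'_surjective _

theorem pr_eq_one {x : SUn} : pr x = 1 ↔ x ∈ Subgroup.center SUn := QuotientGroup.eq_one_iff x

open scoped _root_.Classical in
/-- The unitary transvection, when it is one. -/
noncomputable def uT (v : Vn) (c : F) : SUn :=
  if h : (Cfsg.unitaryTransvection n q v c).det = 1 ∧
      ∀ x y, Cfsg.hermForm n F q (Cfsg.unitaryTransvection n q v c *ᵥ x)
        (Cfsg.unitaryTransvection n q v c *ᵥ y) = Cfsg.hermForm n F q x y
  then ⟨⟨_, h.1⟩, h.2⟩ else 1

/-- The image of a transvection. -/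
noncomputable def tau (v : Vn) (c : F) : PSUn := pr (uT v c)

/-! ### Unitary and field automorphisms -/

theorem gu_conj_det (h : GUn) (s : SUn) :
    ((h.1 : Mat) * mat s * ((h.1⁻¹ : GLn) : Mat)).det = 1 := by
  rw [Matrix.det_mul, Matrix.det_mul, show (mat s).det = 1 from s.1.2, mul_one, ← Matrix.det_mul,
    ← Units.val_mul, mul_inv_cancel, Units.val_one, Matrix.det_one]

theorem gu_conj_mem (h : GUn) (s : SUn) :
    (⟨_, gu_conj_det h s⟩ : Matrix.SpecialLinearGroup (Fin n) F) ∈ Cfsg.SU n F q := by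
  intro u v
  show Cfsg.hermForm n F q (((h.1 : Mat) * mat s * ((h.1⁻¹ : GLn) : Mat)) *ᵥ u)
    (((h.1 : Mat) * mat s * ((h.1⁻¹ : GLn) : Mat)) *ᵥ v) = _
  simp only [← Matrix.mulVec_mulVec]
  exact (h.2 _ _).trans ((s.2 _ _).trans ((h⁻¹).2 u v))

/-- Conjugation on `SU` by a unitary matrix. -/
def conjSU : GUn →* MulAut SUn where
  toFun h :=
    { toFun := fun s => ⟨_, gu_conj_mem h s⟩
      invFun := fun s => ⟨_, gu_conj_mem h⁻¹ s⟩
      left_inv := fun s => Subtype.ext (Subtype.ext (by simp [mat, mul_assoc]))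
      right_inv := fun s => Subtype.ext (Subtype.ext (by simp [mat, mul_assoc]))
      map_mul' := fun s t => Subtype.ext (Subtype.ext (by
        show (h.1 : Mat) * (mat s * mat t) * ((h.1⁻¹ : GLn) : Mat) =
          ((h.1 : Mat) * mat s * ((h.1⁻¹ : GLn) : Mat)) * ((h.1 : Mat) * mat t * ((h.1⁻¹ : GLn) : Mat))
        simp [mul_assoc])) }
  map_one' := MulEquiv.ext fun s => Subtype.ext (Subtype.ext (by simp [mat]))
  map_mul' h k := MulEquiv.ext fun s => Subtype.ext (Subtype.ext (by simp [mat, mul_assoc]))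

/-- The inner-diagonal automorphisms. -/
def dia : GUn →* MulAut PSUn := AutPSp.pAut.comp conjSU

theorem dia_pr (h : GUn) (s : SUn) : dia h (pr s) = pr (conjSU h s) := rfl

theorem mat_conjSU (h : GUn) (s : SUn) :
    mat (conjSU h s) = (h.1 : Mat) * mat s * ((h.1⁻¹ : GLn) : Mat) := rfl

theorem hermForm_map (σ : F ≃+* F) (u v : Vn) :
    Cfsg.hermForm n F q (fun i => σ (u i)) (fun i => σ (v i)) = σ (Cfsg.hermForm n F q u v) := by
  simp [Cfsg.hermForm, map_sum]

theorem map_mulVec' (σ : F ≃+* F) (A : Mat) (x : Vn) :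
    A.map σ *ᵥ (fun i => σ (x i)) = fun i => σ ((A *ᵥ x) i) :=
  funext fun i => (RingHom.map_mulVec σ.toRingHom A x i).symm

theorem map_det (σ : F ≃+* F) (s : SUn) : ((mat s).map σ).det = 1 := by
  rw [← σ.coe_toRingHom, ← RingHom.mapMatrix_apply, ← RingHom.map_det,
    show (mat s).det = 1 from s.1.2, map_one]

theorem map_mem (σ : F ≃+* F) (s : SUn) :
    (⟨_, map_det σ s⟩ : Matrix.SpecialLinearGroup (Fin n) F) ∈ Cfsg.SU n F q := by
  intro u v
  show Cfsg.hermForm n F q ((mat s).map σ *ᵥ u) ((mat s).map σ *ᵥ v) = _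
  have hu : u = fun i => σ ((fun j => σ.symm (u j)) i) := funext fun i => (σ.apply_symm_apply _).symm
  have hv : v = fun i => σ ((fun j => σ.symm (v j)) i) := funext fun i => (σ.apply_symm_apply _).symm
  rw [hu, hv, map_mulVec', map_mulVec', hermForm_map, hermForm_map]
  exact congrArg σ (s.2 _ _)

/-- The field automorphisms of `SU`. -/
def mapSU : (F ≃+* F) →* MulAut SUn where
  toFun σ :=
    { toFun := fun s => ⟨_, map_mem σ s⟩
      invFun := fun s => ⟨_, map_mem σ.symm s⟩
      left_inv := fun s => Subtype.ext (Subtype.ext (Matrix.ext fun i j => σ.symm_apply_apply _))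
      right_inv := fun s => Subtype.ext (Subtype.ext (Matrix.ext fun i j => σ.apply_symm_apply _))
      map_mul' := fun s t => Subtype.ext (Subtype.ext (Matrix.map_mul (f := σ))) }
  map_one' := MulEquiv.ext fun s => Subtype.ext (Subtype.ext (Matrix.ext fun i j => rfl))
  map_mul' σ τ := MulEquiv.ext fun s => Subtype.ext (Subtype.ext (Matrix.ext fun i j => rfl))

/-- The standard field automorphisms. -/
def fld : (F ≃+* F) →* MulAut PSUn := AutPSp.pAut.comp mapSU

theorem fld_pr (σ : F ≃+* F) (s : SUn) : fld σ (pr s) = pr (mapSU σ s) := rfl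

theorem isInduced_dia_fld (h : GUn) (σ : F ≃+* F) :
    Cfsg.IsInducedBySemilinearPSU h.1 σ (dia h * fld σ : MulAut PSUn) := by
  intro s s' e
  show dia h (pr (mapSU σ s)) = pr s'
  rw [dia_pr]
  exact congrArg pr (Subtype.ext (Subtype.ext e.symm))

/-! ### With a field of `q²` elements -/

variable [Fintype F] (hF : Fintype.card F = q ^ 2)

set_option quotPrecheck false in
local notation "B" => hermBilin hF n
set_option quotPrecheck false in
local notation "σq" => conjHom hF

theorem su_form (g : SUn) (x y : Vn) : B (mat g *ᵥ x) (mat g *ᵥ y) = B x y := g.2 y x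

theorem gu_form (g : GUn) (x y : Vn) : B ((g.1 : Mat) *ᵥ x) ((g.1 : Mat) *ᵥ y) = B x y := g.2 y x

theorem form_map (σ : F ≃+* F) (x y : Vn) :
    B (fun i => σ (x i)) (fun i => σ (y i)) = σ (B x y) := hermForm_map σ y x

theorem conj_comm (σ : F ≃+* F) (x : F) : σq (σ x) = σ (σq x) := by
  rw [conjHom_apply, conjHom_apply, map_pow]

theorem form_self_conj (x : Vn) : σq (B x x) = B x x := herm_symm hF x x

theorem tv_mulVec (v : Vn) (c : F) (x : Vn) :
    Cfsg.unitaryTransvection n q v c *ᵥ x = x + (c * B v x) • v := by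
  rw [Cfsg.unitaryTransvection, Matrix.add_mulVec, Matrix.one_mulVec, Matrix.smul_mulVec,
    Matrix.vecMulVec_mulVec, dotProduct_comm, op_smul_eq_smul, smul_smul]
  rfl

theorem uT_mulVec {v : Vn} (hv : B v v = 0) {c : F} (hc : σq c = -c) (x : Vn) :
    mat (uT (q := q) v c) *ᵥ x = x + (c * B v x) • v := by
  classical
  have hdet : (Cfsg.unitaryTransvection n q v c).det = 1 := by
    have e : Matrix.toLin' (Cfsg.unitaryTransvection n q v c) =
        LinearMap.id + (c • B v).smulRight v := by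
      refine LinearMap.ext fun y => ?_
      rw [Matrix.toLin'_apply, tv_mulVec hF]
      simp
    rw [← LinearMap.det_toLin', e, det_id_add_smulRight, LinearMap.smul_apply, hv, smul_zero, add_zero]
  have hform : ∀ x y, Cfsg.hermForm n F q (Cfsg.unitaryTransvection n q v c *ᵥ x)
      (Cfsg.unitaryTransvection n q v c *ᵥ y) = Cfsg.hermForm n F q x y := by
    intro y x
    rw [← hermBilin_apply hF, ← hermBilin_apply hF, tv_mulVec hF, tv_mulVec hF]
    simp only [map_add, map_smul, map_smulₛₗ, LinearMap.add_apply, LinearMap.smul_apply, smul_eq_mul,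
      map_mul, hv, hc, herm_symm hF v x, mul_zero, add_zero]
    ring
  rw [uT, dif_pos ⟨hdet, hform⟩]
  exact tv_mulVec hF v c x

include hF in
theorem uT_zero {v : Vn} (hv : B v v = 0) : uT (q := q) v (0 : F) = 1 :=
  su_ext fun x => by rw [uT_mulVec hF hv (by simp), one_mulVec', zero_mul, zero_smul, add_zero]

include hF in
theorem uT_add {v : Vn} (hv : B v v = 0) {c d : F} (hc : σq c = -c) (hd : σq d = -d) :
    uT (q := q) v c * uT v d = uT v (c + d) := su_ext fun x => by
  rw [mulVec_mul', uT_mulVec hF hv hd, uT_mulVec hF hv hc, uT_mulVec hF hv (by rw [map_add, hc, hd]; ring),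
    map_add, map_smul, hv, smul_zero, add_zero, add_mul, add_smul]
  abel

theorem uT_conj (g : SUn) {v : Vn} (hv : B v v = 0) {c : F} (hc : σq c = -c) :
    g * uT v c * g⁻¹ = uT (mat g *ᵥ v) c := su_ext fun x => by
  rw [mulVec_mul', mulVec_mul', uT_mulVec hF hv hc, uT_mulVec hF (by rw [su_form, hv]) hc,
    Matrix.mulVec_add, mulVec_inv_cancel, Matrix.mulVec_smul]
  congr 3
  rw [← su_form hF g, mulVec_inv_cancel]

theorem form_smul_smul (a b : F) (x y : Vn) : B (a • x) (b • y) = σq a * b * B x y := by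
  simp only [map_smul, map_smulₛₗ, LinearMap.smul_apply, smul_eq_mul]
  ring

theorem skew_mul_fixed {c t : F} (hc : σq c = -c) (ht : σq t = t) : σq (c * t) = -(c * t) := by
  rw [map_mul, hc, ht, neg_mul]

theorem norm_fixed (a : F) : σq (a * σq a) = a * σq a := by
  rw [map_mul, conjHom_conjHom, mul_comm]

include hF in
theorem uT_smul (a : F) {v : Vn} (hv : B v v = 0) {c : F} (hc : σq c = -c) :
    uT (q := q) (a • v) c = uT v (c * (a * σq a)) := su_ext fun x => by
  rw [uT_mulVec hF (by rw [form_smul_smul, hv, mul_zero]) hc,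
    uT_mulVec hF hv (skew_mul_fixed hF hc (norm_fixed hF a)), smul_smul, map_smulₛₗ,
    LinearMap.smul_apply, smul_eq_mul]
  congr 2
  ring

theorem tau_zero {v : Vn} (hv : B v v = 0) : tau (q := q) v (0 : F) = 1 := by
  rw [tau, uT_zero hF hv, map_one]

theorem tau_add {v : Vn} (hv : B v v = 0) {c d : F} (hc : σq c = -c) (hd : σq d = -d) :
    tau (q := q) v c * tau v d = tau v (c + d) := by
  rw [tau, tau, ← map_mul, uT_add hF hv hc hd]; rfl

theorem tau_conj (g : SUn) {v : Vn} (hv : B v v = 0) {c : F} (hc : σq c = -c) :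
    pr g * tau v c * (pr g)⁻¹ = tau (mat g *ᵥ v) c := by
  rw [tau, ← map_inv, ← map_mul, ← map_mul, uT_conj hF g hv hc]; rfl

theorem tau_smul (a : F) {v : Vn} (hv : B v v = 0) {c : F} (hc : σq c = -c) :
    tau (q := q) (a • v) c = tau v (c * (a * σq a)) := by
  rw [tau, uT_smul hF a hv hc]; rfl

theorem uT_pow {v : Vn} (hv : B v v = 0) {c : F} (hc : σq c = -c) (k : ℕ) :
    uT (q := q) v c ^ k = uT v ((k : F) * c) := by
  induction k with
  | zero => rw [pow_zero, Nat.cast_zero, zero_mul, uT_zero hF hv]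
  | succ k ih =>
    rw [pow_succ, ih, uT_add hF hv (by rw [map_mul, map_natCast, hc, mul_neg]) hc, Nat.cast_succ, add_one_mul]

theorem uT_pow_char (p : ℕ) [CharP F p] {v : Vn} (hv : B v v = 0) {c : F} (hc : σq c = -c) :
    uT (q := q) v c ^ p = 1 := by
  rw [uT_pow hF hv hc, CharP.cast_eq_zero, zero_mul, uT_zero hF hv]

variable (p : ℕ) [Fact p.Prime] [CharP F p]

omit [Fintype F] in
/-- The only `p`-power root of unity is one. -/
theorem eq_one_of_pow_char {a : F} {k : ℕ} (h : a ^ p ^ k = 1) : a = 1 := by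
  haveI : ExpChar F p := ExpChar.prime Fact.out
  have : (a - 1) ^ p ^ k = 0 := by rw [sub_pow_expChar_pow, h, one_pow, sub_self]
  exact sub_eq_zero.mp (eq_zero_of_pow_eq_zero this)

include hF in
theorem eq_one_of_central_pow (hn : 1 ≤ n) {z : SUn} (hz : z ∈ Subgroup.center SUn) {k : ℕ}
    (h : z ^ p ^ k = 1) : z = 1 := by
  have e := SU_center_scalar hF z hz ⟨0, hn⟩
  set a := mat z ⟨0, hn⟩ ⟨0, hn⟩
  have h1 : (mat z) ^ p ^ k = 1 := by
    have := congrArg (fun g : SUn => mat g) h
    simpa [mat] using this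
  rw [show mat z = a • 1 from e, smul_pow, one_pow] at h1
  have h2 := congrFun (congrFun h1 ⟨0, hn⟩) ⟨0, hn⟩
  simp at h2
  refine su_ext fun x => ?_
  rw [one_mulVec', show mat z = a • 1 from e, eq_one_of_pow_char p h2, one_smul, Matrix.one_mulVec]

include hF in
theorem eq_of_pr_eq (hn : 1 ≤ n) {x y : SUn} (hx : x ^ p = 1) (hy : y ^ p = 1) (h : pr x = pr y) :
    x = y := by
  have hz : x⁻¹ * y ∈ Subgroup.center SUn := QuotientGroup.eq.mp h
  refine inv_mul_eq_one.mp (eq_one_of_central_pow hF p hn hz (k := 1) ?_)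
  have hc : Commute x (x⁻¹ * y) := Subgroup.mem_center_iff.mp hz x
  have h2 : (x * (x⁻¹ * y)) ^ p = x ^ p * (x⁻¹ * y) ^ p := hc.mul_pow p
  rw [mul_inv_cancel_left, hy, hx, one_mul] at h2
  rw [pow_one, ← h2]

omit [Fact p.Prime] [CharP F p] in
theorem exists_form_eq_one {v : Vn} (hv : v ≠ 0) : ∃ x : Vn, B v x = 1 := by
  obtain ⟨i, hi⟩ := Function.ne_iff.mp hv
  refine ⟨(σq (v i))⁻¹ • Pi.single i 1, ?_⟩
  rw [map_smul, smul_eq_mul, ← herm_symm hF, hermBilin_single, inv_mul_cancel₀]
  exact (map_ne_zero_iff _ (RingHom.injective _)).mpr hi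

omit [Fact p.Prime] [CharP F p] in
theorem uT_eq_imp {v w : Vn} (hv0 : v ≠ 0) (hv : B v v = 0) (hw : B w w = 0) {c d : F} (hc0 : c ≠ 0)
    (hc : σq c = -c) (hd : σq d = -d) (h : uT (q := q) v c = uT w d) :
    ∃ a : F, a ≠ 0 ∧ w = a • v ∧ d * (a * σq a) = c := by
  obtain ⟨x, hx⟩ := exists_form_eq_one hF hv0
  have h1 := congrArg (fun g : SUn => mat g *ᵥ x) h
  simp only [uT_mulVec hF hv hc, uT_mulVec hF hw hd, add_right_inj, hx, mul_one] at h1
  set b := d * B w x with hb_def
  have hb : b ≠ 0 := fun e => by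
    rw [e, zero_smul, smul_eq_zero] at h1
    exact h1.elim hc0 hv0
  have hwv : w = (b⁻¹ * c) • v := by rw [mul_smul, h1, inv_smul_smul₀ hb]
  refine ⟨b⁻¹ * c, mul_ne_zero (inv_ne_zero hb) hc0, hwv, ?_⟩
  have h2 : uT (q := q) v c = uT v (d * (b⁻¹ * c * σq (b⁻¹ * c))) := by
    rw [h, hwv, uT_smul hF _ hv hd]
  have h3 := congrArg (fun g : SUn => mat g *ᵥ x) h2
  simp only [uT_mulVec hF hv hc, uT_mulVec hF hv (skew_mul_fixed hF hd (norm_fixed hF _)), add_right_inj,
    hx, mul_one] at h3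
  exact (smul_left_injective F hv0 h3).symm

include p in
theorem tau_eq_imp (hn : 1 ≤ n) {v w : Vn} (hv0 : v ≠ 0) (hv : B v v = 0) (hw : B w w = 0) {c d : F}
    (hc0 : c ≠ 0) (hc : σq c = -c) (hd : σq d = -d) (h : tau (q := q) v c = tau w d) :
    ∃ a : F, a ≠ 0 ∧ w = a • v ∧ d * (a * σq a) = c :=
  uT_eq_imp hF hv0 hv hw hc0 hc hd
    (eq_of_pr_eq hF p hn (uT_pow_char hF p hv hc) (uT_pow_char hF p hw hd) h)

include p in
theorem tau_inj (hn : 1 ≤ n) {v : Vn} (hv0 : v ≠ 0) (hv : B v v = 0) {c d : F} (hc : σq c = -c)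
    (hd : σq d = -d) (h : tau (q := q) v c = tau v d) : c = d := by
  by_contra hne
  have hcd : σq (c - d) = -(c - d) := by rw [map_sub, hc, hd]; ring
  have h0 : tau (q := q) v (c - d) = tau v (0 : F) := by
    have h1 : tau (q := q) v (c - d) * tau v d = tau v 0 * tau v d := by
      rw [tau_add hF hv hcd hd, tau_add hF hv (by simp) hd, sub_add_cancel, zero_add, h]
    exact mul_right_cancel h1
  obtain ⟨a, -, -, ha⟩ := tau_eq_imp hF p hn hv0 hv hv (sub_ne_zero.mpr hne) hcd (by simp) h0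
  exact hne (sub_eq_zero.mp (by rw [← ha, zero_mul]))

include p in
/-- Transvections commute exactly when their centres are orthogonal. -/
theorem tau_commute_iff (hn : 1 ≤ n) {v w : Vn} (hw0 : w ≠ 0) (hv : B v v = 0)
    (hw : B w w = 0) {c d : F} (hc0 : c ≠ 0) (hd0 : d ≠ 0) (hc : σq c = -c) (hd : σq d = -d) :
    tau (q := q) v c * tau w d = tau w d * tau v c ↔ B v w = 0 := by
  constructor
  · intro h
    have hw' : B (mat (uT (q := q) v c) *ᵥ w) (mat (uT (q := q) v c) *ᵥ w) = 0 := by rw [su_form hF, hw]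
    have h1 : tau (q := q) (mat (uT (q := q) v c) *ᵥ w) d = tau w d := by
      rw [← tau_conj hF _ hw hd, show pr (uT (q := q) v c) = tau v c from rfl, h, mul_inv_cancel_right]
    obtain ⟨a, -, e, -⟩ := tau_eq_imp hF p hn hw0 hw hw' hd0 hd hd h1.symm
    rw [uT_mulVec hF hv hc] at e
    have e2 : (c * B v w) • v = (a - 1) • w := by rw [sub_smul, one_smul, ← e, add_sub_cancel_left]
    have e3 := congrArg (fun x => B x w) e2
    simp only [map_smulₛₗ, LinearMap.smul_apply, smul_eq_mul, hw, mul_zero, mul_eq_zero, map_mul] at e3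
    rcases e3 with (e3 | e3) | e3
    · exact absurd ((map_eq_zero_iff _ (RingHom.injective _)).mp e3) hc0
    · exact (map_eq_zero_iff _ (RingHom.injective _)).mp e3
    · exact e3
  · intro h
    have h1 : pr (uT (q := q) v c) * tau w d * (pr (uT (q := q) v c))⁻¹ = tau w d := by
      rw [tau_conj hF _ hw hd, uT_mulVec hF hv hc, h, mul_zero, zero_smul, add_zero]
    exact mul_inv_eq_iff_eq_mul.mp h1

omit [Fact p.Prime] [CharP F p] in
include hF in
/-- Automorphisms agreeing on transvections are equal. -/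
theorem mulAut_ext (hn : 3 ≤ n) (h32 : ¬ (n = 3 ∧ q = 2)) {α β : MulAut PSUn}
    (h : ∀ (v : Vn) (c : F), v ≠ 0 → B v v = 0 → σq c = -c → α (tau v c) = β (tau v c)) : α = β := by
  have htop : ((MonoidHom.eqLocus (α.toMonoidHom.comp pr) (β.toMonoidHom.comp pr)) : Subgroup SUn) = ⊤ := by
    rw [eq_top_iff, ← Cfsg.Agent.S0780.result hF n hn h32, Subgroup.closure_le]
    rintro A ⟨v, c, hv, hA⟩
    have hA' : ∀ x, mat A *ᵥ x = x + (c * B v x) • v := fun x => by
      rw [show mat A = _ from hA, tv_mulVec hF]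
    show α (pr A) = β (pr A)
    by_cases hv0 : v = 0
    · have : A = 1 := su_ext fun x => by rw [hA', hv0, smul_zero, add_zero, one_mulVec']
      rw [this, map_one, map_one, map_one]
    obtain ⟨x, hx⟩ := exists_form_eq_one hF hv0
    have hc : σq c = -c := by
      have e := su_form hF A x x
      rw [hA', hx, mul_one] at e
      simp only [map_add, map_smul, map_smulₛₗ, LinearMap.add_apply, LinearMap.smul_apply, smul_eq_mul,
        show B v v = 0 from hv, hx, ← herm_symm hF v x, map_one, mul_zero, add_zero, mul_one] at e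
      linear_combination e
    have : A = uT v c := su_ext fun y => by rw [hA', uT_mulVec hF hv hc]
    rw [this]
    exact h v c hv0 hv hc
  refine MulEquiv.ext fun x => ?_
  obtain ⟨s, rfl⟩ := pr_surjective x
  exact (Subgroup.eq_top_iff' _).mp htop s

omit [Fact p.Prime] [CharP F p] in
include hF in
theorem dia_tau (h : GUn) {v : Vn} (hv : B v v = 0) {c : F} (hc : σq c = -c) :
    dia h (tau v c) = tau ((h.1 : Mat) *ᵥ v) c := by
  rw [tau, dia_pr]
  refine congrArg pr (su_ext fun x => ?_)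
  rw [mat_conjSU]
  set y := ((h.1⁻¹ : GLn) : Mat) *ᵥ x with hy
  have hx : (h.1 : Mat) *ᵥ y = x := by
    rw [hy, Matrix.mulVec_mulVec, ← Units.val_mul, mul_inv_cancel, Units.val_one, Matrix.one_mulVec]
  rw [← Matrix.mulVec_mulVec, ← Matrix.mulVec_mulVec, ← hy, uT_mulVec hF hv hc,
    uT_mulVec hF (by rw [gu_form, hv]) hc, Matrix.mulVec_add, Matrix.mulVec_smul, hx]
  conv_rhs => rw [← hx, gu_form, hx]

omit [Fact p.Prime] [CharP F p] in
include hF in
theorem fld_tau (σ : F ≃+* F) {v : Vn} (hv : B v v = 0) {c : F} (hc : σq c = -c) :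
    fld σ (tau (q := q) v c) = tau (fun i => σ (v i)) (σ c) := by
  rw [tau, fld_pr]
  refine congrArg pr (su_ext fun x => ?_)
  show (mat (uT (q := q) v c)).map σ *ᵥ x = _
  have hx : x = fun i => σ ((fun j => σ.symm (x j)) i) := funext fun i => (σ.apply_symm_apply _).symm
  rw [uT_mulVec hF (by rw [form_map, hv, map_zero]) (by rw [conj_comm, hc, map_neg])]
  conv_lhs => rw [hx, map_mulVec', uT_mulVec hF hv hc]
  conv_rhs => rw [hx, form_map]
  funext i
  simp

end Cfsg.Agent.Lib.Classical.AutPSU
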