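import Cfsg.Agent.Lib.Classical.AutPSU.Descent
import Cfsg.Agent.Lib.Classical.AutPSp.FieldClass

/-!
The centraliser and the splitting of the class of a field automorphism of `PSU_n(q)`.
-/

set_option autoImplicit false

namespace Cfsg.Agent.Lib.Classical.AutPSU

open Matrix
open Cfsg.Agent.Lib.Geometry (exists_mul_conj_eq)
open Cfsg.Agent.Lib.Classical

variable {F : Type*} [Field F] [Fintype F] {q n : ℕ}

set_option quotPrecheck false in
local notation "SUn" => Subtype (fun A => A ∈ Cfsg.SU n F q)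
set_option quotPrecheck false in
local notation "GUn" => Subtype (fun A => A ∈ Cfsg.GU n F q)
set_option quotPrecheck false in
local notation "Mat" => Matrix (Fin n) (Fin n) F
set_option quotPrecheck false in
local notation "PSUn" => Cfsg.PSU n F q

variable (hF : Fintype.card F = q ^ 2)

set_option quotPrecheck false in
local notation "σq" => conjHom hF

/-- The determinant, with values in the norm-one elements. -/
noncomputable def detU : GUn →* U1 F q :=
  MonoidHom.codRestrict ((Matrix.GeneralLinearGroup.det : GL (Fin n) F →* Fˣ).comp (Cfsg.GU n F q).subtype)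
    (U1 F q) (fun g => by
      rw [mem_U1]
      have h := congrArg Matrix.det ((mem_GU_iff hF g.1).mp g.2)
      rw [Matrix.det_mul, Matrix.det_transpose, Matrix.det_one, ← RingHom.mapMatrix_apply,
        ← RingHom.map_det, conjHom_apply, ← pow_succ'] at h
      exact h)

theorem detU_coe (g : GUn) : (((detU hF g : U1 F q) : Fˣ) : F) = (g.1 : Mat).det := rfl

theorem detU_surjective (hn : 1 ≤ n) : Function.Surjective (detU (n := n) hF) := by
  intro u
  set v : Fin n → F := Function.update (fun _ => 1) ⟨0, hn⟩ ((u : Fˣ) : F) with hv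
  have hdet : (Matrix.diagonal v).det = ((u : Fˣ) : F) := by
    rw [Matrix.det_diagonal, hv, Finset.prod_update_of_mem (Finset.mem_univ _)]
    simp
  refine ⟨⟨Matrix.GeneralLinearGroup.mkOfDetNeZero (Matrix.diagonal v) (by rw [hdet]; exact u.1.ne_zero),
    (mem_GU_iff hF _).mpr (diagonal_preserves hF v fun i => ?_)⟩, Subtype.ext (Units.ext hdet)⟩
  rcases eq_or_ne i ⟨0, hn⟩ with rfl | hi
  · simpa [hv] using mem_U1.mp u.2
  · simp [hv, hi]

theorem detU_scU (u : U1 F q) : detU (n := n) hF (scU u) = u ^ n := by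
  refine Subtype.ext (Units.ext ?_)
  rw [detU_coe, scU_coe]
  simp [Matrix.scalar_apply]

theorem detU_suG (s : SUn) : detU hF (suG s) = 1 :=
  Subtype.ext (Units.ext (by rw [detU_coe, suG_coe]; exact s.1.2))

variable (p : ℕ) [Fact p.Prime] [CharP F p]

include hF p in
theorem field_class {f : ℕ} (hq : q = p ^ f) (hn : 3 ≤ n) (h32 : ¬ (n = 3 ∧ q = 2)) {x : MulAut PSUn}
    (hx : Cfsg.IsFieldAutClassPSU x) {r : ℕ} (hr : r.Prime) (hro : Odd r) (hxr : orderOf x = r)
    (F₀ : Type*) [Field F₀] [Fintype F₀] (hF₀ : Fintype.card F₀ = p ^ (2 * (f / r))) :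
    r ∣ f ∧
      Nonempty (↥(Cfsg.inndiagPSU n F q ⊓ Subgroup.centralizer {x}) ≃* Cfsg.PGU n F₀ (p ^ (f / r))) ∧
      Cfsg.splitClassCount (Cfsg.inndiagPSU n F q) (Cfsg.Inn PSUn) x =
        Nat.gcd n ((q + 1) / (p ^ (f / r) + 1)) := by
  classical
  have hn1 : 1 ≤ n := by omega
  obtain ⟨σ, h₀, hσ, -, rfl⟩ := exists_standard hF p hq hn h32 hx
  rw [AutPSL.orderOf_conj_eq, orderOf_injective fld (fld_injective hF p hn)] at hxr
  obtain ⟨-, hcard⟩ := card_gal hq hF
  have hr2 : r ≠ 2 := fun e => by rw [e] at hro; exact absurd hro (by decide)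
  have hrf : r ∣ f := by
    have h1 : r ∣ 2 * f := by rw [← hcard, ← hxr]; exact orderOf_dvd_natCard σ
    exact ((Nat.coprime_primes hr Nat.prime_two).mpr hr2).dvd_of_dvd_mul_left h1
  have hσr : σ ^ r = 1 := hxr ▸ pow_orderOf_eq_one σ
  obtain ⟨j, hj⟩ := AutPSL.exists_fixedField_hom (p := p) (f := 2 * f) (F := F)
    (by rw [hF, hq, ← pow_mul, mul_comm]) hxr (dvd_mul_of_dvd_right hrf 2)
    (F₀ := F₀) (by rw [hF₀, Nat.mul_div_assoc 2 hrf])
  set q₀ := p ^ (f / r) with hq₀
  have hF₀' : Fintype.card F₀ = q₀ ^ 2 := by rw [hF₀, hq₀, ← pow_mul, mul_comm]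
  have hqq : q = q₀ ^ r := by rw [hq, hq₀, ← pow_mul, Nat.div_mul_cancel hrf]
  have hjq : ∀ x : F₀, σq (j x) = j (conjHom hF₀' x) := by
    intro x
    rw [conjHom_apply, conjHom_apply, ← map_pow]
    congr 1
    obtain ⟨t, ht⟩ := hro
    rw [hqq, ht, pow_succ' q₀, pow_mul q₀, pow_mul, ← hF₀', FiniteField.pow_card_pow]
  have hmap : ∀ k : Cfsg.GU n F₀ q₀,
      Units.map (RingHom.toMonoidHom j.mapMatrix) k.1 ∈ Cfsg.GU n F q := by
    intro k
    refine (mem_GU_iff hF _).mpr ?_
    have h := congrArg j.mapMatrix ((mem_GU_iff hF₀' k.1).mp k.2)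
    rw [map_mul, map_one] at h
    show ((k.1 : Matrix (Fin n) (Fin n) F₀).map j)ᵀ * ((k.1 : Matrix (Fin n) (Fin n) F₀).map j).map σq = 1
    rw [← h]
    congr 1
    ext a b
    exact hjq _
  let jG : Cfsg.GU n F₀ q₀ →* GUn :=
    MonoidHom.mk' (fun k => ⟨_, hmap k⟩) fun a b => Subtype.ext (map_mul _ _ _)
  let jU : U1 F₀ q₀ →* U1 F q :=
    MonoidHom.mk' (fun u => ⟨Units.map (j : F₀ →* F) u.1, mem_U1.mpr (by
      show j (u.1 : F₀) ^ (q + 1) = 1
      rw [pow_succ, ← conjHom_apply hF, hjq, conjHom_apply, ← map_mul, ← pow_succ, mem_U1.mp u.2,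
        map_one])⟩) fun a b => Subtype.ext (map_mul _ _ _)
  have hjdet : ∀ k, detU hF (jG k) = jU (detU hF₀' k) := fun k => Subtype.ext (Units.ext (by
    rw [detU_coe]
    exact (RingHom.map_det j _).symm))
  have hjfix : ∀ k, galG σ (jG k) = jG k := fun k =>
    Subtype.ext (Units.ext (Matrix.ext fun s t => (hj _).mpr ⟨_, rfl⟩))
  rw [inndiag_eq]
  set N := (dia (F := F) (q := q) (n := n)).range with hNdef
  set a : MulAut PSUn := dia h₀ with ha
  have hnorm : ∀ b : MulAut PSUn, ∀ y, b * y * b⁻¹ ∈ N ↔ y ∈ N := fun b y => by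
    refine ⟨fun h => ?_, inndiag_normal hF p hn h32 b⟩
    have := inndiag_normal hF p hn h32 b⁻¹ h
    rwa [show b⁻¹ * (b * y * b⁻¹) * b⁻¹⁻¹ = y by group] at this
  have hInn : ∀ b : MulAut PSUn, ∀ y, b * y * b⁻¹ ∈ Cfsg.Inn PSUn ↔ y ∈ Cfsg.Inn PSUn := fun b y => by
    have key : ∀ (b : MulAut PSUn) y, y ∈ Cfsg.Inn PSUn → b * y * b⁻¹ ∈ Cfsg.Inn PSUn := by
      rintro b _ ⟨z, rfl⟩
      exact ⟨b z, MulEquiv.ext fun w => by simp [MulAut.conj_apply]⟩
    refine ⟨fun h => ?_, key b y⟩
    have := key b⁻¹ _ h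
    simpa [mul_assoc] using this
  have hcent : ∀ g : GUn, dia g ∈ Subgroup.centralizer {(fld σ : MulAut PSUn)} ↔
      ∃ c, g⁻¹ * galG σ g = scU c := by
    intro g
    rw [Subgroup.mem_centralizer_singleton_iff, fld_mul_dia, mul_left_inj, ← dia_eq_one_iff hF p hn, map_mul,
      map_inv, inv_mul_eq_one]
  have hsurj : ∀ g : GUn, (∃ c, g⁻¹ * galG σ g = scU c) → ∃ k u, g = jG k * scU u := by
    rintro g ⟨c, hc⟩
    have hgc : galG σ g = g * scU c := by rw [← hc, mul_inv_cancel_left]
    have hiter : ∀ k, ∃ v : U1 F q, ((v : Fˣ) : F) = AutPSL.galNorm σ k ((c : Fˣ) : F) ∧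
        galG (σ ^ k) g = g * scU v := by
      intro k
      induction k with
      | zero =>
        refine ⟨1, rfl, ?_⟩
        rw [map_one scU, mul_one, pow_zero]
        exact Subtype.ext (Units.ext (Matrix.ext fun a b => rfl))
      | succ k ih =>
        obtain ⟨v, hv, e⟩ := ih
        refine ⟨c * mapU1 σ v, by rw [AutPSL.galNorm, ← hv]; rfl, ?_⟩
        rw [show galG (σ ^ (k + 1)) g = galG σ (galG (σ ^ k) g) from by
          refine Subtype.ext (Units.ext (Matrix.ext fun a b => ?_))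
          rw [pow_succ']; rfl, e, map_mul, hgc, galG_scU, mul_assoc, ← map_mul scU]
    obtain ⟨v, hv, e⟩ := hiter r
    rw [hσr, show galG (1 : F ≃+* F) g = g from Subtype.ext (Units.ext (Matrix.ext fun a b => rfl)), eq_comm,
      mul_eq_left] at e
    have hv1 : ((v : Fˣ) : F) = 1 := by
      have h := congrArg (fun k : GUn => (k.1 : Mat) ⟨0, hn1⟩ ⟨0, hn1⟩) e
      simpa [scU_coe] using h
    obtain ⟨b, hb0, hb⟩ := AutPSL.exists_twist_scalar hr hσr (fun h => hσ h)
      (a := ((c : Fˣ) : F)) (by rw [← hv, hv1])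
    set hm : Mat := b • (g.1 : Mat) with hmdef
    have hgσ : ∀ s t, σ ((g.1 : Mat) s t) = (g.1 : Mat) s t * ((c : Fˣ) : F) := fun s t => by
      have := congrArg (fun k : GUn => (k.1 : Mat) s t) hgc
      rw [galG_coe, Subgroup.coe_mul, Units.val_mul, scU_coe] at this
      simpa [Matrix.scalar_apply, Matrix.mul_diagonal] using this
    have hh : ∀ s t, σ (hm s t) = hm s t := by
      intro s t
      rw [hmdef, Matrix.smul_apply, smul_eq_mul, map_mul, hgσ]
      linear_combination (g.1 : Mat) s t * hb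
    choose H hH using fun s t => (hj _).mp (hh s t)
    have hHmat : (Matrix.of H).map j = hm := Matrix.ext hH
    have hgU := (mem_GU_iff hF g.1).mp g.2
    have hform : hmᵀ * hm.map σq = (b * σq b) • (1 : Mat) := by
      rw [hmdef, Matrix.transpose_smul, Matrix.map_smul' _ _ _ (map_mul σq), Matrix.smul_mul, Matrix.mul_smul,
        smul_smul, hgU]
    set P := (Matrix.of H)ᵀ * (Matrix.of H).map (conjHom hF₀') with hPdef
    have hPj : P.map j = (b * σq b) • (1 : Mat) := by
      rw [← hform, ← hHmat, hPdef, Matrix.map_mul]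
      congr 1
      ext s t
      exact (hjq _).symm
    set d := P ⟨0, hn1⟩ ⟨0, hn1⟩ with hddef
    have hdj : j d = b * σq b := by
      have := congrFun (congrFun hPj ⟨0, hn1⟩) ⟨0, hn1⟩
      simpa using this
    have hd : conjHom hF₀' d = d := j.injective (by
      rw [← hjq, hdj, map_mul, conjHom_conjHom, mul_comm])
    obtain ⟨ν, hν⟩ := exists_mul_conj_eq (conjHom_ne_id hF₀') (conjHom_conjHom hF₀') (s := d) hd
    have hbN : b * σq b ≠ 0 := mul_ne_zero hb0 ((map_ne_zero_iff _ (RingHom.injective _)).mpr hb0)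
    have hν0 : ν ≠ 0 := fun e0 => hbN (by rw [← hdj, ← hν, e0, mul_zero, map_zero])
    set K₀ : Matrix (Fin n) (Fin n) F₀ := ν⁻¹ • Matrix.of H with hK₀
    have hpres : K₀ᵀ * K₀.map (conjHom hF₀') = 1 := by
      rw [hK₀, Matrix.transpose_smul, Matrix.map_smul' _ _ _ (map_mul (conjHom hF₀')), Matrix.smul_mul,
        Matrix.mul_smul, smul_smul, ← hPdef]
      refine Matrix.ext fun s t => j.injective ?_
      have h1 := congrFun (congrFun hPj s) t
      simp only [Matrix.map_apply, Matrix.smul_apply, smul_eq_mul] at h1 ⊢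
      rw [map_mul, h1, ← hdj, ← hν, map_inv₀, ← mul_inv, map_inv₀, mul_comm ν, ← mul_assoc,
        inv_mul_cancel₀, one_mul]
      · rw [Matrix.one_apply, Matrix.one_apply]; split_ifs <;> simp
      · rw [map_mul]; exact mul_ne_zero ((map_ne_zero_iff _ (RingHom.injective _)).mpr
          ((map_ne_zero_iff _ (RingHom.injective _)).mpr hν0)) ((map_ne_zero_iff _ (RingHom.injective _)).mpr hν0)
    have hdet : K₀.det ≠ 0 := fun e0 => by
      have := congrArg Matrix.det hpres
      rw [Matrix.det_mul, Matrix.det_transpose, e0, zero_mul, Matrix.det_one] at this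
      exact zero_ne_one this
    let k : Cfsg.GU n F₀ q₀ := ⟨GeneralLinearGroup.mkOfDetNeZero K₀ hdet, (mem_GU_iff hF₀' _).mpr hpres⟩
    have hjν : j ν ≠ 0 := (map_ne_zero_iff _ (RingHom.injective _)).mpr hν0
    have hu : (Units.mk0 (j ν / b) (div_ne_zero hjν hb0)) ∈ U1 F q := by
      rw [mem_U1, Units.val_mk0, pow_succ, ← conjHom_apply hF, map_div₀, hjq, div_mul_div_comm, ← map_mul,
        hν, hdj, mul_comm b, div_self]
      rwa [mul_comm]
    refine ⟨k, ⟨_, hu⟩, Subtype.ext (Units.ext (Matrix.ext fun s t => ?_))⟩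
    rw [Subgroup.coe_mul, Units.val_mul, scU_coe]
    show (g.1 : Mat) s t = ((K₀.map j) * Matrix.scalar (Fin n) (j ν / b)) s t
    rw [Matrix.scalar_apply, Matrix.mul_diagonal, Matrix.map_apply, hK₀, Matrix.smul_apply, smul_eq_mul,
      map_mul, Matrix.of_apply, hH, hmdef, Matrix.smul_apply, smul_eq_mul, map_inv₀]
    field_simp
  refine ⟨hrf, ?_, ?_⟩
  · let C := N ⊓ Subgroup.centralizer {(fld σ : MulAut PSUn)}
    let Φ : Cfsg.GU n F₀ q₀ →* C := MonoidHom.codRestrict (dia.comp jG) C fun k =>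
      ⟨⟨jG k, rfl⟩, (hcent _).mpr ⟨1, by rw [hjfix, inv_mul_cancel, map_one scU]⟩⟩
    have hΦs : Function.Surjective Φ := by
      rintro ⟨_, ⟨g, rfl⟩, hg⟩
      obtain ⟨k, u, rfl⟩ := hsurj g ((hcent g).mp hg)
      refine ⟨k, Subtype.ext ?_⟩
      show dia (jG k) = dia (jG k * scU u)
      rw [map_mul, dia_scU, mul_one]
    have hker : Φ.ker = (Cfsg.Geo.scalars (Fin n) F₀).subgroupOf (Cfsg.GU n F₀ q₀) := by
      ext k
      rw [MonoidHom.mem_ker, Subgroup.mem_subgroupOf]
      constructor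
      · intro h
        obtain ⟨u, hu⟩ := (dia_eq_one_iff hF p hn _).mp (congrArg Subtype.val h)
        have hjk : ∀ s t, j ((k.1 : Matrix (Fin n) (Fin n) F₀) s t) = if s = t then ((u : Fˣ) : F) else 0 :=
          fun s t => by
          have := congrArg (fun x : GUn => (x.1 : Mat) s t) hu
          simpa [jG, scU_coe, Matrix.scalar_apply, Matrix.diagonal_apply] using this
        set w := (k.1 : Matrix (Fin n) (Fin n) F₀) ⟨0, hn1⟩ ⟨0, hn1⟩
        have hw : j w = ((u : Fˣ) : F) := by rw [hjk, if_pos rfl]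
        have hw0 : w ≠ 0 := fun e => by rw [e, map_zero] at hw; exact (u : Fˣ).ne_zero hw.symm
        refine ⟨Units.mk0 w hw0, Units.ext (Matrix.ext fun s t => j.injective ?_)⟩
        show j (Matrix.scalar _ w s t) = j _
        rw [hjk]
        simp [Matrix.scalar_apply, Matrix.diagonal_apply, apply_ite j, hw]
      · rintro ⟨w, hw⟩
        have hjk : ∀ s t, ((jG k).1 : Mat) s t = if s = t then j (w : F₀) else 0 := fun s t => by
          show j ((k.1 : Matrix (Fin n) (Fin n) F₀) s t) = _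
          rw [← hw]
          simp [Matrix.scalar_apply, Matrix.diagonal_apply, apply_ite j]
        have hwU : Units.map (j : F₀ →* F) w ∈ U1 F q := by
          rw [mem_U1]
          have h1 := congrFun (congrFun ((mem_GU_iff hF (jG k).1).mp (jG k).2) ⟨0, hn1⟩) ⟨0, hn1⟩
          rw [Matrix.mul_apply, Finset.sum_eq_single (⟨0, hn1⟩ : Fin n)
            (fun t _ ht => by rw [Matrix.transpose_apply, hjk, if_neg ht, zero_mul]) (by simp),
            Matrix.transpose_apply, Matrix.map_apply, hjk, if_pos rfl, Matrix.one_apply_eq, conjHom_apply,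
            ← pow_succ'] at h1
          exact h1
        refine Subtype.ext ((dia_eq_one_iff hF p hn _).mpr ⟨⟨_, hwU⟩, ?_⟩)
        refine Subtype.ext (Units.ext (Matrix.ext fun s t => ?_))
        rw [hjk, scU_coe]
        simp [Matrix.scalar_apply, Matrix.diagonal_apply]
    haveI : ((Cfsg.Geo.scalars (Fin n) F₀).subgroupOf (Cfsg.GU n F₀ q₀)).Normal := by
      rw [← hker]; infer_instance
    let e0 : C ≃* Cfsg.PGU n F₀ q₀ :=
      (QuotientGroup.quotientKerEquivOfSurjective Φ hΦs).symm.trans (QuotientGroup.quotientMulEquivOfEq hker)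
    refine ⟨MulEquiv.trans ?_ e0⟩
    refine (MulEquiv.subgroupCongr ?_).trans ((MulAut.conj a).subgroupMap C).symm
    ext y
    rw [Subgroup.mem_map, Subgroup.mem_inf, Subgroup.mem_centralizer_singleton_iff]
    constructor
    · rintro ⟨hy, hc⟩
      refine ⟨a⁻¹ * y * a, ⟨?_, ?_⟩, by show a * (a⁻¹ * y * a) * a⁻¹ = y; group⟩
      · have := (hnorm a⁻¹ y).mpr hy; rwa [inv_inv] at this
      · show _ ∈ Subgroup.centralizer _
        rw [Subgroup.mem_centralizer_singleton_iff]
        calc a⁻¹ * y * a * fld σ = a⁻¹ * (y * (a * fld σ * a⁻¹)) * a := by group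
          _ = a⁻¹ * (a * fld σ * a⁻¹ * y) * a := by rw [hc]
          _ = _ := by group
    · rintro ⟨z, ⟨hz, hzc⟩, rfl⟩
      replace hzc : z * fld σ = fld σ * z := Subgroup.mem_centralizer_singleton_iff.mp hzc
      refine ⟨(hnorm a z).mpr hz, ?_⟩
      show a * z * a⁻¹ * (a * fld σ * a⁻¹) = a * fld σ * a⁻¹ * (a * z * a⁻¹)
      calc a * z * a⁻¹ * (a * fld σ * a⁻¹) = a * (z * fld σ) * a⁻¹ := by group
        _ = a * (fld σ * z) * a⁻¹ := by rw [hzc]
        _ = _ := by group
  · rw [AutPSp.splitClassCount_normalised _ _ a _ (hnorm a) (hInn a),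
      AutPSL.card_quot_conj _ _ inn_le_range (fun b _ k hk => (hInn b k).mpr hk)]
    set A := jU.range
    set S := A ⊔ (powMonoidHom n : U1 F q →* U1 F q).range
    set C := N ⊓ Subgroup.centralizer {(fld σ : MulAut PSUn)}
    have hcomap : (C ⊔ Cfsg.Inn PSUn).comap dia = S.comap (detU hF) := by
      apply le_antisymm
      · intro g hg
        have hle : C ⊔ Cfsg.Inn PSUn ≤ (S.comap (detU hF)).map dia := by
          refine sup_le ?_ ?_
          · rintro y ⟨⟨g, rfl⟩, hc⟩
            obtain ⟨k, u, rfl⟩ := hsurj g ((hcent g).mp hc)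
            refine ⟨_, ?_, rfl⟩
            show detU hF (jG k * scU u) ∈ S
            rw [map_mul, detU_scU, hjdet]
            exact mul_mem (Subgroup.mem_sup_left ⟨_, rfl⟩) (Subgroup.mem_sup_right ⟨u, rfl⟩)
          · rintro _ ⟨y, rfl⟩
            obtain ⟨s, rfl⟩ := pr_surjective y
            refine ⟨suG s, ?_, dia_suG s⟩
            show detU hF (suG s) ∈ S
            rw [detU_suG]
            exact one_mem S
        obtain ⟨g', hg', e⟩ := hle hg
        obtain ⟨u, hu⟩ := (dia_eq_one_iff hF p hn (g'⁻¹ * g)).mp (by rw [map_mul, map_inv, e, inv_mul_cancel])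
        show detU hF g ∈ S
        rw [show g = g' * (g'⁻¹ * g) by group, map_mul, hu, detU_scU]
        exact mul_mem hg' (Subgroup.mem_sup_right ⟨u, rfl⟩)
      · intro g hg
        obtain ⟨_, ⟨w, rfl⟩, _, ⟨u, rfl⟩, hab⟩ := Subgroup.mem_sup.mp (show detU hF g ∈ S from hg)
        obtain ⟨k₀, hk₀⟩ := detU_surjective hF₀' hn1 w
        set h := (jG k₀ * scU u)⁻¹ * g with hh
        have hh1 : detU hF h = 1 := by
          rw [hh, map_mul, map_inv, map_mul, hjdet, hk₀, detU_scU, ← hab, powMonoidHom_apply, inv_mul_cancel]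
        have hdet : (h.1 : Mat).det = 1 := by rw [← detU_coe hF, hh1]; rfl
        let s : SUn := ⟨⟨(h.1 : Mat), hdet⟩, h.2⟩
        show dia g ∈ C ⊔ Cfsg.Inn PSUn
        rw [show g = jG k₀ * scU u * h by rw [hh, mul_inv_cancel_left], map_mul, map_mul, dia_scU, mul_one,
          show h = suG s from Subtype.ext (Units.ext rfl), dia_suG]
        refine Subgroup.mul_mem_sup ⟨⟨_, rfl⟩, (hcent _).mpr ⟨1, ?_⟩⟩ ⟨_, rfl⟩
        rw [hjfix, inv_mul_cancel, map_one scU]
    have hidx : (C ⊔ Cfsg.Inn PSUn).relIndex N = S.index := by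
      rw [hNdef, MonoidHom.range_eq_map, ← Subgroup.relIndex_comap, hcomap, Subgroup.relIndex_top_right,
        Subgroup.index_comap_of_surjective _ (detU_surjective hF hn1)]
    haveI : IsCyclic (U1 F q) := Subgroup.isCyclic _
    have hjUinj : Function.Injective jU := fun x y e =>
      Subtype.ext (Units.map_injective (f := (j : F₀ →* F)) j.injective (congrArg Subtype.val e))
    rw [hidx, AutPSL.index_sup_range_pow, ← Nat.card_congr (MonoidHom.ofInjective hjUinj).toEquiv,
      card_U1 hF, card_U1 hF₀']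

end Cfsg.Agent.Lib.Classical.AutPSU
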