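import Cfsg.Agent.Lib.Classical.AutPSU.FieldClass
import Cfsg.Agent.Lib.Classical.SocleCriterion
import Cfsg.Agent.S0282

/-!
The fixed points of a field automorphism of odd prime order of `PSU_n(q)`.
-/

set_option autoImplicit false

namespace Cfsg.Agent.Lib.Classical.AutPSU

open Matrix
open Cfsg.Agent.Lib.Geometry (exists_mul_conj_eq)
open Cfsg.Agent.Lib.Classical

variable {F : Type*} [Field F] [Fintype F] {q n : ℕ}

set_option quotPrecheck false in
local notation "SUn" => Subtype (fun A => A ∈ Cfsg.SU n F q)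
set_option quotPrecheck false in
local notation "GUn" => Subtype (fun A => A ∈ Cfsg.GU n F q)
set_option quotPrecheck false in
local notation "Mat" => Matrix (Fin n) (Fin n) F
set_option quotPrecheck false in
local notation "PSUn" => Cfsg.PSU n F q

variable (hF : Fintype.card F = q ^ 2)

set_option quotPrecheck false in
local notation "σq" => conjHom hF

include hF in
/-- Primes dividing `q + 1` divide the order. -/
theorem dvd_card_PSU (hn : 3 ≤ n) {ℓ : ℕ} (hℓ : ℓ.Prime) (hd : ℓ ∣ q + 1) : ℓ ∣ Nat.card PSUn := by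
  classical
  haveI : Fact ℓ.Prime := ⟨hℓ⟩
  obtain ⟨a, ha⟩ := exists_prime_orderOf_dvd_card' (G := U1 F q) ℓ (by rwa [card_U1 hF])
  let i : Fin n := ⟨0, by omega⟩
  let j : Fin n := ⟨1, by omega⟩
  let k : Fin n := ⟨2, by omega⟩
  obtain ⟨v, hv⟩ : ∃ v : Fin n → F, v = fun l => if l = i then ((a : Fˣ) : F)
      else if l = j then (((a⁻¹ : U1 F q) : Fˣ) : F) else 1 := ⟨_, rfl⟩
  have hij : i ≠ j := by simp [i, j]
  have hdet : (Matrix.diagonal v).det = 1 := by
    rw [Matrix.det_diagonal, Finset.prod_eq_mul i j hij (fun l _ hl => by simp [hv, hl.1, hl.2])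
      (fun h => absurd (Finset.mem_univ _) h) (fun h => absurd (Finset.mem_univ _) h)]
    simp [hv, hij.symm]
  let s : SUn := ⟨⟨Matrix.diagonal v, hdet⟩, (mem_SU_iff hF _).mpr (diagonal_preserves hF _ fun l => by
    simp only [hv]
    split_ifs
    · exact mem_U1.mp a.2
    · exact mem_U1.mp (a⁻¹).2
    · exact one_pow _)⟩
  have hs : orderOf (pr s) = ℓ := by
    refine orderOf_eq_prime ?_ fun e => ?_
    · rw [← map_pow]
      refine (congrArg pr (Subtype.ext (Subtype.ext ?_))).trans (map_one pr)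
      rw [SubmonoidClass.coe_pow, Matrix.SpecialLinearGroup.coe_pow]
      show Matrix.diagonal v ^ ℓ = 1
      rw [Matrix.diagonal_pow, ← Matrix.diagonal_one]
      congr 1
      funext l
      have h1 : a ^ ℓ = 1 := ha ▸ pow_orderOf_eq_one a
      have h2 : ((a : Fˣ) : F) ^ ℓ = 1 := by
        rw [← Units.val_pow_eq_pow_val, ← SubmonoidClass.coe_pow, h1]; rfl
      have h3 : (((a⁻¹ : U1 F q) : Fˣ) : F) ^ ℓ = 1 := by
        rw [← Units.val_pow_eq_pow_val, ← SubmonoidClass.coe_pow, inv_pow, h1, inv_one]; rfl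
      rw [Pi.pow_apply, hv]
      simp only
      split_ifs <;> simp [h2, h3]
    · have h := SU_center_scalar hF s (pr_eq_one.mp e) k
      change Matrix.diagonal v = Matrix.diagonal v k k • (1 : Mat) at h
      have h1 := congrFun (congrFun h i) i
      rw [Matrix.smul_apply, Matrix.one_apply_eq, Matrix.diagonal_apply_eq, Matrix.diagonal_apply_eq] at h1
      simp [hv, i, j, k] at h1
      rw [h1, orderOf_one] at ha
      exact hℓ.one_lt.ne ha
  exact hs ▸ orderOf_dvd_natCard _

omit [Fintype F] in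
theorem three_dvd_aux [Fintype F] (hF : Fintype.card F = 2 ^ 2) (N : Subgroup (Cfsg.PSU 3 F 2)) (hN : N.Normal)
    (hne : N ≠ ⊥) : 3 ∣ Nat.card N := by
  classical
  by_contra h3
  haveI : Fact (Nat.Prime 2) := ⟨Nat.prime_two⟩
  have hF4 : Fintype.card F = 4 := hF
  haveI : CharP F 2 := (CharP.charP_iff_prime_eq_zero Nat.prime_two).mpr (by
    have h0 : ((Fintype.card F : ℕ) : F) = 0 := FiniteField.cast_card_eq_zero F
    rw [hF4] at h0
    push_cast at h0
    have h4 : ((2 : F)) * 2 = 0 := by linear_combination h0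
    exact_mod_cast mul_self_eq_zero.mp h4)
  obtain ⟨k, hk⟩ : ∃ k, Nat.card N = 2 ^ k := by
    have hd : Nat.card N ∣ 2 ^ 3 * 9 := (Subgroup.card_subgroup_dvd_card N).trans
      ((Cfsg.Agent.S0282.result hF4).1 ▸ by norm_num)
    have h9 : Nat.Coprime (Nat.card N) (3 ^ 2) :=
      Nat.Coprime.pow_right 2 ((Nat.prime_three.coprime_iff_not_dvd.mpr h3).symm)
    have h2 : Nat.card N ∣ 2 ^ 3 := h9.dvd_of_dvd_mul_right hd
    obtain ⟨k, -, hk⟩ := (Nat.dvd_prime_pow Nat.prime_two).mp h2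
    exact ⟨k, hk⟩
  let M := N.comap (pr (F := F) (n := 3) (q := 2))
  let f : M →* N := MonoidHom.mk' (fun x => ⟨pr x.1, x.2⟩) fun a b => Subtype.ext (map_mul pr _ _)
  have hf : Function.Surjective f := fun y => by
    obtain ⟨x, hx⟩ := pr_surjective y.1
    exact ⟨⟨x, show pr x ∈ N by rw [hx]; exact y.2⟩, Subtype.ext hx⟩
  let S : Sylow 2 M := Classical.arbitrary _
  have hSf : S.1.map f = ⊤ := by
    rw [← Subgroup.index_eq_one]
    have h1 : (S.1.map f).index ∣ S.1.index := Subgroup.index_map_dvd _ hf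
    have h2 : ¬ 2 ∣ (S.1.map f).index := fun h => S.not_dvd_index (h.trans h1)
    obtain ⟨i, -, hi⟩ := (Nat.dvd_prime_pow Nat.prime_two).mp (hk ▸ (S.1.map f).index_dvd_card)
    rcases Nat.eq_zero_or_pos i with rfl | hi0
    · exact hi
    · exact absurd (hi ▸ dvd_pow_self 2 hi0.ne') h2
  -- a common fixed vector
  let act : M →* (Fin 3 → F) ≃ (Fin 3 → F) := MonoidHom.mk'
    (fun x => ⟨fun v => mat x.1 *ᵥ v, fun v => mat x.1⁻¹ *ᵥ v, inv_mulVec_cancel x.1, mulVec_inv_cancel x.1⟩)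
    fun a b => Equiv.ext fun v => mulVec_mul' a.1 b.1 v
  letI : MulAction S.1 (Fin 3 → F) := MulAction.compHom _ (act.comp S.1.subtype)
  obtain ⟨v, hv, hv0⟩ := IsPGroup.exists_fixed_point_of_prime_dvd_card_of_fixed_point (p := 2) S.isPGroup'
    (Fin 3 → F) (by
      rw [Nat.card_eq_fintype_card, Fintype.card_fun, hF4, Fintype.card_fin]
      decide)
    (a := (0 : Fin 3 → F)) (fun s => (Matrix.mulVec_zero (mat s.1.1) :))
  have hcube : ∀ x : M, mat (x.1 * x.1 * x.1) *ᵥ v = v := by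
    intro x
    obtain ⟨s, hs, hsx⟩ := (show f x ∈ S.1.map f by rw [hSf]; exact Subgroup.mem_top _)
    have hc : s.1⁻¹ * x.1 ∈ Subgroup.center (Cfsg.SU 3 F 2) := by
      rw [← pr_eq_one, map_mul, map_inv, inv_mul_eq_one]
      exact congrArg Subtype.val hsx
    obtain ⟨z, hz⟩ : ∃ z, z = s.1⁻¹ * x.1 := ⟨_, rfl⟩
    rw [← hz] at hc
    have hz3 : z * z * z = 1 := by
      have h1 := SU_center_scalar hF z hc 0
      refine Subtype.ext (Subtype.ext ?_)
      have h2 : (z.1 : Matrix (Fin 3) (Fin 3) F).det = 1 := z.1.2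
      rw [h1, Matrix.det_smul, Matrix.det_one, mul_one, Fintype.card_fin] at h2
      show (z.1 : Matrix (Fin 3) (Fin 3) F) * (z.1 : Matrix (Fin 3) (Fin 3) F) * (z.1 : Matrix (Fin 3) (Fin 3) F) = 1
      rw [h1]
      simp only [Matrix.smul_mul, Matrix.mul_smul, one_mul, smul_smul]
      rw [← pow_three, h2, one_smul]
    have hzs : ∀ y : (Cfsg.SU 3 F 2), z * y = y * z := fun y => (Subgroup.mem_center_iff.mp hc y).symm
    have hx : x.1 * x.1 * x.1 = s.1 * s.1 * s.1 * (z * z * z) := by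
      rw [show x.1 = s.1 * z by rw [hz, mul_inv_cancel_left]]
      simp only [mul_assoc]
      simp only [← mul_assoc z, hzs]
      simp only [mul_assoc]
      simp only [← mul_assoc z, hzs]
      simp only [mul_assoc]
    rw [hx, hz3, mul_one]
    have hsv : mat s.1 *ᵥ v = v := hv ⟨s, hs⟩
    rw [mulVec_mul', mulVec_mul', hsv, hsv, hsv]
  -- the common fixed space is invariant
  let W : Set (Fin 3 → F) := {w | ∀ x : M, mat (x.1 * x.1 * x.1) *ᵥ w = w}
  have hWg : ∀ g : (Cfsg.SU 3 F 2), ∀ w ∈ W, mat g *ᵥ w ∈ W := by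
    intro g w hw x
    haveI := hN
    have hm : g⁻¹ * x.1 * g ∈ M := by
      have := (hN.comap (pr (F := F) (n := 3) (q := 2))).conj_mem _ x.2 g⁻¹
      rwa [inv_inv] at this
    have h1 := hw ⟨_, hm⟩
    rw [show g⁻¹ * x.1 * g * (g⁻¹ * x.1 * g) * (g⁻¹ * x.1 * g) = g⁻¹ * (x.1 * x.1 * x.1) * g by group] at h1
    conv_rhs => rw [← h1]
    rw [← mulVec_mul', ← mulVec_mul']
    congr 2
    group
  have hWsmul : ∀ (c : F), ∀ w ∈ W, c • w ∈ W := fun c w hw x => by rw [Matrix.mulVec_smul, hw x]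
  have hWadd : ∀ w ∈ W, ∀ w' ∈ W, w + w' ∈ W := fun w hw w' hw' x => by rw [Matrix.mulVec_add, hw x, hw' x]
  obtain ⟨ω, hω, hω1⟩ : ∃ ω : F, ω * ω * ω = 1 ∧ ω ≠ 1 := by
    obtain ⟨a, ha⟩ := exists_prime_orderOf_dvd_card' (G := U1 F 2) 3 (by rw [card_U1 hF])
    refine ⟨((a : Fˣ) : F), ?_, fun e => ?_⟩
    · rw [← pow_three']; exact mem_U1.mp a.2
    · rw [Subtype.ext (Units.ext e) (a1 := a) (a2 := 1), orderOf_one] at ha; omega
  have hωsum : ω * ω + ω + 1 = 0 := by
    have : (ω - 1) * (ω * ω + ω + 1) = 0 := by linear_combination hω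
    exact (mul_eq_zero.mp this).resolve_left (sub_ne_zero.mpr hω1)
  have h21 : (1 : F) + 1 = 0 := CharTwo.add_self_eq_zero 1
  -- the coordinate vectors
  have hdiag : ∀ (d : Fin 3 → F), (∀ i, d i * d i * d i = 1) → d 0 * d 1 * d 2 = 1 → ∀ w ∈ W,
      Matrix.diagonal d *ᵥ w ∈ W := by
    intro d hd hdd w hw
    exact hWg ⟨⟨Matrix.diagonal d, by rw [Matrix.det_diagonal, Fin.prod_univ_three, hdd]⟩,
      (mem_SU_iff hF _).mpr (diagonal_preserves hF _ fun i => by
        show d i ^ (2 + 1) = 1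
        rw [pow_three']; exact hd i)⟩ w hw
  have hperm : ∀ (τ : Equiv.Perm (Fin 3)), ∀ w ∈ W, (fun i => w (τ i)) ∈ W := by
    intro τ w hw
    have hdet : (τ.permMatrix F).det = 1 := by
      rw [Matrix.det_permutation]
      rcases Int.units_eq_one_or (Equiv.Perm.sign τ) with e | e <;> rw [e] <;> simp
      linear_combination -h21
    have := hWg ⟨⟨τ.permMatrix F, hdet⟩, fun a b => by
      show Cfsg.hermForm 3 F 2 (τ.permMatrix F *ᵥ a) (τ.permMatrix F *ᵥ b) = Cfsg.hermForm 3 F 2 a b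
      simp only [Cfsg.hermForm, Matrix.permMatrix_mulVec]
      exact Equiv.sum_comp τ (fun l => a l * b l ^ 2)⟩ w hw
    convert this using 1
    funext i
    show _ = (τ.permMatrix F *ᵥ w) i
    simp [Matrix.permMatrix_mulVec]
  have hcoord : ∀ i, ∀ w ∈ W, Pi.single i (w i) ∈ W := by
    intro i w hw
    let d : Fin 3 → F := fun l => if l = i then 1 else if l = i + 1 then ω else ω * ω
    have hd : ∀ l, d l * d l * d l = 1 := fun l => by
      simp only [d]; split_ifs
      · simp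
      · exact hω
      · linear_combination (ω * ω * ω + 1) * hω
    have hdd : d 0 * d 1 * d 2 = 1 := by
      fin_cases i <;> simp [d] <;> linear_combination hω
    have h1 := hdiag d hd hdd w hw
    have h2 := hdiag d hd hdd _ h1
    convert hWadd _ (hWadd _ hw _ h1) _ h2 using 1
    funext l
    simp only [Pi.add_apply, Matrix.mulVec_diagonal, d, Pi.single_apply]
    rcases eq_or_ne l i with e | e
    · subst e
      simp only [if_true]
      linear_combination -w l * h21
    · simp only [if_neg e]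
      rcases eq_or_ne l (i + 1) with e' | e'
      · simp only [if_pos e']
        linear_combination -(w l) * hωsum
      · simp only [if_neg e']
        linear_combination -(w l * hωsum) - w l * ω * hω
  obtain ⟨i, hi⟩ := Function.ne_iff.mp (Ne.symm hv0)
  have hbasis : ∀ l, Pi.single l (1 : F) ∈ W := by
    intro l
    have h1 := hWsmul (v i)⁻¹ _ (hcoord i v hcube)
    have h2 := hperm (Equiv.swap i l) _ h1
    convert h2 using 1
    funext r
    simp only [Pi.smul_apply, Pi.single_apply, smul_eq_mul]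
    rcases eq_or_ne r l with rfl | hr
    · simp [inv_mul_cancel₀ hi]
    · have : Equiv.swap i l r ≠ i := fun e => hr (by
        simpa using congrArg (Equiv.swap i l) e)
      simp [hr, this]
  refine hne ((Subgroup.eq_bot_iff_forall N).mpr fun y hy => ?_)
  obtain ⟨x, hx⟩ := hf ⟨y, hy⟩
  have hy3 : y * y * y = 1 := by
    have : x.1 * x.1 * x.1 = 1 := su_ext fun w => by
      rw [one_mulVec']
      have e := pi_eq_sum_univ' w
      rw [e, Matrix.mulVec_sum]
      exact Finset.sum_congr rfl fun l _ => by rw [Matrix.mulVec_smul, hbasis l x]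
    rw [show y = pr x.1 from (congrArg Subtype.val hx).symm, ← map_mul, ← map_mul, this, map_one]
  have h1 : orderOf y ∣ 3 := orderOf_dvd_of_pow_eq_one (by rw [pow_three', hy3])
  have h2 : orderOf y ∣ 2 ^ k := hk ▸ (Subgroup.orderOf_mk y hy ▸ orderOf_dvd_natCard _)
  exact orderOf_eq_one_iff.mp (Nat.eq_one_of_dvd_coprimes (Nat.Coprime.pow_right k (by norm_num)) h1 h2)

include hF in
/-- `PSU₃(2)` has no non-trivial normal subgroup of order prime to three. -/
theorem three_dvd_normal (hn : n = 3) (hq : q = 2) (N : Subgroup PSUn) (hN : N.Normal) (hne : N ≠ ⊥) :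
    3 ∣ Nat.card N := by
  subst hn hq
  exact three_dvd_aux hF N hN hne

variable (p : ℕ) [Fact p.Prime] [CharP F p]

include hF p in
theorem psu_hZ (hn : 3 ≤ n) (h32 : ¬ (n = 3 ∧ q = 2)) (k : PSUn) (hk : MulAut.conj k = 1) : k = 1 := by
  rw [← Subgroup.mem_bot, ← center_PSU hF p hn h32, Subgroup.mem_center_iff]
  intro y
  have := congrArg (fun α : MulAut PSUn => α y) hk
  simp only [MulAut.conj_apply, MulAut.one_apply] at this
  exact (mul_inv_eq_iff_eq_mul.mp this).symm

include hF p in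
/-- The fixed points of a field automorphism of odd prime order. -/
theorem props_field {f : ℕ} (hq : q = p ^ f) (hn : 3 ≤ n) (h32 : ¬ (n = 3 ∧ q = 2)) {ℓ : ℕ} [Fact ℓ.Prime]
    (hodd : Odd ℓ) (hℓp : ℓ ≠ p) {σ : F ≃+* F} (hoσ : orderOf σ = ℓ) :
    CoreCriterion.Props ℓ (fld σ : MulAut PSUn) := by
  classical
  have hn1 : 1 ≤ n := by omega
  have hℓ : ℓ.Prime := Fact.out
  have hσr : σ ^ ℓ = 1 := hoσ ▸ pow_orderOf_eq_one σ
  have hσ : σ ≠ 1 := fun e => by rw [e, orderOf_one] at hoσ; exact hℓ.one_lt.ne hoσ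
  haveI := (card_gal (F := F) hq hF).1
  obtain ⟨K, hK, hj, hcardK⟩ := CoreCriterion.exists_fixed_subfield (F := F) hoσ
  haveI : CharP K p := (K.subtype.charP_iff K.subtype.injective p).mpr inferInstance
  set j := K.subtype
  obtain ⟨q₀, hK', hqq⟩ : ∃ q₀, Fintype.card K = q₀ ^ 2 ∧ q = q₀ ^ ℓ := by
    have hℓf : ℓ ∣ f := by
      have h1 : ℓ ∣ 2 * f := by rw [← (card_gal (F := F) hq hF).2, ← hoσ]; exact orderOf_dvd_natCard σ
      exact ((Nat.coprime_primes hℓ Nat.prime_two).mpr (fun e => by rw [e] at hodd; exact absurd hodd (by decide))).dvd_of_dvd_mul_left h1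
    obtain ⟨i, rfl⟩ := hℓf
    refine ⟨p ^ i, Nat.pow_left_injective hℓ.ne_zero ?_, by rw [hq, ← pow_mul, mul_comm]⟩
    show Fintype.card K ^ ℓ = ((p ^ i) ^ 2) ^ ℓ
    rw [← hcardK, hF, hq]; ring
  have hjq : ∀ x : K, σq (j x) = j (conjHom hK' x) := by
    intro x
    rw [conjHom_apply, conjHom_apply, ← map_pow]
    congr 1
    obtain ⟨t, ht⟩ := hodd
    rw [hqq, ht, pow_succ' q₀, pow_mul q₀, pow_mul, ← hK', FiniteField.pow_card_pow]
  have hmap : ∀ k : Cfsg.GU n K q₀,
      Units.map (RingHom.toMonoidHom j.mapMatrix) k.1 ∈ Cfsg.GU n F q := by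
    intro k
    refine (mem_GU_iff hF _).mpr ?_
    have h := congrArg j.mapMatrix ((mem_GU_iff hK' k.1).mp k.2)
    rw [map_mul, map_one] at h
    show ((k.1 : Matrix (Fin n) (Fin n) K).map j)ᵀ * ((k.1 : Matrix (Fin n) (Fin n) K).map j).map σq = 1
    rw [← h]
    congr 1
    ext a b
    exact hjq _
  let jG : Cfsg.GU n K q₀ →* GUn :=
    MonoidHom.mk' (fun k => ⟨_, hmap k⟩) fun a b => Subtype.ext (map_mul _ _ _)
  let jU : U1 K q₀ →* U1 F q :=
    MonoidHom.mk' (fun u => ⟨Units.map (j : K →* F) u.1, mem_U1.mpr (by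
      show j (u.1 : K) ^ (q + 1) = 1
      rw [pow_succ, ← conjHom_apply hF, hjq, conjHom_apply, ← map_mul, ← pow_succ, mem_U1.mp u.2,
        map_one])⟩) fun a b => Subtype.ext (map_mul _ _ _)
  have hjsc : ∀ u, jG (scU u) = scU (jU u) := fun u => Subtype.ext (Units.ext (by
    show (Matrix.scalar (Fin n) ((u : Kˣ) : K)).map j = _
    rw [scU_coe]
    ext a b
    simp [Matrix.scalar_apply, Matrix.diagonal, apply_ite j, jU]))
  have hdetS : ∀ s : Cfsg.SU n K q₀, ((jG (suG s)).1 : Mat).det = 1 := fun s => by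
    show ((s.1 : Matrix (Fin n) (Fin n) K).map j).det = 1
    rw [← RingHom.mapMatrix_apply, ← RingHom.map_det, s.1.2, map_one]
  let jS : Cfsg.SU n K q₀ →* SUn := MonoidHom.mk' (fun s => ⟨⟨_, hdetS s⟩, (jG (suG s)).2⟩) fun a b =>
    Subtype.ext (Subtype.ext (congrArg (fun g : GUn => (g.1 : Mat)) (by rw [map_mul suG, map_mul jG] :
      jG (suG (a * b)) = jG (suG a) * jG (suG b))))
  have hjSmat : ∀ s, mat (jS s) = (mat s).map j := fun s => rfl
  set φ : MulAut PSUn := fld σ with hφ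
  let ι₀ : Cfsg.SU n K q₀ →* PSUn := pr.comp jS
  have hιfix : ∀ t, φ (ι₀ t) = ι₀ t := fun t => by
    show fld σ (pr _) = pr _
    rw [fld_pr]
    exact congrArg pr (Subtype.ext (Subtype.ext (Matrix.ext fun a b => (hj _).mpr ⟨_, rfl⟩)))
  have hconjT : ∀ k t, dia (jG k) (ι₀ t) = ι₀ (conjSU k t) := fun k t => by
    show dia (jG k) (pr _) = pr _
    rw [dia_pr]
    refine congrArg pr (Subtype.ext (Subtype.ext ?_))
    show mat (conjSU (jG k) (jS t)) = mat (jS (conjSU k t))
    rw [mat_conjSU, hjSmat, hjSmat, mat_conjSU, Matrix.map_mul, Matrix.map_mul]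
    rfl
  have hker : ∀ t, ι₀ t = 1 → pr t = 1 := fun t h => by
    rw [pr_eq_one, Subgroup.mem_center_iff]
    have h' := Subgroup.mem_center_iff.mp (pr_eq_one.mp (show pr (jS t) = 1 from h))
    intro u
    refine Subtype.ext (Subtype.ext (Matrix.map_injective j.injective ?_))
    have := congrArg mat (h' (jS u))
    rw [mat_mul, mat_mul, hjSmat, hjSmat, ← Matrix.map_mul, ← Matrix.map_mul] at this
    exact this
  have hrep : ∀ g : GUn, dia g * φ = φ * (dia g : MulAut PSUn) →
      ∃ k, (dia g : MulAut PSUn) = dia (jG k) := by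
    intro g hg
    obtain ⟨c, hc⟩ : ∃ c, g⁻¹ * galG σ g = scU c := by
      rw [← dia_eq_one_iff hF p hn, map_mul, map_inv, inv_mul_eq_one]
      rw [hφ, fld_mul_dia, mul_left_inj] at hg
      exact hg
    have hgc : galG σ g = g * scU c := by rw [← hc, mul_inv_cancel_left]
    have hiter : ∀ k, ∃ v : U1 F q, ((v : Fˣ) : F) = AutPSL.galNorm σ k ((c : Fˣ) : F) ∧
        galG (σ ^ k) g = g * scU v := by
      intro k
      induction k with
      | zero =>
        refine ⟨1, rfl, ?_⟩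
        rw [map_one scU, mul_one, pow_zero]
        exact Subtype.ext (Units.ext (Matrix.ext fun a b => rfl))
      | succ k ih =>
        obtain ⟨v, hv, e⟩ := ih
        refine ⟨c * mapU1 σ v, by rw [AutPSL.galNorm, ← hv]; rfl, ?_⟩
        rw [show galG (σ ^ (k + 1)) g = galG σ (galG (σ ^ k) g) from by
          refine Subtype.ext (Units.ext (Matrix.ext fun a b => ?_))
          rw [pow_succ']; rfl, e, map_mul, hgc, galG_scU, mul_assoc, ← map_mul scU]
    obtain ⟨v, hv, e⟩ := hiter ℓ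
    rw [hσr, show galG (1 : F ≃+* F) g = g from Subtype.ext (Units.ext (Matrix.ext fun a b => rfl)), eq_comm,
      mul_eq_left] at e
    have hv1 : ((v : Fˣ) : F) = 1 := by
      have h := congrArg (fun k : GUn => (k.1 : Mat) ⟨0, hn1⟩ ⟨0, hn1⟩) e
      simpa [scU_coe] using h
    obtain ⟨b, hb0, hb⟩ := AutPSL.exists_twist_scalar hℓ hσr hσ (a := ((c : Fˣ) : F)) (by rw [← hv, hv1])
    set hm : Mat := b • (g.1 : Mat) with hmdef
    have hgσ : ∀ s t, σ ((g.1 : Mat) s t) = (g.1 : Mat) s t * ((c : Fˣ) : F) := fun s t => by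
      have := congrArg (fun k : GUn => (k.1 : Mat) s t) hgc
      rw [galG_coe, Subgroup.coe_mul, Units.val_mul, scU_coe] at this
      simpa [Matrix.scalar_apply, Matrix.mul_diagonal] using this
    have hh : ∀ s t, σ (hm s t) = hm s t := by
      intro s t
      rw [hmdef, Matrix.smul_apply, smul_eq_mul, map_mul, hgσ]
      linear_combination (g.1 : Mat) s t * hb
    choose H hH using fun s t => (hj _).mp (hh s t)
    have hHmat : (Matrix.of H).map j = hm := Matrix.ext hH
    have hgU := (mem_GU_iff hF g.1).mp g.2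
    have hform : hmᵀ * hm.map σq = (b * σq b) • (1 : Mat) := by
      rw [hmdef, Matrix.transpose_smul, Matrix.map_smul' _ _ _ (map_mul σq), Matrix.smul_mul, Matrix.mul_smul,
        smul_smul, hgU]
    set P := (Matrix.of H)ᵀ * (Matrix.of H).map (conjHom hK') with hPdef
    have hPj : P.map j = (b * σq b) • (1 : Mat) := by
      rw [← hform, ← hHmat, hPdef, Matrix.map_mul]
      congr 1
      ext s t
      exact (hjq _).symm
    set d := P ⟨0, hn1⟩ ⟨0, hn1⟩ with hddef
    have hdj : j d = b * σq b := by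
      have := congrFun (congrFun hPj ⟨0, hn1⟩) ⟨0, hn1⟩
      simpa using this
    have hd : conjHom hK' d = d := j.injective (by
      rw [← hjq, hdj, map_mul, conjHom_conjHom, mul_comm])
    obtain ⟨ν, hν⟩ := exists_mul_conj_eq (conjHom_ne_id hK') (conjHom_conjHom hK') (s := d) hd
    have hbN : b * σq b ≠ 0 := mul_ne_zero hb0 ((map_ne_zero_iff _ (RingHom.injective _)).mpr hb0)
    have hν0 : ν ≠ 0 := fun e0 => hbN (by rw [← hdj, ← hν, e0, mul_zero, map_zero])
    set K₀ : Matrix (Fin n) (Fin n) K := ν⁻¹ • Matrix.of H with hK₀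
    have hpres : K₀ᵀ * K₀.map (conjHom hK') = 1 := by
      rw [hK₀, Matrix.transpose_smul, Matrix.map_smul' _ _ _ (map_mul (conjHom hK')), Matrix.smul_mul,
        Matrix.mul_smul, smul_smul, ← hPdef]
      refine Matrix.ext fun s t => j.injective ?_
      have h1 := congrFun (congrFun hPj s) t
      simp only [Matrix.map_apply, Matrix.smul_apply, smul_eq_mul] at h1 ⊢
      rw [map_mul, h1, ← hdj, ← hν, map_inv₀, ← mul_inv, map_inv₀, mul_comm ν, ← mul_assoc,
        inv_mul_cancel₀, one_mul]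
      · rw [Matrix.one_apply, Matrix.one_apply]; split_ifs <;> simp
      · rw [map_mul]; exact mul_ne_zero ((map_ne_zero_iff _ (RingHom.injective _)).mpr
          ((map_ne_zero_iff _ (RingHom.injective _)).mpr hν0)) ((map_ne_zero_iff _ (RingHom.injective _)).mpr hν0)
    have hdet : K₀.det ≠ 0 := fun e0 => by
      have := congrArg Matrix.det hpres
      rw [Matrix.det_mul, Matrix.det_transpose, e0, zero_mul, Matrix.det_one] at this
      exact zero_ne_one this
    let k : Cfsg.GU n K q₀ := ⟨GeneralLinearGroup.mkOfDetNeZero K₀ hdet, (mem_GU_iff hK' _).mpr hpres⟩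
    have hjν : j ν ≠ 0 := (map_ne_zero_iff _ (RingHom.injective _)).mpr hν0
    have hu : (Units.mk0 (j ν / b) (div_ne_zero hjν hb0)) ∈ U1 F q := by
      rw [mem_U1, Units.val_mk0, pow_succ, ← conjHom_apply hF, map_div₀, hjq, div_mul_div_comm, ← map_mul,
        hν, hdj, mul_comm b, div_self]
      rwa [mul_comm]
    refine ⟨k, ?_⟩
    have hgk : g = jG k * scU ⟨_, hu⟩ := by
      refine Subtype.ext (Units.ext (Matrix.ext fun s t => ?_))
      rw [Subgroup.coe_mul, Units.val_mul, scU_coe]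
      show (g.1 : Mat) s t = ((K₀.map j) * Matrix.scalar (Fin n) (j ν / b)) s t
      rw [Matrix.scalar_apply, Matrix.mul_diagonal, Matrix.map_apply, hK₀, Matrix.smul_apply, smul_eq_mul,
        map_mul, Matrix.of_apply, hH, hmdef, Matrix.smul_apply, smul_eq_mul, map_inv₀]
      field_simp
    rw [hgk, map_mul, dia_scU, mul_one]
  have hYdia : ∀ y, φ y = y → ∃ k, MulAut.conj y = (dia (jG k) : MulAut PSUn) := fun y hy => by
    obtain ⟨s, rfl⟩ := pr_surjective y
    rw [← dia_suG]
    refine hrep _ ?_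
    rw [dia_suG]
    refine MulEquiv.ext fun z => ?_
    simp [MulAut.mul_apply, hy]
  let f₁ : Cfsg.PSU n K q₀ →* ι₀.range := QuotientGroup.lift _ ι₀.rangeRestrict fun z hz => by
    refine Subtype.ext (pr_eq_one.mpr ?_)
    have hsc := SU_center_scalar hK' z hz ⟨0, hn1⟩
    rw [Subgroup.mem_center_iff]
    intro u
    refine Subtype.ext (Subtype.ext ?_)
    show mat u * mat (jS z) = mat (jS z) * mat u
    rw [hjSmat, show mat z = _ from hsc, Matrix.map_smul' _ _ _ (map_mul j),
      Matrix.map_one _ (map_zero j) (map_one j), Matrix.smul_mul, Matrix.mul_smul, one_mul, mul_one]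
  have hf₁ : Function.Bijective f₁ := by
    refine ⟨(injective_iff_map_eq_one f₁).mpr fun z hz => ?_, ?_⟩
    · obtain ⟨t, rfl⟩ := pr_surjective z
      exact hker t (congrArg Subtype.val hz)
    · rintro ⟨_, t, rfl⟩
      exact ⟨pr t, rfl⟩
  let e := MulEquiv.ofBijective f₁ hf₁
  haveI : Fintype (Cfsg.PSU n K q₀) := Fintype.ofFinite _
  have hcard1 : 1 < Nat.card (Cfsg.PSU n K q₀) := by
    by_cases h : n = 3 ∧ q₀ = 2
    · obtain ⟨h1, h2⟩ := h
      subst h1 h2
      rw [(Cfsg.Agent.S0282.result (F := K) hK').1]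
      norm_num
    · haveI := isSimpleGroup_PSU hK' hn h
      exact Finite.one_lt_card
  haveI : Nontrivial (Cfsg.PSU n K q₀) := Finite.one_lt_card_iff_nontrivial.mp hcard1
  haveI : Nontrivial ι₀.range := e.symm.toEquiv.nontrivial
  refine CoreCriterion.props_of_socle (psu_hZ hF p hn h32) ι₀.range (by rintro _ ⟨t, rfl⟩; exact hιfix t)
    (fun N hN hne hd => ?_) ?_ ?_ ?_ ?_
  · have h1 : Nat.card (N.map e.symm.toMonoidHom) = Nat.card N := Subgroup.card_map_of_injective e.symm.injective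
    have hne' : N.map e.symm.toMonoidHom ≠ ⊥ := by
      rwa [Ne, Subgroup.map_eq_bot_iff_of_injective _ e.symm.injective]
    have hN' := hN.map e.symm.toMonoidHom e.symm.surjective
    rw [← Nat.card_congr e.toEquiv] at hd
    rw [← h1]
    by_cases h : n = 3 ∧ q₀ = 2
    · have h3 : ℓ = 3 := by
        obtain ⟨e1, e2⟩ := h
        subst e1 e2
        rw [(Cfsg.Agent.S0282.result (F := K) hK').1, show (72 : ℕ) = 2 ^ 3 * 3 ^ 2 by norm_num] at hd
        rcases hℓ.dvd_mul.mp hd with h | h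
        · have := (Nat.prime_dvd_prime_iff_eq hℓ Nat.prime_two).mp (hℓ.dvd_of_dvd_pow h)
          rw [this] at hodd
          exact absurd hodd (by decide)
        · exact (Nat.prime_dvd_prime_iff_eq hℓ Nat.prime_three).mp (hℓ.dvd_of_dvd_pow h)
      rw [h3]
      exact three_dvd_normal hK' h.1 h.2 _ hN' hne'
    · haveI := isSimpleGroup_PSU hK' hn h
      rcases hN'.eq_bot_or_eq_top with h | h
      · exact absurd h hne'
      · rwa [h, Subgroup.card_top]
  · rintro y hy _ ⟨t, rfl⟩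
    obtain ⟨k, hk⟩ := hYdia y hy
    refine ⟨conjSU k t, ?_⟩
    rw [← hconjT, ← hk, MulAut.conj_apply]
  · intro hd
    rw [← Nat.card_congr e.toEquiv]
    obtain ⟨y, hy⟩ := exists_prime_orderOf_dvd_card' ℓ hd
    obtain ⟨k, hk⟩ := hYdia y.1 y.2
    have hinj : Function.Injective (MulAut.conj : PSUn →* MulAut PSUn) :=
      (injective_iff_map_eq_one _).mpr (psu_hZ hF p hn h32)
    have h1 : orderOf (MulAut.conj y.1 : MulAut PSUn) ∣ orderOf k := hk ▸
      (orderOf_map_dvd ((dia : GUn →* MulAut PSUn).comp jG) k)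
    rw [orderOf_injective _ hinj, Subgroup.orderOf_coe, hy] at h1
    by_cases hq1 : ℓ ∣ q₀ + 1
    · exact dvd_card_PSU hK' hn hℓ hq1
    · have h2 := h1.trans (orderOf_dvd_natCard k)
      rw [← card_center_mul_card_PSU hK' hn1] at h2
      exact (hℓ.dvd_mul.mp ((hℓ.dvd_mul.mp h2).resolve_left fun h => hq1 (h.trans (Nat.gcd_dvd_right _ _)))).resolve_left hq1
  · intro k hk
    obtain ⟨s, rfl⟩ := pr_surjective k
    obtain ⟨i, hi⟩ := hk
    refine psu_hZ hF p hn h32 _ ?_
    change φ ^ i = MulAut.conj (pr s) at hi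
    rw [← dia_suG, hφ, ← map_zpow] at hi
    rw [← dia_suG]
    have h1 : dia (suG s)⁻¹ * fld (σ ^ i) = (1 : MulAut PSUn) := by rw [map_inv, hi, inv_mul_cancel]
    obtain ⟨-, u, hu⟩ := eq_one_of_param hF p hn h1
    rw [inv_eq_iff_eq_inv.mp hu, map_inv, dia_scU, inv_one]
  · intro γ hc hγ
    obtain ⟨g, τ, rfl⟩ := decomposition hF p hn h32 γ
    have hτσ : τ * σ = σ * τ := (IsCyclic.commutative (α := F ≃+* F)).is_comm.comm τ σ
    obtain ⟨k, hk⟩ := hrep g (by
      have h1 : fld τ * φ = φ * (fld τ : MulAut PSUn) := by rw [hφ, ← map_mul, hτσ, map_mul]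
      rw [mul_assoc, h1, ← mul_assoc] at hc
      rw [← mul_left_inj (fld τ : MulAut PSUn), hc, mul_assoc])
    rw [hk] at hγ ⊢
    have hτj : ∀ t : K, ∃ t', j t' = τ (j t) := fun t => (hj _).mp (by
      rw [← RingAut.mul_apply, ← hτσ, RingAut.mul_apply, (hj _).mpr ⟨t, rfl⟩])
    choose τ₁ hτ₁ using hτj
    have hinj : Function.Injective τ₁ := fun a b e => j.injective (τ.injective (by rw [← hτ₁, ← hτ₁, e]))
    let τ₀ : K ≃+* K :=
      { Equiv.ofBijective τ₁ (Finite.injective_iff_bijective.mp hinj) with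
        map_mul' := fun a b => j.injective (by
          show j (τ₁ (a * b)) = j (τ₁ a * τ₁ b)
          rw [map_mul, hτ₁, hτ₁, hτ₁, map_mul, map_mul])
        map_add' := fun a b => j.injective (by
          show j (τ₁ (a + b)) = j (τ₁ a + τ₁ b)
          rw [map_add, hτ₁, hτ₁, hτ₁, map_add, map_add]) }
    have hτ₀ : ∀ t, j (τ₀ t) = τ (j t) := hτ₁
    have hout : ∀ t, fld τ (ι₀ t) = ι₀ (mapSU τ₀ t) := fun t => by
      show fld τ (pr _) = pr _
      rw [fld_pr]
      exact congrArg pr (Subtype.ext (Subtype.ext (Matrix.ext fun a b => (hτ₀ _).symm)))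
    have hδ : dia k * (fld τ₀ : MulAut (Cfsg.PSU n K q₀)) = 1 := by
      refine MulEquiv.ext fun z => ?_
      obtain ⟨t, rfl⟩ := pr_surjective z
      have h1 := hγ (ι₀ t) ⟨t, rfl⟩
      rw [MulAut.mul_apply, hout, hconjT, ← inv_mul_eq_one, ← map_inv, ← map_mul] at h1
      have h3 := hker _ h1
      rw [map_mul, map_inv, inv_mul_eq_one] at h3
      rw [MulAut.mul_apply, fld_pr, dia_pr]
      exact h3
    obtain ⟨hτ1, u, rfl⟩ := eq_one_of_param hK' p hn hδ
    rw [hjsc, dia_scU, one_mul]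
    obtain ⟨i, hi⟩ := CoreCriterion.mem_zpowers_of_fix hcardK hσ (fun t => (hj _).mpr ⟨t, rfl⟩)
      (τ := τ) fun t => by rw [← hτ₀, hτ1]; rfl
    refine ⟨i, show φ ^ i = _ from ?_⟩
    rw [hφ, ← map_zpow]
    exact congrArg fld hi

end Cfsg.Agent.Lib.Classical.AutPSU
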