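import Cfsg.Agent.Lib.Classical.AutPSU.Sylow

/-!
Automorphisms of `PSU_n(q)`, part 3: images of transvection groups, hyperbolic frames, semilinear
automorphisms.
-/

set_option autoImplicit false

namespace Cfsg.Agent.Lib.Classical.AutPSU

open Matrix
open Cfsg.Agent.Lib.Geometry (exists_mul_conj_eq exists_add_conj_eq exists_sesq_perp_apply_eq_one)
open Cfsg.Agent.Lib.Classical

variable {F : Type*} [Field F] {q n : ℕ}

set_option quotPrecheck false in
local notation "SUn" => Subtype (fun A => A ∈ Cfsg.SU n F q)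
set_option quotPrecheck false in
local notation "GUn" => Subtype (fun A => A ∈ Cfsg.GU n F q)
set_option quotPrecheck false in
local notation "Vn" => (Fin n → F)
set_option quotPrecheck false in
local notation "Mat" => Matrix (Fin n) (Fin n) F
set_option quotPrecheck false in
local notation "GLn" => GL (Fin n) F
set_option quotPrecheck false in
local notation "PSUn" => Cfsg.PSU n F q

/-! ### Semilinear automorphisms -/

/-- A field automorphism on `GU`. -/
def galG (σ : F ≃+* F) : GUn →* GUn :=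
  MonoidHom.mk' (fun g => ⟨Units.map (RingHom.toMonoidHom σ.toRingHom.mapMatrix) g.1, fun u v => by
    show Cfsg.hermForm n F q ((g.1 : Mat).map σ *ᵥ u) ((g.1 : Mat).map σ *ᵥ v) = _
    have hu : u = fun i => σ ((fun j => σ.symm (u j)) i) := funext fun i => (σ.apply_symm_apply _).symm
    have hv : v = fun i => σ ((fun j => σ.symm (v j)) i) := funext fun i => (σ.apply_symm_apply _).symm
    rw [hu, hv, map_mulVec', map_mulVec', hermForm_map, hermForm_map]
    exact congrArg σ (g.2 _ _)⟩) fun a b => Subtype.ext (map_mul _ _ _)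

theorem galG_coe (σ : F ≃+* F) (g : GUn) : ((galG σ g).1 : Mat) = (g.1 : Mat).map σ := rfl

theorem fld_mul_dia (σ : F ≃+* F) (g : GUn) :
    fld σ * dia g = dia (galG σ g) * (fld σ : MulAut PSUn) := by
  refine MulEquiv.ext fun x => ?_
  obtain ⟨s, rfl⟩ := pr_surjective x
  show fld σ (dia g (pr s)) = dia (galG σ g) (fld σ (pr s))
  rw [dia_pr, fld_pr, fld_pr, dia_pr]
  refine congrArg pr (Subtype.ext (Subtype.ext ?_))
  show ((g.1 : Mat) * mat s * ((g.1⁻¹ : GLn) : Mat)).map σ = _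
  rw [Matrix.map_mul, Matrix.map_mul]
  rfl

/-- Automorphisms induced by semilinear maps. -/
def IsSemi (β : MulAut PSUn) : Prop := ∃ (g : GUn) (σ : F ≃+* F), β = dia g * fld σ

theorem IsSemi.of_dia (g : GUn) : IsSemi (dia g : MulAut PSUn) :=
  ⟨g, 1, by rw [map_one fld, mul_one]⟩

theorem IsSemi.of_fld (σ : F ≃+* F) : IsSemi (fld σ : MulAut PSUn) :=
  ⟨1, σ, by rw [map_one dia, one_mul]⟩

theorem IsSemi.mul {α β : MulAut PSUn} (h : IsSemi α) (h' : IsSemi β) : IsSemi (α * β) := by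
  obtain ⟨g, σ, rfl⟩ := h
  obtain ⟨k, τ, rfl⟩ := h'
  refine ⟨g * galG σ k, σ * τ, ?_⟩
  rw [map_mul, map_mul, mul_assoc (dia g), ← mul_assoc (fld σ), fld_mul_dia, mul_assoc, mul_assoc]

theorem IsSemi.inv {α : MulAut PSUn} (h : IsSemi α) : IsSemi α⁻¹ := by
  obtain ⟨g, σ, rfl⟩ := h
  rw [_root_.mul_inv_rev, ← map_inv, ← map_inv]
  exact (IsSemi.of_fld _).mul (IsSemi.of_dia _)

/-- `SU` inside `GU`. -/
def suG : SUn →* GUn :=
  MonoidHom.mk' (fun s => ⟨Matrix.SpecialLinearGroup.toGL s.1, s.2⟩) fun a b =>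
    Subtype.ext (map_mul _ _ _)

theorem dia_suG (s : SUn) : dia (suG s) = MulAut.conj (pr s) := by
  refine MulEquiv.ext fun x => ?_
  obtain ⟨t, rfl⟩ := pr_surjective x
  rw [dia_pr, MulAut.conj_apply, ← map_inv, ← map_mul, ← map_mul]
  exact congrArg pr (Subtype.ext (Subtype.ext rfl))

theorem suG_coe (s : SUn) : ((suG s).1 : Mat) = mat s := rfl

/-! ### Frames -/

variable [Fintype F] (hF : Fintype.card F = q ^ 2)

set_option quotPrecheck false in
local notation "B" => hermBilin hF n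
set_option quotPrecheck false in
local notation "σq" => conjHom hF
set_option quotPrecheck false in
local notation "Kq" => {c : F | conjHom hF c = -c}

/-- A hyperbolic pair with orthonormal vectors orthogonal to it. -/
structure Frame {k : ℕ} (e f : Fin n → F) (w : Fin k → Fin n → F) : Prop where
  ee : hermBilin hF n e e = 0
  ff : hermBilin hF n f f = 0
  ef : hermBilin hF n e f = 1
  ew : ∀ i, hermBilin hF n e (w i) = 0
  fw : ∀ i, hermBilin hF n f (w i) = 0
  ww : ∀ i j, hermBilin hF n (w i) (w j) = if i = j then 1 else 0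

section frame

variable {hF} {k : ℕ} {e f : Fin n → F} {w : Fin k → Fin n → F} (h : Frame hF e f w)
include h

theorem Frame.fe : hermBilin hF n f e = 1 := by rw [← herm_symm hF, h.ef, map_one]

theorem Frame.we (i : Fin k) : hermBilin hF n (w i) e = 0 := by rw [← herm_symm hF, h.ew, map_zero]

theorem Frame.wf (i : Fin k) : hermBilin hF n (w i) f = 0 := by rw [← herm_symm hF, h.fw, map_zero]

theorem Frame.form_e (a b : F) (u : Fin k → F) : hermBilin hF n e (a • e + b • f + ∑ i, u i • w i) = b := by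
  simp [map_sum, h.ee, h.ef, h.ew]

theorem Frame.form_f (a b : F) (u : Fin k → F) : hermBilin hF n f (a • e + b • f + ∑ i, u i • w i) = a := by
  simp [map_sum, h.ff, h.fe, h.fw]

theorem Frame.form_w (a b : F) (u : Fin k → F) (j : Fin k) :
    hermBilin hF n (w j) (a • e + b • f + ∑ i, u i • w i) = u j := by
  simp [map_sum, h.we, h.wf, h.ww]

theorem Frame.form_comb (a b : F) (u : Fin k → F) (y : Fin n → F) :
    hermBilin hF n (a • e + b • f + ∑ i, u i • w i) y = conjHom hF a * hermBilin hF n e y + conjHom hF b * hermBilin hF n f y + ∑ i, conjHom hF (u i) * hermBilin hF n (w i) y := by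
  simp [map_sum, LinearMap.sum_apply]

end frame

include hF in
theorem exists_GU_of_linear (L : Vn →ₗ[F] Vn) (h : ∀ x y, B (L x) (L y) = B x y) :
    ∃ g : GUn, ∀ x, (g.1 : Mat) *ᵥ x = L x := by
  set M := LinearMap.toMatrix' L
  have hM : ∀ x, M *ᵥ x = L x := fun x => by rw [← Matrix.toLin'_apply, Matrix.toLin'_toMatrix']
  have hp : ∀ u v, Cfsg.hermForm n F q (M *ᵥ u) (M *ᵥ v) = Cfsg.hermForm n F q u v := fun u v => by
    rw [hM, hM]; exact h v u
  have hdet : M.det ≠ 0 := fun e => by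
    have := congrArg Matrix.det ((preserves_hermForm_iff hF M).mp hp)
    rw [Matrix.det_mul, Matrix.det_transpose, e, zero_mul, Matrix.det_one] at this
    exact zero_ne_one this
  exact ⟨⟨Matrix.GeneralLinearGroup.mkOfDetNeZero M hdet, hp⟩, hM⟩

include hF in
theorem exists_frame (hn : 2 ≤ n) :
    ∃ (e f : Vn) (w : Fin (n - 2) → Vn), Frame hF e f w ∧
      ∀ x, B f x • e + B e x • f + ∑ i, B (w i) x • w i = x := by
  classical
  obtain ⟨k, rfl⟩ : ∃ k, n = k + 2 := ⟨n - 2, by omega⟩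
  obtain ⟨u, hu1, hu2⟩ : ∃ u : F, u * σq u = 1 ∧ u ≠ 1 := by
    obtain ⟨c, hc⟩ : ∃ c : F, σq c ≠ c := by
      by_contra h
      push Not at h
      exact conjHom_ne_id hF (RingHom.ext h)
    have hc0 : c ≠ 0 := fun e => hc (by rw [e, map_zero])
    refine ⟨σq c / c, ?_, fun e => hc ((div_eq_one_iff_eq hc0).mp e)⟩
    rw [map_div₀, conjHom_conjHom]
    field_simp
    exact div_self ((map_ne_zero_iff _ (RingHom.injective _)).mpr hc0)
  obtain ⟨c, hc⟩ := exists_mul_conj_eq (conjHom_ne_id hF) (conjHom_conjHom hF)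
    (s := (-1 : F)) (by rw [map_neg, map_one])
  set d := u * c with hd
  have hd1 : σq d * d = -1 := by rw [hd, map_mul]; linear_combination u * σq u * hc - hu1
  have hcd : σq c ≠ σq d := by
    intro e
    have hc0 : c ≠ 0 := fun e0 => by rw [e0, map_zero, zero_mul] at hc; exact one_ne_zero (neg_eq_zero.mp hc.symm)
    exact hu2 (mul_right_cancel₀ hc0 (by rw [one_mul]; exact (RingHom.injective _ e).symm))
  let s0 : Fin (k + 2) → F := Pi.single 0 1
  let s1 : Fin (k + 2) → F := Pi.single 1 1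
  let e : Fin (k + 2) → F := s0 + c • s1
  let f' : Fin (k + 2) → F := s0 + d • s1
  let w : Fin k → Fin (k + 2) → F := fun i => Pi.single i.succ.succ 1
  have h01 : (0 : Fin (k + 2)) ≠ 1 := by simp
  have hi : ∀ i : Fin k, i.succ.succ ≠ (0 : Fin (k + 2)) ∧ i.succ.succ ≠ (1 : Fin (k + 2)) := fun i =>
    ⟨Fin.succ_ne_zero _, fun e => Fin.succ_ne_zero i (Fin.succ_injective _ (e.trans Fin.succ_zero_eq_one.symm))⟩
  have hB0 : ∀ (a : F) (x : Fin (k + 2) → F),
      hermBilin hF (k + 2) (s0 + a • s1) x = x 0 + σq a * x 1 := fun a x => by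
    rw [map_add, map_smulₛₗ, LinearMap.add_apply, LinearMap.smul_apply, hermBilin_single, hermBilin_single,
      smul_eq_mul]
  have hBw : ∀ i x, hermBilin hF (k + 2) (w i) x = x i.succ.succ := fun i x => hermBilin_single hF _ x
  set D := hermBilin hF (k + 2) e f' with hD
  have hD0 : D ≠ 0 := by
    rw [hD, hB0]
    simp [f', s0, s1, h01, h01.symm]
    intro e0
    have h1 : σq c * d = σq d * d := by rw [hd1]; linear_combination e0
    have hd0 : d ≠ 0 := fun e0 => by rw [e0, map_zero, zero_mul] at hd1; exact one_ne_zero (neg_eq_zero.mp hd1.symm)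
    exact hcd (mul_right_cancel₀ hd0 h1)
  let f : Fin (k + 2) → F := D⁻¹ • f'
  have hBf : ∀ x, hermBilin hF (k + 2) f x = σq D⁻¹ * (x 0 + σq d * x 1) := fun x => by
    rw [map_smulₛₗ, LinearMap.smul_apply, smul_eq_mul, hB0]
  have hΦ : Frame hF e f w := by
    refine ⟨?_, ?_, ?_, fun i => ?_, fun i => ?_, fun i j => ?_⟩
    · rw [hB0]; simp [e, s0, s1, h01, h01.symm, hc]
    · rw [map_smul, map_smulₛₗ, LinearMap.smul_apply, hB0]; simp [f', s0, s1, h01, h01.symm, hd1]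
    · rw [map_smul, ← hD, smul_eq_mul, inv_mul_cancel₀ hD0]
    · rw [hB0]; simp [w, (hi i).1.symm, (hi i).2.symm]
    · rw [hBf]; simp [w, (hi i).1.symm, (hi i).2.symm]
    · rw [hBw]; simp [w, Pi.single_apply, eq_comm]
  refine ⟨e, f, w, hΦ, fun x => ?_⟩
  set z := hermBilin hF (k + 2) f x • e + hermBilin hF (k + 2) e x • f +
    ∑ i, hermBilin hF (k + 2) (w i) x • w i with hz
  have h1 : hermBilin hF (k + 2) e (x - z) = 0 := by rw [map_sub, hz, hΦ.form_e, sub_self]
  have h2 : hermBilin hF (k + 2) f (x - z) = 0 := by rw [map_sub, hz, hΦ.form_f, sub_self]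
  have h3 : ∀ i, hermBilin hF (k + 2) (w i) (x - z) = 0 := fun i => by rw [map_sub, hz, hΦ.form_w, sub_self]
  rw [hB0] at h1
  rw [hBf, mul_eq_zero] at h2
  have h2' := h2.resolve_left ((map_ne_zero_iff _ (RingHom.injective _)).mpr (inv_ne_zero hD0))
  have h4 : (x - z) 1 = 0 := by
    have : (σq c - σq d) * (x - z) 1 = 0 := by linear_combination h1 - h2'
    exact (mul_eq_zero.mp this).resolve_left (sub_ne_zero.mpr hcd)
  rw [h4, mul_zero, add_zero] at h1
  have h5 : x - z = 0 := funext fun i => by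
    refine Fin.cases h1 (fun i => ?_) i
    refine Fin.cases h4 (fun i => ?_) i
    exact (hBw i _).symm.trans (h3 i)
  exact (sub_eq_zero.mp h5).symm

include hF in
theorem Frame.expand {e f : Vn} {w : Fin (n - 2) → Vn} (hn : 2 ≤ n) (h : Frame hF e f w) (x : Vn) :
    B f x • e + B e x • f + ∑ i, B (w i) x • w i = x := by
  obtain ⟨e₀, f₀, w₀, h₀, hx⟩ := exists_frame hF hn
  let L : Vn →ₗ[F] Vn := (B f₀).smulRight e + (B e₀).smulRight f + ∑ i, (B (w₀ i)).smulRight (w i)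
  have hL : ∀ y, L y = B f₀ y • e + B e₀ y • f + ∑ i, B (w₀ i) y • w i := fun y => by
    simp [L, LinearMap.sum_apply]
  have hiso : ∀ y z, B (L y) (L z) = B y z := fun y z => by
    conv_rhs => rw [← hx y, h₀.form_comb]
    rw [hL y, h.form_comb, hL, h.form_e, h.form_f]
    simp only [h.form_w]
  have hinj : Function.Injective L := by
    rw [injective_iff_map_eq_zero]
    intro y hy
    refine (hermBilin_nondegenerate hF n).1 y fun z => ?_
    rw [← hiso, hy, map_zero, LinearMap.zero_apply]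
  obtain ⟨y, rfl⟩ := (LinearMap.injective_iff_surjective (f := L)).mp hinj x
  rw [hL, h.form_e, h.form_f]
  simp only [h.form_w]

include hF in
theorem Frame.exists_map {e f e' f' : Vn} {w w' : Fin (n - 2) → Vn} (hn : 2 ≤ n) (h : Frame hF e f w)
    (h' : Frame hF e' f' w') :
    ∃ g : GUn, (g.1 : Mat) *ᵥ e = e' ∧ (g.1 : Mat) *ᵥ f = f' ∧ ∀ i, (g.1 : Mat) *ᵥ w i = w' i := by
  classical
  let L : Vn →ₗ[F] Vn := (B f).smulRight e' + (B e).smulRight f' + ∑ i, (B (w i)).smulRight (w' i)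
  have hL : ∀ y, L y = B f y • e' + B e y • f' + ∑ i, B (w i) y • w' i := fun y => by
    simp [L, LinearMap.sum_apply]
  obtain ⟨g, hg⟩ := exists_GU_of_linear hF L fun y z => by
    conv_rhs => rw [← h.expand hF hn y, h.form_comb]
    rw [hL y, h'.form_comb, hL, h'.form_e, h'.form_f]
    simp only [h'.form_w]
  refine ⟨g, ?_, ?_, fun i => ?_⟩
  · rw [hg, hL, h.fe, h.ee]; simp [h.we]
  · rw [hg, hL, h.ff, h.ef]; simp [h.wf]
  · rw [hg, hL, h.fw, h.ew]; simp [h.ww]

omit [Fintype F] in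
theorem frame_map_apply (σ : F ≃+* F) {k : ℕ} (a b : F) (u : Fin k → F) (e f : Vn) (w : Fin k → Vn) :
    (fun j => σ ((a • e + b • f + ∑ i, u i • w i) j)) =
      σ a • (fun j => σ (e j)) + σ b • (fun j => σ (f j)) + ∑ i, σ (u i) • fun j => σ (w i j) := by
  funext j
  simp [map_sum]

theorem Frame.map {k : ℕ} {e f : Vn} {w : Fin k → Vn} (h : Frame hF e f w) (σ : F ≃+* F) :
    Frame hF (fun j => σ (e j)) (fun j => σ (f j)) (fun i j => σ (w i j)) where
  ee := by rw [form_map, h.ee, map_zero]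
  ff := by rw [form_map, h.ff, map_zero]
  ef := by rw [form_map, h.ef, map_one]
  ew i := by rw [form_map, h.ew, map_zero]
  fw i := by rw [form_map, h.fw, map_zero]
  ww i j := by rw [form_map, h.ww]; split_ifs <;> simp

/-! ### Images of transvection groups -/

/-- `β` carries the transvection group of `v` onto that of `z`. -/
def Img (β : MulAut PSUn) (v z : Vn) : Prop :=
  (v ≠ 0 ∧ B v v = 0) ∧ (z ≠ 0 ∧ B z z = 0) ∧
    ∃ φ : F → F, Set.BijOn φ Kq Kq ∧ ∀ c, σq c = -c → β (tau v c) = tau z (φ c)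

variable (p : ℕ) [Fact p.Prime] [CharP F p]

include hF p in
theorem img_exists (hn : 3 ≤ n) (β : MulAut PSUn) {v : Vn} (hv0 : v ≠ 0) (hv : B v v = 0) :
    ∃ z, Img hF β v z := by
  obtain ⟨z, φ, hz0, hz, hb, hφ⟩ := exists_image hF p hn β hv0 hv
  exact ⟨z, ⟨hv0, hv⟩, ⟨hz0, hz⟩, φ, hb, hφ⟩

include hF p in
theorem img_phi (hn : 1 ≤ n) {β : MulAut PSUn} {v z : Vn} (hv : B v v = 0) (hz0 : z ≠ 0) (hz : B z z = 0)
    {φ : F → F} (hb : Set.MapsTo φ Kq Kq) (h : ∀ c, σq c = -c → β (tau v c) = tau z (φ c)) :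
    φ 0 = 0 ∧ ∀ c d, σq c = -c → σq d = -d → φ (c + d) = φ c + φ d := by
  have h0 : σq (0 : F) = -0 := by simp
  refine ⟨tau_inj hF p hn hz0 hz (hb h0) h0 ?_, fun c d hc hd => ?_⟩
  · rw [← h 0 h0, tau_zero hF hv, tau_zero hF hz, map_one]
  · have hcd : σq (c + d) = -(c + d) := by rw [map_add, hc, hd]; ring
    refine tau_inj hF p hn hz0 hz (hb hcd) ?_ ?_
    · rw [map_add, hb hc, hb hd]; ring
    · rw [← tau_add hF hz (hb hc) (hb hd), ← h c hc, ← h d hd, ← h _ hcd, ← tau_add hF hv hc hd, map_mul]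

omit [Fact p.Prime] [CharP F p] in
include hF in
theorem exists_skew : ∃ c : F, c ≠ 0 ∧ σq c = -c := by
  obtain ⟨a, ha⟩ : ∃ a : F, σq a ≠ a := by
    by_contra h
    push Not at h
    exact conjHom_ne_id hF (RingHom.ext h)
  exact ⟨a - σq a, sub_ne_zero.mpr ha.symm, by rw [map_sub, conjHom_conjHom]; ring⟩

include hF p in
theorem img_unique (hn : 1 ≤ n) {β : MulAut PSUn} {v z z' : Vn} (h : Img hF β v z) (h' : Img hF β v z') :
    ∃ a : F, a ≠ 0 ∧ z' = a • z := by
  obtain ⟨⟨-, hv⟩, ⟨hz0, hz⟩, φ, hb, hφ⟩ := h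
  obtain ⟨-, ⟨-, hz'⟩, φ', hb', hφ'⟩ := h'
  obtain ⟨c, hc0, hc⟩ := exists_skew hF
  have h0 : φ c ≠ 0 := fun e => hc0 (hb.injOn hc (by simp)
    (e.trans (img_phi hF p hn hv hz0 hz hb.mapsTo hφ).1.symm))
  obtain ⟨a, ha, e, -⟩ := tau_eq_imp hF p hn hz0 hz hz' h0 (hb.mapsTo hc) (hb'.mapsTo hc)
    ((hφ c hc).symm.trans (hφ' c hc))
  exact ⟨a, ha, e⟩

omit [Fact p.Prime] [CharP F p] in
theorem norm_ne_zero {a : F} (ha : a ≠ 0) : a * σq a ≠ 0 :=
  mul_ne_zero ha ((map_ne_zero_iff _ (RingHom.injective _)).mpr ha)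

omit [Fact p.Prime] [CharP F p] in
include hF in
theorem skew_div_norm {c : F} (hc : σq c = -c) (a : F) : σq (c / (a * σq a)) = -(c / (a * σq a)) := by
  rw [map_div₀, norm_fixed, hc, neg_div]

omit [Fact p.Prime] [CharP F p] in
theorem img_smul {β : MulAut PSUn} {v z : Vn} (h : Img hF β v z) {a : F} (ha : a ≠ 0) :
    Img hF β v (a • z) := by
  obtain ⟨hv, ⟨hz0, hz⟩, φ, hb, hφ⟩ := h
  have hn' := norm_ne_zero hF ha
  refine ⟨hv, ⟨smul_ne_zero ha hz0, by rw [form_smul_smul, hz, mul_zero]⟩,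
    fun c => φ c / (a * σq a), ⟨fun c hc => skew_div_norm hF (hb.mapsTo hc) a,
      fun c hc d hd e => hb.injOn hc hd ((div_left_inj' hn').mp e), fun c (hc : σq c = -c) => ?_⟩, fun c hc => ?_⟩
  · obtain ⟨d, hd, e⟩ := hb.surjOn (show c * (a * σq a) ∈ Kq from skew_mul_fixed hF hc (norm_fixed hF a))
    exact ⟨d, hd, by show φ d / _ = c; rw [e, mul_div_cancel_right₀ _ hn']⟩
  · show _ = tau (a • z) _
    rw [hφ c hc, tau_smul hF a hz (skew_div_norm hF (hb.mapsTo hc) a), div_mul_cancel₀ _ hn']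

omit [Fact p.Prime] [CharP F p] in
theorem img_smulL {β : MulAut PSUn} {v z : Vn} (h : Img hF β v z) {a : F} (ha : a ≠ 0) :
    Img hF β (a • v) z := by
  obtain ⟨⟨hv0, hv⟩, hz, φ, hb, hφ⟩ := h
  have hn' := norm_ne_zero hF ha
  have hk : ∀ c, σq c = -c → σq (c * (a * σq a)) = -(c * (a * σq a)) := fun c hc =>
    skew_mul_fixed hF hc (norm_fixed hF a)
  refine ⟨⟨smul_ne_zero ha hv0, by rw [form_smul_smul, hv, mul_zero]⟩, hz,
    fun c => φ (c * (a * σq a)), ⟨fun c hc => hb.mapsTo (hk c hc),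
      fun c hc d hd e => mul_right_cancel₀ hn' (hb.injOn (hk c hc) (hk d hd) e), fun c hc => ?_⟩, fun c hc => ?_⟩
  · obtain ⟨d, hd, e⟩ := hb.surjOn hc
    exact ⟨d / (a * σq a), skew_div_norm hF hd a, by show φ _ = c; rw [div_mul_cancel₀ _ hn', e]⟩
  · rw [tau_smul hF a hv hc, hφ _ (hk c hc)]

include hF p in
theorem img_orth (hn : 1 ≤ n) {β : MulAut PSUn} {v z v' z' : Vn} (h : Img hF β v z)
    (h' : Img hF β v' z') : B v v' = 0 ↔ B z z' = 0 := by
  obtain ⟨⟨-, hv⟩, ⟨hz0, hz⟩, φ, hb, hφ⟩ := h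
  obtain ⟨⟨hv'0, hv'⟩, ⟨hz'0, hz'⟩, φ', hb', hφ'⟩ := h'
  obtain ⟨c, hc0, hc⟩ := exists_skew hF
  have h0 : φ c ≠ 0 := fun e => hc0 (hb.injOn hc (by simp)
    (e.trans (img_phi hF p hn hv hz0 hz hb.mapsTo hφ).1.symm))
  have h0' : φ' c ≠ 0 := fun e => hc0 (hb'.injOn hc (by simp)
    (e.trans (img_phi hF p hn hv' hz'0 hz' hb'.mapsTo hφ').1.symm))
  rw [← tau_commute_iff hF p hn hv'0 hv hv' hc0 hc0 hc hc,
    ← tau_commute_iff hF p hn hz'0 hz hz' h0 h0' (hb.mapsTo hc) (hb'.mapsTo hc),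
    ← hφ c hc, ← hφ' c hc, ← map_mul, ← map_mul, β.injective.eq_iff]

omit [Fact p.Prime] [CharP F p] in
theorem img_inv {β : MulAut PSUn} {v z : Vn} (h : Img hF β v z) : Img hF β⁻¹ z v := by
  classical
  obtain ⟨hv, hz, φ, hb, hφ⟩ := h
  have hex : ∀ c : F, σq c = -c → ∃ d, σq d = -d ∧ φ d = c := fun c hc => hb.surjOn hc
  choose ψ hψ1 hψ2 using hex
  refine ⟨hz, hv, fun c => if hc : σq c = -c then ψ c hc else 0, ⟨fun c hc => ?_, fun c hc d hd e => ?_,
    fun c hc => ?_⟩, fun c hc => ?_⟩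
  · show σq _ = -_
    simp only [dif_pos (show σq c = -c from hc)]
    exact hψ1 c hc
  · simp only [dif_pos (show σq c = -c from hc), dif_pos (show σq d = -d from hd)] at e
    rw [← hψ2 c hc, ← hψ2 d hd, e]
  · have hm : σq (φ c) = -φ c := hb.mapsTo hc
    refine ⟨φ c, hm, ?_⟩
    simp only [dif_pos hm]
    exact hb.injOn (hψ1 _ hm) hc (hψ2 _ hm)
  · simp only [dif_pos hc]
    apply β.injective
    rw [hφ _ (hψ1 c hc), hψ2 c hc]
    exact β.apply_symm_apply _

include hF p in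
theorem img_inj (hn : 1 ≤ n) {β : MulAut PSUn} {v v' z : Vn} (h : Img hF β v z) (h' : Img hF β v' z) :
    ∃ a : F, a ≠ 0 ∧ v' = a • v :=
  img_unique hF p hn (img_inv hF h) (img_inv hF h')

omit [Fact p.Prime] [CharP F p] in
theorem img_conj {β : MulAut PSUn} {v z u t : Vn} {c d : F} (hv : B v v = 0) (hz : B z z = 0)
    (hc : σq c = -c) (hd : σq d = -d) (h : β (tau v c) = tau z d) (hu : Img hF β u t) :
    Img hF β (u + (c * B v u) • v) (t + (d * B z t) • z) := by
  obtain ⟨⟨hu0, huu⟩, ⟨ht0, ht⟩, φ, hb, hφ⟩ := hu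
  rw [← uT_mulVec hF hv hc, ← uT_mulVec hF hz hd]
  refine ⟨⟨mulVec_ne_zero' _ hu0, by rw [su_form, huu]⟩, ⟨mulVec_ne_zero' _ ht0, by rw [su_form, ht]⟩,
    φ, hb, fun e he => ?_⟩
  rw [← tau_conj hF _ huu he, ← tau_conj hF _ ht (hb.mapsTo he), map_mul, map_mul, map_inv,
    show pr (uT (q := q) v c) = tau v c from rfl, show pr (uT (q := q) z d) = tau z d from rfl, h, hφ e he]

omit [Fact p.Prime] [CharP F p] in
theorem img_dia {β : MulAut PSUn} {v z : Vn} (h : Img hF β v z) (g : GUn) :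
    Img hF (dia g * β) v ((g.1 : Mat) *ᵥ z) := by
  obtain ⟨hv, ⟨hz0, hz⟩, φ, hb, hφ⟩ := h
  refine ⟨hv, ⟨fun e => hz0 ?_, by rw [gu_form, hz]⟩, φ, hb, fun c hc => ?_⟩
  · have := congrArg (((g.1⁻¹ : GLn) : Mat) *ᵥ ·) e
    simpa [Matrix.mulVec_mulVec, ← Units.val_mul] using this
  · rw [MulAut.mul_apply, hφ c hc, dia_tau hF g hz (hb.mapsTo hc)]

omit [Fact p.Prime] [CharP F p] in
theorem img_fld {β : MulAut PSUn} {v z : Vn} (h : Img hF β v z) (σ : F ≃+* F) :
    Img hF (fld σ * β) v (fun i => σ (z i)) := by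
  obtain ⟨hv, ⟨hz0, hz⟩, φ, hb, hφ⟩ := h
  have hk : ∀ c, σq c = -c → σq (σ c) = -σ c := fun c hc => by rw [conj_comm, hc, map_neg]
  refine ⟨hv, ⟨fun e => hz0 (funext fun i => σ.injective ((congrFun e i).trans (map_zero σ).symm)),
    by rw [form_map, hz, map_zero]⟩, fun c => σ (φ c), ⟨fun c hc => hk _ (hb.mapsTo hc),
      fun c hc d hd e => hb.injOn hc hd (σ.injective e), fun c (hc : σq c = -c) => ?_⟩, fun c hc => ?_⟩
  · have hs : σq (σ.symm c) = -σ.symm c := by rw [conj_comm, hc, map_neg]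
    obtain ⟨d, hd, e⟩ := hb.surjOn hs
    exact ⟨d, hd, by show σ (φ d) = c; rw [e, σ.apply_symm_apply]⟩
  · rw [MulAut.mul_apply, hφ c hc, fld_tau hF σ hz (hb.mapsTo hc)]

include hF p in
/-- Totally singular lines go to totally singular lines. -/
theorem img_span (hn : 3 ≤ n) {β : MulAut PSUn} {u u' v v' s s' : Vn} (hu : Img hF β u u')
    (hv : Img hF β v v') (hs : Img hF β s s') (huv : B u v = 0) (hsum : ∃ a b : F, a • u + b • v = s) :
    ∃ a b : F, a • u' + b • v' = s' := by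
  have hn1 : 1 ≤ n := by omega
  by_contra hcon
  push Not at hcon
  obtain ⟨a, b, rfl⟩ := hsum
  have hvu : B v u = 0 := by rw [← herm_symm hF, huv, map_zero]
  have hsu : B (a • u + b • v) u = 0 := by simp [hu.1.2, hvu]
  have hsv : B (a • u + b • v) v = 0 := by simp [hv.1.2, huv]
  have hsu' := (img_orth hF p hn1 hs hu).mp hsu
  have hsv' := (img_orth hF p hn1 hs hv).mp hsv
  obtain ⟨r, hr, hr1⟩ := exists_sesq_perp_apply_eq_one B (conjHom_conjHom hF) (hermBilin_isSymm hF n)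
    (hermBilin_nondegenerate hF n) (Submodule.span F {u', v'}) (x := s')
    (by rw [Submodule.mem_span_pair]; exact fun ⟨a, b, e⟩ => hcon a b e)
  obtain ⟨c, hc⟩ := exists_add_conj_eq (conjHom_ne_id hF) (conjHom_conjHom hF)
    (s := -B r r) (by rw [map_neg, form_self_conj])
  set r' := r + c • s'
  have hsr : B s' r = 1 := by rw [← herm_symm hF, hr1, map_one]
  have hr's : B r' s' = 1 := by simp [r', hr1, hs.2.1.2]
  have hr'u : B r' u' = 0 := by simp [r', hr u' (Submodule.subset_span (by simp)), hsu']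
  have hr'v : B r' v' = 0 := by simp [r', hr v' (Submodule.subset_span (by simp)), hsv']
  have hr'0 : r' ≠ 0 := fun e => by rw [e] at hr's; simp at hr's
  have hr'r : B r' r' = 0 := by
    simp [r', hr1, hsr, hs.2.1.2]
    linear_combination hc
  obtain ⟨t, ht⟩ := img_exists hF p hn β⁻¹ hr'0 hr'r
  have ht' := img_inv hF ht
  rw [inv_inv] at ht'
  have h1 := (img_orth hF p hn1 ht' hu).mpr hr'u
  have h2 := (img_orth hF p hn1 ht' hv).mpr hr'v
  have h3 := (img_orth hF p hn1 ht' hs).mp (by simp [h1, h2])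
  exact one_ne_zero (hr's.symm.trans h3)

end Cfsg.Agent.Lib.Classical.AutPSU
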