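import Mathlib

/-!
An additive bijection `φ` of a finite field fixing `1` such that `x ↦ φ(x⁻¹)⁻¹` is additive as well
is an automorphism, that is a power of the Frobenius map.
-/

set_option autoImplicit false

namespace Cfsg.Agent.Lib.Classical.AutPSU

variable {L : Type*} [Field L] [Finite L]

/-- Hua's identity. -/
theorem exists_ringHom_of_hua {φ : L → L} (hadd : ∀ a b, φ (a + b) = φ a + φ b) (h1 : φ 1 = 1)
    (hinj : Function.Injective φ)
    (hη : ∀ a b, (φ (a + b)⁻¹)⁻¹ = (φ a⁻¹)⁻¹ + (φ b⁻¹)⁻¹) :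
    ∃ ρ : L →+* L, ∀ x, ρ x = φ x := by
  set η : L → L := fun t => (φ t⁻¹)⁻¹ with hηdef
  have hsub : ∀ a b, φ (a - b) = φ a - φ b := fun a b => by
    have := hadd (a - b) b
    rw [sub_add_cancel] at this
    rw [this, add_sub_cancel_right]
  have h0 : φ 0 = 0 := by
    have := hsub 0 0
    rwa [sub_self, sub_self] at this
  have ne0 : ∀ {a : L}, a ≠ 0 → φ a ≠ 0 := fun ha e => ha (hinj (e.trans h0.symm))
  have ne0' : ∀ {a : L}, a ≠ 0 → η a ≠ 0 := fun ha => inv_ne_zero (ne0 (inv_ne_zero ha))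
  have hηadd : ∀ a b, η (a + b) = η a + η b := hη
  have hη0 : η 0 = 0 := by simp [hηdef, h0]
  have hη1 : η 1 = 1 := by simp [hηdef, h1]
  have hηsub : ∀ a b, η (a - b) = η a - η b := fun a b => by
    have := hηadd (a - b) b
    rw [sub_add_cancel] at this
    rw [this, add_sub_cancel_right]
  have hφη : ∀ a, φ a⁻¹ = (η a)⁻¹ := fun a => by simp [hηdef]
  have key : ∀ x a : L, a ≠ 0 → η (x ^ 2 / a) * η a = η x ^ 2 := by
    intro x a ha
    by_cases hx : x = 0
    · subst hx; simp [hη0]
    by_cases hxa : x = a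
    · subst hxa; rw [pow_two, mul_div_assoc, div_self hx, mul_one, pow_two]
    have hd : x - a ≠ 0 := sub_ne_zero.mpr hxa
    have e1 : (x * (x - a) / a)⁻¹ = (x - a)⁻¹ - x⁻¹ := by field_simp; ring
    have hd' : η x - η a ≠ 0 := by rw [← hηsub]; exact ne0' hd
    have e2 : η (x * (x - a) / a) = η x * (η x - η a) / η a := by
      show (φ (x * (x - a) / a)⁻¹)⁻¹ = _
      rw [e1, hsub, hφη, hφη, hηsub]
      rw [inv_sub_inv hd' (ne0' hx), inv_div, sub_sub_cancel, mul_comm]
    have e3 : x ^ 2 / a = x * (x - a) / a + x := by field_simp; ring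
    rw [e3, hηadd, e2]
    have := ne0' ha
    field_simp
    ring
  have hinv : ∀ a, η a⁻¹ = (η a)⁻¹ := fun a => by
    by_cases ha : a = 0
    · subst ha; simp [hη0]
    have := key 1 a ha
    rw [one_pow, hη1, one_pow, one_div] at this
    exact eq_inv_of_mul_eq_one_left this
  have hsq : ∀ x z, η (x ^ 2 * z) = η x ^ 2 * η z := fun x z => by
    by_cases hz : z = 0
    · subst hz; simp [hη0]
    have := key x z⁻¹ (inv_ne_zero hz)
    rw [div_inv_eq_mul, hinv] at this
    rw [← this, mul_assoc, inv_mul_cancel₀ (ne0' hz), mul_one]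
  have hmul : ∀ a b, η (a * b) = η a * η b := by
    intro a b
    by_cases h2 : (2 : L) = 0
    · haveI : CharP L 2 := CharTwo.of_one_ne_zero_of_two_eq_zero one_ne_zero h2
      obtain ⟨x, rfl⟩ := FiniteField.isSquare_of_char_two (ringChar.eq L 2) a
      have e := hsq x b
      have e' := hsq x 1
      rw [mul_one, hη1, mul_one, pow_two] at e'
      rw [← pow_two] at e' ⊢
      rw [e, e']
    · have e := hsq (a + 1) b
      have e1 := hsq a b
      rw [hηadd, hη1, show (a + 1) ^ 2 * b = a ^ 2 * b + (a * b + a * b) + b by ring, hηadd, hηadd, hηadd,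
        e1] at e
      apply mul_left_cancel₀ h2
      linear_combination e
  have heq : ∀ z, φ z = η z := fun z => by
    have := hφη z⁻¹
    rw [inv_inv, hinv, inv_inv] at this
    exact this
  exact ⟨{ toFun := η, map_one' := hη1, map_mul' := hmul, map_zero' := hη0, map_add' := hηadd },
    fun x => (heq x).symm⟩

/-- Endomorphisms of finite fields are powers of the Frobenius map. -/
theorem exists_frobenius_pow (p : ℕ) [Fact p.Prime] [CharP L p] (ρ : L →+* L) :
    ∃ j : ℕ, ∀ x, ρ x = x ^ p ^ j := by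
  cases nonempty_fintype L
  letI : Algebra (ZMod p) L := ZMod.algebra L p
  haveI : Algebra.IsAlgebraic (ZMod p) L := Algebra.IsAlgebraic.of_finite _ _
  let r : L →ₐ[ZMod p] L :=
    { ρ with commutes' := fun c => RingHom.congr_fun (RingHom.ext_zmod (ρ.comp (algebraMap (ZMod p) L)) (algebraMap (ZMod p) L)) c }
  obtain ⟨j, hj⟩ := (FiniteField.bijective_frobeniusAlgHom_pow (ZMod p) L).2 r
  have hpow : ∀ (i : ℕ) (x : L), ((FiniteField.frobeniusAlgHom (ZMod p) L) ^ i) x = x ^ p ^ i := by
    intro i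
    induction i with
    | zero => intro x; simp
    | succ i ih =>
      intro x
      rw [pow_succ, AlgHom.mul_apply, ih, FiniteField.coe_frobeniusAlgHom, ← pow_mul, ZMod.card, pow_succ']
  refine ⟨j, fun x => ?_⟩
  rw [← hpow]
  exact (DFunLike.congr_fun hj x).symm

end Cfsg.Agent.Lib.Classical.AutPSU
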