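import Cfsg.Agent.Lib.Classical.AutPSU.FieldClass
import Cfsg.Agent.Lib.Classical.AutPSL.GraphNormal

/-!
Involutory automorphisms of `PSU_n(q)` outside the inner-diagonal group, odd `q`: the centralizer of a
standard form and the odd core.
-/

set_option autoImplicit false

namespace Cfsg.Agent.Lib.Classical.AutPSU

open Matrix
open Cfsg.Agent.Lib.Classical

variable {F : Type*} [Field F] [Fintype F] {q n : ℕ}

set_option quotPrecheck false in
local notation "SUn" => Subtype (fun A => A ∈ Cfsg.SU n F q)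
set_option quotPrecheck false in
local notation "GUn" => Subtype (fun A => A ∈ Cfsg.GU n F q)
set_option quotPrecheck false in
local notation "GLn" => GL (Fin n) F
set_option quotPrecheck false in
local notation "Mat" => Matrix (Fin n) (Fin n) F
set_option quotPrecheck false in
local notation "PSUn" => Cfsg.PSU n F q
set_option quotPrecheck false in
local notation "sc" => (GeneralLinearGroup.scalar (Fin n) : Fˣ →* GL (Fin n) F)

theorem sc_comm (u : Fˣ) (x : GLn) : sc u * x = x * sc u :=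
  (Subgroup.mem_center_iff.mp (AutPSL.scalar_mem_center u) x).symm

omit [Fintype F] in
theorem sc_coe_mul (u : Fˣ) (X : Mat) : ((sc u : GLn) : Mat) * X = (u : F) • X := by
  show Matrix.scalar (Fin n) (u : F) * X = _
  simp [Matrix.scalar_apply, ← Matrix.smul_eq_diagonal_mul]

theorem scU_val (u : U1 F q) : (scU (n := n) u).1 = sc u.1 := rfl

theorem scU_comm (u : U1 F q) (x : GUn) : scU u * x = x * scU u :=
  Subtype.ext (sc_comm u.1 x.1)

variable {K : Type*} [Field K] [Fintype K]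

/-- A form over the fixed field carried by a standard twisted class. -/
structure Model (σ : F ≃+* F) (j : K →+* F) (G : GUn) (M : GLn) (A A' : Matrix (Fin n) (Fin n) K) : Prop where
  fix : ∀ a, σ a = a ↔ ∃ b, j b = a
  two : σ * σ = 1
  conj : ∀ a, σ a = a ^ q
  twist : ∃ l : Fˣ, G.1 = sc l * (M * (AutPSL.galGL σ M)⁻¹)
  form : ∃ κ : F, κ ≠ 0 ∧ (M : Mat)ᵀ * (M : Mat).map σ = κ • A.map j
  inv : A * A' = 1

/-- Matrices over the fixed field, moved by `M`. -/
def liftM (j : K →+* F) (M : GLn) : GL (Fin n) K →* GLn :=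
  (MulAut.conj M).toMonoidHom.comp (Matrix.GeneralLinearGroup.map j)

theorem liftM_apply (j : K →+* F) (M : GLn) (h : GL (Fin n) K) :
    liftM j M h = M * Matrix.GeneralLinearGroup.map j h * M⁻¹ := rfl

omit [Fintype K] in
theorem gram_iff {A A' : Matrix (Fin n) (Fin n) K} (hA : A * A' = 1) (h : Matrix (Fin n) (Fin n) K) :
    hᵀ * A * h = A ↔ h * A' * hᵀ = A' := by
  have hA' := mul_eq_one_comm.mp hA
  constructor
  · intro e
    have h1 : A' * hᵀ * A * h = 1 := by rw [mul_assoc, mul_assoc, ← mul_assoc hᵀ, e, hA']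
    have h2 := congrArg (· * A') (mul_eq_one_comm.mp h1)
    simp only [mul_assoc, hA, mul_one, one_mul] at h2
    rwa [mul_assoc]
  · intro e
    have h1 : h * A' * hᵀ * A = 1 := by rw [e, hA']
    rw [mul_assoc, mul_assoc] at h1
    have h2 := congrArg (A * ·) (mul_eq_one_comm.mp h1)
    simp only [← mul_assoc, hA, one_mul, mul_one] at h2
    exact h2

variable (hF : Fintype.card F = q ^ 2) {σ : F ≃+* F} {j : K →+* F} {G : Cfsg.GU n F q} {M : GL (Fin n) F}
  {A A' : Matrix (Fin n) (Fin n) K}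

set_option quotPrecheck false in
local notation "σq" => conjHom hF

namespace Model


theorem map_conj (m : Model σ j G M A A') (X : Mat) : X.map σq = X.map σ :=
  Matrix.ext fun a b => by rw [Matrix.map_apply, Matrix.map_apply, conjHom_apply, m.conj]

theorem gal_map (m : Model σ j G M A A') (h : GL (Fin n) K) :
    AutPSL.galGL σ (Matrix.GeneralLinearGroup.map j h) = Matrix.GeneralLinearGroup.map j h :=
  Units.ext (Matrix.ext fun _ _ => (m.fix _).mpr ⟨_, rfl⟩)

include hF in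
theorem lift_mem (m : Model σ j G M A A') {h : GL (Fin n) K} (hh : h ∈ AutPSL.gramStab A') : liftM j M h ∈ Cfsg.GU n F q := by
  obtain ⟨κ, -, hform⟩ := m.form
  rw [mem_GU_iff hF, m.map_conj hF, ← AutPSL.galGL_coe]
  set H := Matrix.GeneralLinearGroup.map j h with hH
  rw [liftM_apply, ← hH, map_mul, map_mul, m.gal_map, ← hH, Units.val_mul, Units.val_mul, Units.val_mul,
    Units.val_mul, Matrix.transpose_mul, Matrix.transpose_mul]
  have hHA : (H : Mat)ᵀ * ((M : Mat)ᵀ * (AutPSL.galGL σ M : GLn)) * (H : Mat) =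
      (M : Mat)ᵀ * (AutPSL.galGL σ M : GLn) := by
    rw [AutPSL.galGL_coe, hform, Matrix.mul_smul, Matrix.smul_mul]
    congr 1
    show ((h : Matrix (Fin n) (Fin n) K).map j)ᵀ * _ * (h : Matrix (Fin n) (Fin n) K).map j = _
    rw [← Matrix.transpose_map, ← Matrix.map_mul, ← Matrix.map_mul, (gram_iff m.inv _).mpr hh]
  calc _ = ((M⁻¹ : GLn) : Mat)ᵀ * ((H : Mat)ᵀ * ((M : Mat)ᵀ * (AutPSL.galGL σ M : GLn)) * (H : Mat)) *
        (AutPSL.galGL σ M⁻¹ : GLn) := by simp only [mul_assoc]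
    _ = ((M⁻¹ : GLn) : Mat)ᵀ * (M : Mat)ᵀ * ((AutPSL.galGL σ M : GLn) * (AutPSL.galGL σ M⁻¹ : GLn)) := by
      rw [hHA]; simp only [mul_assoc]
    _ = _ := by
      rw [← Units.val_mul, map_inv, mul_inv_cancel, Units.val_one, mul_one, ← Matrix.transpose_mul, Units.mul_inv,
        Matrix.transpose_one]

/-- The form stabiliser inside the unitary group. -/
def stabHom (m : Model σ j G M A A') : AutPSL.gramStab A' →* GUn :=
  MonoidHom.mk' (fun h => ⟨liftM j M h.1, m.lift_mem hF h.2⟩) fun a b => Subtype.ext (map_mul _ _ _)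

theorem stab_commute (m : Model σ j G M A A') (h : AutPSL.gramStab A') : m.stabHom hF h * G = G * galG σ (m.stabHom hF h) := by
  refine Subtype.ext ?_
  obtain ⟨l, hl⟩ := m.twist
  show liftM j M h.1 * G.1 = G.1 * AutPSL.galGL σ (liftM j M h.1)
  rw [hl, liftM_apply, map_mul, map_mul, m.gal_map, map_inv, ← mul_assoc _ (sc l), ← sc_comm]
  group

include hF in
theorem stab_surj (m : Model σ j G M A A') {g : GUn} (hg : g * G = G * galG σ g) : ∃ h, m.stabHom hF h = g := by
  classical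
  obtain ⟨l, hl⟩ := m.twist
  obtain ⟨κ, hκ, hform⟩ := m.form
  have hg' : g.1 * G.1 = G.1 * AutPSL.galGL σ g.1 := congrArg Subtype.val hg
  have hσg : AutPSL.galGL σ g.1 = AutPSL.galGL σ M * M⁻¹ * g.1 * M * (AutPSL.galGL σ M)⁻¹ := by
    rw [← mul_right_inj G.1, ← hg', hl]
    simp only [mul_assoc, inv_mul_cancel_left]
    rw [← mul_assoc g.1, ← sc_comm]
    group
  set h' := M⁻¹ * g.1 * M with hh'
  have hfix : AutPSL.galGL σ h' = h' := by
    rw [hh', map_mul, map_mul, hσg, map_inv]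
    group
  choose H hH using fun a b => (m.fix ((h' : Mat) a b)).mp (congrFun (congrFun (congrArg (fun x : GLn => (x : Mat)) hfix) a) b)
  have hdet : (Matrix.of H).det ≠ 0 := by
    intro h0
    have h1 : (h' : Mat).det = j (Matrix.of H).det := by
      rw [RingHom.map_det]
      congr 1
      exact Matrix.ext fun a b => (hH a b).symm
    rw [h0, map_zero] at h1
    exact (GeneralLinearGroup.det h').ne_zero h1
  set h := GeneralLinearGroup.mkOfDetNeZero (Matrix.of H) hdet
  have hmap : Matrix.GeneralLinearGroup.map j h = h' := Units.ext (Matrix.ext fun a b => hH a b)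
  have hlift : liftM j M h = g.1 := by rw [liftM_apply, hmap, hh']; group
  refine ⟨⟨h, (gram_iff m.inv _).mp (Matrix.map_injective j.injective ?_)⟩, Subtype.ext hlift⟩
  have hU := (mem_GU_iff hF g.1).mp g.2
  rw [m.map_conj hF, ← AutPSL.galGL_coe] at hU
  have e : (h' : Mat)ᵀ * ((M : Mat)ᵀ * (AutPSL.galGL σ M : GLn)) * (AutPSL.galGL σ h' : GLn) =
      (M : Mat)ᵀ * ((g.1 : Mat)ᵀ * (AutPSL.galGL σ g.1 : GLn)) * (AutPSL.galGL σ M : GLn) := by
    have e1 : (h' : Mat)ᵀ * (M : Mat)ᵀ = (M : Mat)ᵀ * (g.1 : Mat)ᵀ := by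
      rw [← Matrix.transpose_mul, ← Matrix.transpose_mul, ← Units.val_mul, ← Units.val_mul, hh']
      congr 2
      group
    have e2 : ((AutPSL.galGL σ M : GLn) : Mat) * (AutPSL.galGL σ h' : GLn) =
        (AutPSL.galGL σ g.1 : GLn) * (AutPSL.galGL σ M : GLn) := by
      rw [← Units.val_mul, ← Units.val_mul, ← map_mul, ← map_mul, hh']
      congr 2
      group
    calc _ = ((h' : Mat)ᵀ * (M : Mat)ᵀ) * (((AutPSL.galGL σ M : GLn) : Mat) * (AutPSL.galGL σ h' : GLn)) := by
          simp only [mul_assoc]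
      _ = _ := by rw [e1, e2]; simp only [mul_assoc]
  rw [hU, mul_one, hfix, AutPSL.galGL_coe, hform, Matrix.mul_smul, Matrix.smul_mul] at e
  show (((h : Matrix (Fin n) (Fin n) K))ᵀ * A * (h : Matrix (Fin n) (Fin n) K)).map j = A.map j
  rw [Matrix.map_mul, Matrix.map_mul, Matrix.transpose_map,
    show (h : Matrix (Fin n) (Fin n) K).map j = (h' : Mat) from Matrix.ext hH]
  exact smul_right_injective Mat hκ e

variable (p : ℕ) [Fact p.Prime] [CharP F p]

include hF p in
theorem commute_graph (hn : 3 ≤ n) {g : GUn}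
    (h : dia g * (dia G * fld σ) = dia G * fld σ * (dia g : MulAut PSUn)) :
    ∃ z, g * G = scU z * (G * galG σ g) := by
  rw [← mul_assoc, ← map_mul, mul_assoc (dia G), fld_mul_dia, ← mul_assoc, ← map_mul, mul_left_inj, eq_comm,
    ← inv_mul_eq_one, ← map_inv, ← map_mul, dia_eq_one_iff hF p hn] at h
  obtain ⟨z, hz⟩ := h
  exact ⟨z, by rw [scU_comm, ← hz, mul_inv_cancel_left]⟩

theorem conj_fix (m : Model σ j G M A A') (z : U1 F q) : mapU1 σ z⁻¹ = z := by
  refine Subtype.ext (Units.ext ?_)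
  show σ (((z⁻¹ : U1 F q) : Fˣ) : F) = _
  have h := mem_U1.mp (z⁻¹).2
  rw [pow_succ, ← m.conj] at h
  have h2 : ((z : Fˣ) : F) * (((z⁻¹ : U1 F q) : Fˣ) : F) = 1 := by simp
  exact mul_right_cancel₀ (Units.ne_zero (z⁻¹ : U1 F q).1) (h.trans h2.symm)

theorem mem_centralizer_of_fix {x : PSUn} {β : MulAut PSUn} (h : β x = x) :
    MulAut.conj x * β = β * MulAut.conj x := by
  refine MulEquiv.ext fun y => ?_
  simp [MulAut.mul_apply, h]

include hF p in
/-- The first condition. -/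
theorem odd_fixed_eq_bot (m : Model σ j G M A A') (hn : 3 ≤ n) (h32 : ¬ (n = 3 ∧ q = 2)) (hfree : OddFree.OddFree (AutPSL.gramStab A'))
    (N : Subgroup PSUn) (hN : ∀ x ∈ N, (dia G * fld σ : MulAut PSUn) x = x)
    (hnorm : ∀ γ : MulAut PSUn, γ * (dia G * fld σ) = dia G * fld σ * γ → ∀ x ∈ N, γ x ∈ N)
    (hodd : Odd (Nat.card N)) : N = ⊥ := by
  classical
  have hn1 : 0 < n := by omega
  haveI : Finite (MulAut PSUn) := Finite.of_injective _ DFunLike.coe_injective
  have hinj : Function.Injective (MulAut.conj : PSUn →* MulAut PSUn) := by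
    refine (injective_iff_map_eq_one _).mpr fun k hk => ?_
    rw [← Subgroup.mem_bot, ← center_PSU hF p hn h32, Subgroup.mem_center_iff]
    intro y
    have := congrArg (fun α : MulAut PSUn => α y) hk
    simp only [MulAut.conj_apply, MulAut.one_apply] at this
    exact (mul_inv_eq_iff_eq_mul.mp this).symm
  let ψ : AutPSL.gramStab A' →* MulAut PSUn := dia.comp (m.stabHom hF)
  have hjh : ∀ h : AutPSL.gramStab A', h ∈ ψ.ker → ∃ u : F, σ u = u ∧ u * u = 1 ∧
      (h.1 : Matrix (Fin n) (Fin n) K).map j = u • (1 : Mat) := by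
    intro h hh
    obtain ⟨u, hu⟩ := (dia_eq_one_iff hF p hn _).mp (show dia (m.stabHom hF h) = (1 : MulAut PSUn) from hh)
    have e : liftM j M h.1 = sc u.1 := congrArg Subtype.val hu
    rw [liftM_apply, mul_inv_eq_iff_eq_mul, sc_comm, mul_right_inj] at e
    have e' : (h.1 : Matrix (Fin n) (Fin n) K).map j = ((u : Fˣ) : F) • (1 : Mat) := by
      rw [← mul_one ((h.1 : Matrix (Fin n) (Fin n) K).map j)]
      rw [← sc_coe_mul u.1 1]
      congr 1
      exact congrArg (fun x : GLn => (x : Mat)) e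
    have hu00 : j ((h.1 : Matrix (Fin n) (Fin n) K) ⟨0, hn1⟩ ⟨0, hn1⟩) = ((u : Fˣ) : F) := by
      simpa using congrFun (congrFun e' ⟨0, hn1⟩) ⟨0, hn1⟩
    have hσu : σ ((u : Fˣ) : F) = ((u : Fˣ) : F) := (m.fix _).mpr ⟨_, hu00⟩
    refine ⟨_, hσu, ?_, e'⟩
    have := mem_U1.mp u.2
    rwa [pow_succ, ← m.conj, hσu] at this
  have hkc : ψ.ker ≤ Subgroup.center _ := fun h hh => by
    obtain ⟨u, -, -, e⟩ := hjh h hh
    refine Subgroup.mem_center_iff.mpr fun y => Subtype.ext (Units.ext (Matrix.map_injective j.injective ?_))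
    show ((y.1 : Matrix (Fin n) (Fin n) K) * (h.1 : Matrix (Fin n) (Fin n) K)).map j =
      ((h.1 : Matrix (Fin n) (Fin n) K) * (y.1 : Matrix (Fin n) (Fin n) K)).map j
    rw [Matrix.map_mul, Matrix.map_mul, e, Matrix.mul_smul, Matrix.smul_mul, one_mul, mul_one]
  have hkcard : Nat.card ψ.ker ∣ 2 := by
    have h1 : 0 < Nat.card ψ.ker := Nat.card_pos
    have h2 : Nat.card ψ.ker ≤ 2 := by
      let f : ψ.ker → Bool := fun x => decide (x.1 = 1)
      have hf : Function.Injective f := fun a b e => by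
        obtain ⟨u, -, hu2, hu⟩ := hjh a.1 a.2
        obtain ⟨v, -, hv2, hv⟩ := hjh b.1 b.2
        by_cases ha : a.1 = 1
        · exact Subtype.ext (ha.trans ((decide_eq_decide.mp e).mp ha).symm)
        · have hb : ¬ b.1 = 1 := fun hb => ha ((decide_eq_decide.mp e).mpr hb)
          have hne : ∀ (c : AutPSL.gramStab A') (w : F), (c.1 : Matrix (Fin n) (Fin n) K).map j = w • (1 : Mat) →
              w * w = 1 → ¬ c = 1 → w = -1 := fun c w hc hw hc1 => by
            refine (mul_self_eq_one_iff.mp hw).resolve_left fun e1 => hc1 ?_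
            refine Subtype.ext (Units.ext (Matrix.map_injective j.injective ?_))
            show (c.1 : Matrix (Fin n) (Fin n) K).map j = (1 : Matrix (Fin n) (Fin n) K).map j
            rw [hc, e1, one_smul, Matrix.map_one _ (map_zero j) (map_one j)]
          refine Subtype.ext (Subtype.ext (Units.ext (Matrix.map_injective j.injective ?_)))
          simp only
          rw [hu, hv, hne _ u hu hu2 ha, hne _ v hv hv2 hb]
      exact (Nat.card_le_card_of_injective f hf).trans (by simp)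
    interval_cases Nat.card ψ.ker <;> norm_num
  have hmap : N.map (MulAut.conj : PSUn →* MulAut PSUn) = ⊥ := by
    refine OddFree.eq_bot_of_hom hfree ψ hkcard hkc _ ?_ ?_ ?_
    · rintro _ ⟨x, hx, rfl⟩
      obtain ⟨s, rfl⟩ := pr_surjective x
      obtain ⟨z, hz⟩ := commute_graph hF p hn (g := suG s) (G := G) (σ := σ) (by
        rw [dia_suG]; exact mem_centralizer_of_fix (hN _ hx))
      set g := suG s
      obtain ⟨h, hh⟩ := m.stab_surj hF (g := scU z⁻¹ * (g * g)) (by
        rw [map_mul (galG σ), map_mul (galG σ), galG_scU, m.conj_fix, map_inv]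
        calc (scU z)⁻¹ * (g * g) * G = (scU z)⁻¹ * (g * (g * G)) := by group
          _ = (scU z)⁻¹ * (g * (scU z * (G * galG σ g))) := by rw [hz]
          _ = (scU z)⁻¹ * (scU z * ((g * G) * galG σ g)) := by rw [← mul_assoc g, ← scU_comm z g]; group
          _ = scU z * (G * galG σ g) * galG σ g := by rw [inv_mul_cancel_left, hz]
          _ = _ := by rw [← mul_assoc, scU_comm]; group)
      have hs2 : MulAut.conj (pr s * pr s) ∈ ψ.range := by
        refine ⟨h, ?_⟩
        show dia (m.stabHom hF h) = _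
        rw [hh, map_mul dia, map_mul dia, dia_scU, one_mul, map_mul MulAut.conj, ← dia_suG]
      have hc2 : (MulAut.conj (pr s) : MulAut PSUn) ^ (2 ^ 1) ∈ ψ.range := by
        rw [pow_one, sq, ← map_mul]; exact hs2
      exact OddFree.mem_of_pow_mem (N := N.map (MulAut.conj : PSUn →* MulAut PSUn))
        (by rwa [Subgroup.card_map_of_injective hinj]) ⟨_, hx, rfl⟩ hc2
    · rintro h _ ⟨y, hy, rfl⟩
      refine ⟨ψ h y, hnorm _ ?_ y hy, MulEquiv.ext fun z => by simp [MulAut.mul_apply]⟩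
      show dia (m.stabHom hF h) * (dia G * fld σ) = dia G * fld σ * dia (m.stabHom hF h)
      rw [← mul_assoc, ← map_mul, m.stab_commute, mul_assoc (dia G), fld_mul_dia, map_mul, mul_assoc]
    · rwa [Subgroup.card_map_of_injective hinj]
  rwa [Subgroup.map_eq_bot_iff_of_injective _ hinj] at hmap

include hF p in
/-- Fixed classes lift. -/
theorem lift_fix {g : GUn} {τ : F ≃+* F} {s : SUn} (h : (dia g * fld τ : MulAut PSUn) (pr s) = pr s) :
    (AutPSL.dia g.1 * AutPSL.fld τ : MulAut (ProjectiveSpecialLinearGroup (Fin n) F)) (AutPSL.proj s.1) =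
      AutPSL.proj s.1 := by
  rw [MulAut.mul_apply, fld_pr, dia_pr, eq_comm, ← inv_mul_eq_one, ← map_inv, ← map_mul, pr_eq_one] at h
  rw [MulAut.mul_apply, AutPSL.fld_proj, AutPSL.dia_proj, eq_comm, ← inv_mul_eq_one, ← map_inv, ← map_mul,
    AutPSL.proj_eq_one,
    show AutPSL.conjSL g.1 (slCongr τ s.1) = (conjSU g (mapSU τ s)).1 from AutPSL.sl_ext rfl,
    Subgroup.mem_center_iff]
  intro u
  by_cases hn : n = 0
  · subst hn
    exact AutPSL.sl_ext (Matrix.ext fun i => i.elim0)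
  have hsc := SU_center_scalar hF _ h ⟨0, Nat.pos_of_ne_zero hn⟩
  refine AutPSL.sl_ext ?_
  rw [Matrix.SpecialLinearGroup.coe_mul, Matrix.SpecialLinearGroup.coe_mul]
  change (u : Mat) * ((s⁻¹ * conjSU g (mapSU τ s)).1 : Mat) = ((s⁻¹ * conjSU g (mapSU τ s)).1 : Mat) * (u : Mat)
  rw [hsc, Matrix.mul_smul, Matrix.smul_mul, one_mul, mul_one]

include hF p in
theorem odd_lift (hn : 3 ≤ n) {g : GUn} {τ : F ≃+* F} (hodd : Odd (orderOf (dia g * fld τ : MulAut PSUn))) :
    Odd (orderOf (AutPSL.dia g.1 * AutPSL.fld τ : MulAut (ProjectiveSpecialLinearGroup (Fin n) F))) := by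
  obtain ⟨k, hk⟩ : ∃ k, k = orderOf (dia g * fld τ : MulAut PSUn) := ⟨_, rfl⟩
  rw [← hk] at hodd
  refine hodd.of_dvd_nat (orderOf_dvd_of_pow_eq_one ?_)
  have h1 := pow_orderOf_eq_one (dia g * fld τ : MulAut PSUn)
  rw [← hk, dia_mul_fld_pow] at h1
  obtain ⟨hτ, u, hu⟩ := eq_one_of_param hF p hn h1
  rw [← AutPSL.outerPart_one, AutPSL.dia_mul_outerPart_pow, AutPSL.galProd_eq_twistProd, ← prodG_coe, hu,
    scU_val, AutPSL.dia_center (AutPSL.scalar_mem_center u.1), one_mul,
    show ((τ, 1) : (F ≃+* F) × Multiplicative (ZMod 2)) ^ k = 1 from Prod.ext hτ (one_pow k), map_one]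

include hF p in
/-- The relation coming from a fixed element. -/
theorem rel (m : Model σ j G M A A') {g : GUn} {τ : F ≃+* F}
    (hfix : ∀ y, (dia G * fld σ : MulAut PSUn) y = y → (dia g * fld τ : MulAut PSUn) y = y)
    {h : GL (Fin n) K} (hh : h ∈ AutPSL.gramStab A') (hd : (h : Matrix (Fin n) (Fin n) K).det = 1) :
    ∃ c : F, ((M⁻¹ * g.1 * AutPSL.galGL τ M : GLn) : Mat) * ((h : Matrix (Fin n) (Fin n) K).map j).map τ =
      c • ((h : Matrix (Fin n) (Fin n) K).map j * ((M⁻¹ * g.1 * AutPSL.galGL τ M : GLn) : Mat)) := by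
  set H := Matrix.GeneralLinearGroup.map j h with hH
  have hHd : (H : Mat).det = 1 := by
    show ((h : Matrix (Fin n) (Fin n) K).map j).det = 1
    rw [← RingHom.mapMatrix_apply, ← RingHom.map_det, hd, map_one]
  set S := m.stabHom hF ⟨h, hh⟩ with hS
  have hSv : S.1 = M * H * M⁻¹ := rfl
  have hdet : (S.1 : Mat).det = 1 := by
    rw [hSv, Units.val_mul, Units.val_mul, Matrix.det_mul, Matrix.det_mul, hHd, mul_one, ← Matrix.det_mul,
      ← Units.val_mul, mul_inv_cancel, Units.val_one, Matrix.det_one]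
  let s : SUn := ⟨⟨(S.1 : Mat), hdet⟩, S.2⟩
  have hs : (dia G * fld σ : MulAut PSUn) (pr s) = pr s := by
    rw [MulAut.mul_apply, fld_pr, dia_pr]
    refine congrArg pr (Subtype.ext (Subtype.ext ?_))
    show (G.1 : Mat) * (S.1 : Mat).map σ * ((G.1⁻¹ : GLn) : Mat) = (S.1 : Mat)
    have e : S.1 * G.1 = G.1 * AutPSL.galGL σ S.1 := congrArg Subtype.val (m.stab_commute hF ⟨h, hh⟩)
    rw [← AutPSL.galGL_coe, ← Units.val_mul, ← Units.val_mul, ← e, mul_inv_cancel_right]
  obtain ⟨c, -, hc⟩ := AutPSL.scalar_rel (lift_fix hF p (hfix _ hs))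
  refine ⟨c, ?_⟩
  change (g.1 : Mat) * (S.1 : Mat).map τ = c • ((S.1 : Mat) * g.1) at hc
  have e1 : ((M⁻¹ * g.1 * AutPSL.galGL τ M : GLn) : Mat) * ((h : Matrix (Fin n) (Fin n) K).map j).map τ =
      ((M⁻¹ : GLn) : Mat) * ((g.1 : Mat) * (S.1 : Mat).map τ) * (AutPSL.galGL τ M : GLn) := by
    rw [← AutPSL.galGL_coe τ S.1, show ((h : Matrix (Fin n) (Fin n) K).map j).map τ = (AutPSL.galGL τ H : GLn) from rfl,
      ← Units.val_mul, ← Units.val_mul, ← Units.val_mul, ← Units.val_mul, hSv, map_mul, map_mul, map_inv]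
    congr 1
    group
  have e2 : (h : Matrix (Fin n) (Fin n) K).map j * ((M⁻¹ * g.1 * AutPSL.galGL τ M : GLn) : Mat) =
      ((M⁻¹ : GLn) : Mat) * ((S.1 : Mat) * g.1) * (AutPSL.galGL τ M : GLn) := by
    rw [show (h : Matrix (Fin n) (Fin n) K).map j = (H : Mat) from rfl,
      ← Units.val_mul, ← Units.val_mul, ← Units.val_mul, ← Units.val_mul, hSv]
    congr 1
    group
  rw [e1, hc, e2, Matrix.mul_smul, Matrix.smul_mul]

include hF p in
/-- The end of the rigidity argument. -/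
theorem eq_one_of_rigid (m : Model σ j G M A A') (hn : 3 ≤ n) (hcard : Fintype.card F = Fintype.card K ^ 2) (hσ1 : σ ≠ 1)
    {g : GUn} {τ : F ≃+* F} (hodd : Odd (orderOf (dia g * fld τ : MulAut PSUn)))
    (hc : dia g * fld τ * (dia G * fld σ) = dia G * fld σ * (dia g * fld τ : MulAut PSUn))
    (hτ : ∀ b, τ (j b) = j b)
    (hoff : ∀ a b, a ≠ b → ((M⁻¹ * g.1 * AutPSL.galGL τ M : GLn) : Mat) a b = 0)
    (hpair : ∀ x, ∃ y, A x y ≠ 0 ∧ ((M⁻¹ * g.1 * AutPSL.galGL τ M : GLn) : Mat) x x =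
      ((M⁻¹ * g.1 * AutPSL.galGL τ M : GLn) : Mat) y y) :
    (dia g * fld τ : MulAut PSUn) = 1 := by
  classical
  haveI : Fact (Nat.Prime 2) := ⟨Nat.prime_two⟩
  have hτ1 : τ = 1 := by
    obtain ⟨i, hi⟩ := CoreCriterion.mem_zpowers_of_fix hcard hσ1 (fun t => (m.fix _).mpr ⟨t, rfl⟩) hτ
    change σ ^ i = τ at hi
    have h2 : τ ^ 2 = 1 := by
      rw [← hi, ← zpow_natCast, ← _root_.zpow_mul, mul_comm, _root_.zpow_mul, zpow_natCast, sq, m.two, _root_.one_zpow]
    have hk : τ ^ orderOf (dia g * fld τ : MulAut PSUn) = 1 := by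
      have h1 := pow_orderOf_eq_one (dia g * fld τ : MulAut PSUn)
      rw [dia_mul_fld_pow] at h1
      exact (eq_one_of_param hF p hn h1).1
    exact orderOf_eq_one_iff.mp (Nat.eq_one_of_dvd_coprimes (Nat.coprime_two_left.mpr hodd)
      (orderOf_dvd_of_pow_eq_one h2) (orderOf_dvd_of_pow_eq_one hk))
  subst hτ1
  rw [map_one fld, mul_one] at hc hodd ⊢
  rw [show AutPSL.galGL (1 : F ≃+* F) M = M from Units.ext (Matrix.ext fun a b => rfl)] at hoff hpair
  obtain ⟨z, hz⟩ := commute_graph hF p hn hc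
  obtain ⟨l, hl⟩ := m.twist
  obtain ⟨κ, hκ, hform⟩ := m.form
  set h' := M⁻¹ * g.1 * M with hh'
  have hz' : g.1 * G.1 = sc z.1 * (G.1 * AutPSL.galGL σ g.1) := congrArg Subtype.val hz
  have hσg : AutPSL.galGL σ g.1 =
      sc z.1⁻¹ * (AutPSL.galGL σ M * M⁻¹ * g.1 * M * (AutPSL.galGL σ M)⁻¹) := by
    rw [map_inv, eq_inv_mul_iff_mul_eq, ← mul_right_inj G.1, ← mul_assoc, ← sc_comm, mul_assoc, ← hz', hl]
    simp only [mul_assoc, inv_mul_cancel_left]
    rw [← mul_assoc g.1, ← sc_comm]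
    group
  have hfix : AutPSL.galGL σ h' = sc z.1⁻¹ * h' := by
    rw [hh', map_mul, map_mul, hσg, map_inv, ← mul_assoc ((AutPSL.galGL σ M)⁻¹) (sc z.1⁻¹), ← sc_comm z.1⁻¹]
    group
  have hU := (mem_GU_iff hF g.1).mp g.2
  rw [m.map_conj hF, ← AutPSL.galGL_coe] at hU
  have e : (h' : Mat)ᵀ * ((M : Mat)ᵀ * (AutPSL.galGL σ M : GLn)) * (AutPSL.galGL σ h' : GLn) =
      (M : Mat)ᵀ * (AutPSL.galGL σ M : GLn) := by
    have e1 : (h' : Mat)ᵀ * (M : Mat)ᵀ = (M : Mat)ᵀ * (g.1 : Mat)ᵀ := by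
      rw [← Matrix.transpose_mul, ← Matrix.transpose_mul, ← Units.val_mul, ← Units.val_mul, hh']
      congr 2
      group
    have e2 : ((AutPSL.galGL σ M : GLn) : Mat) * (AutPSL.galGL σ h' : GLn) =
        (AutPSL.galGL σ g.1 : GLn) * (AutPSL.galGL σ M : GLn) := by
      rw [← Units.val_mul, ← Units.val_mul, ← map_mul, ← map_mul, hh']
      congr 2
      group
    calc _ = ((h' : Mat)ᵀ * (M : Mat)ᵀ) * (((AutPSL.galGL σ M : GLn) : Mat) * (AutPSL.galGL σ h' : GLn)) := by
          simp only [mul_assoc]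
      _ = (M : Mat)ᵀ * ((g.1 : Mat)ᵀ * (AutPSL.galGL σ g.1 : GLn)) * (AutPSL.galGL σ M : GLn) := by
          rw [e1, e2]; simp only [mul_assoc]
      _ = _ := by rw [hU, mul_one]
  rw [AutPSL.galGL_coe σ M, hform, hfix,
    show ((sc z.1⁻¹ * h' : GLn) : Mat) = ((z.1⁻¹ : Fˣ) : F) • (h' : Mat) from sc_coe_mul z.1⁻¹ (h' : Mat)] at e
  have hsq : ∀ x, (h' : Mat) x x * (h' : Mat) x x = ((z : Fˣ) : F) := by
    intro x
    obtain ⟨y, hy, hxy⟩ := hpair x
    have h1 := congrFun (congrFun e x) y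
    rw [Matrix.mul_smul, Matrix.mul_smul, Matrix.smul_mul, Matrix.smul_apply, Matrix.smul_apply, Matrix.smul_apply,
      Matrix.mul_apply, Finset.sum_eq_single y (fun k _ hk => by rw [hoff k y hk, mul_zero]) (by simp),
      Matrix.mul_apply, Finset.sum_eq_single x
        (fun k _ hk => by rw [Matrix.transpose_apply, hoff k x hk, zero_mul]) (by simp),
      Matrix.transpose_apply, Matrix.map_apply, smul_eq_mul, smul_eq_mul, smul_eq_mul, ← hxy] at h1
    have hjy : j (A x y) ≠ 0 := (map_ne_zero_iff _ (RingHom.injective _)).mpr hy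
    have hzz : ((z.1⁻¹ : Fˣ) : F) * ((z : Fˣ) : F) = 1 := by simp
    refine mul_right_cancel₀ (mul_ne_zero hκ hjy) ?_
    calc (h' : Mat) x x * (h' : Mat) x x * (κ * j (A x y)) =
        (κ * ((h' : Mat) x x * j (A x y) * ((z.1⁻¹ : Fˣ) : F)) * (h' : Mat) x x) * ((z : Fˣ) : F) := by
          linear_combination -(h' : Mat) x x * (h' : Mat) x x * κ * j (A x y) * hzz
      _ = _ := by linear_combination ((z : Fˣ) : F) * h1
  have hg2 : h' * h' = sc z.1 := by
    refine Units.ext ?_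
    show (h' : Mat) * (h' : Mat) = Matrix.scalar (Fin n) ((z : Fˣ) : F)
    ext a b
    rw [Matrix.mul_apply, Finset.sum_eq_single a (fun k _ hk => by rw [hoff a k hk.symm, zero_mul]) (by simp),
      Matrix.scalar_apply]
    rcases eq_or_ne a b with rfl | hab
    · rw [hsq, Matrix.diagonal_apply_eq]
    · rw [hoff a b hab, mul_zero, Matrix.diagonal_apply_ne _ hab]
  have hg3 : g * g = scU z := by
    refine Subtype.ext ?_
    show g.1 * g.1 = sc z.1
    rw [show g.1 = M * h' * M⁻¹ by rw [hh']; group,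
      show M * h' * M⁻¹ * (M * h' * M⁻¹) = M * (h' * h') * M⁻¹ by group, hg2, ← sc_comm]
    group
  have h2 : (dia g : MulAut PSUn) ^ 2 = 1 := by rw [sq, ← map_mul, hg3, dia_scU]
  exact orderOf_eq_one_iff.mp (Nat.eq_one_of_dvd_coprimes (Nat.coprime_two_left.mpr hodd)
    (orderOf_dvd_of_pow_eq_one h2) dvd_rfl)

end Model

end Cfsg.Agent.Lib.Classical.AutPSU
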