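import Cfsg.Agent.Lib.Classical.AutPSU.Main

/-!
The named kinds of automorphisms of `PSU_n(q)` in terms of `dia` and `fld`.
-/

set_option autoImplicit false

namespace Cfsg.Agent.Lib.Classical.AutPSU

open Matrix
open Cfsg.Agent.Lib.Classical

variable {F : Type*} [Field F] {q n : ℕ}

set_option quotPrecheck false in
local notation "SUn" => Subtype (fun A => A ∈ Cfsg.SU n F q)
set_option quotPrecheck false in
local notation "GUn" => Subtype (fun A => A ∈ Cfsg.GU n F q)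
set_option quotPrecheck false in
local notation "PSUn" => Cfsg.PSU n F q

theorem isInnerDiagonal_dia (g : GUn) : Cfsg.IsInnerDiagonalAutPSU (dia g : MulAut PSUn) :=
  ⟨g.1, g.2, fun s s' e => by
    show dia g (pr s) = pr s'
    rw [dia_pr]
    exact congrArg pr (Subtype.ext (Subtype.ext e.symm))⟩

theorem mem_range_of_isInnerDiagonal {β : MulAut PSUn} (h : Cfsg.IsInnerDiagonalAutPSU β) :
    β ∈ (dia (F := F) (q := q) (n := n)).range := by
  obtain ⟨g, hg, h⟩ := h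
  refine ⟨⟨g, hg⟩, MulEquiv.ext fun x => ?_⟩
  obtain ⟨s, rfl⟩ := pr_surjective x
  rw [dia_pr]
  exact (h s (conjSU ⟨g, hg⟩ s) rfl).symm

theorem inndiag_eq : Cfsg.inndiagPSU n F q = (dia (F := F) (q := q) (n := n)).range := by
  refine le_antisymm ?_ ?_
  · rw [Cfsg.inndiagPSU, Cfsg.autSubgroupOf, Subgroup.closure_le]
    exact fun β hβ => mem_range_of_isInnerDiagonal hβ
  · rintro _ ⟨g, rfl⟩
    exact Subgroup.subset_closure (isInnerDiagonal_dia g)

theorem isFieldAutOf_fld (σ : F ≃+* F) : Cfsg.IsFieldAutPSUOf σ (fld σ : MulAut PSUn) := fun s s' e => by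
  show fld σ (pr s) = pr s'
  rw [fld_pr]
  exact congrArg pr (Subtype.ext (Subtype.ext e.symm))

theorem eq_fld_of_isFieldAutOf {σ : F ≃+* F} {β : MulAut PSUn} (h : Cfsg.IsFieldAutPSUOf σ β) :
    β = fld σ := by
  refine MulEquiv.ext fun x => ?_
  obtain ⟨s, rfl⟩ := pr_surjective x
  rw [fld_pr]
  exact h s (mapSU σ s) rfl

theorem inn_le_range : Cfsg.Inn PSUn ≤ (dia (F := F) (q := q) (n := n)).range := by
  rintro _ ⟨y, rfl⟩
  obtain ⟨s, rfl⟩ := pr_surjective y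
  exact ⟨suG s, dia_suG s⟩

variable [Fintype F] (hF : Fintype.card F = q ^ 2) (p : ℕ) [Fact p.Prime] [CharP F p]

include hF p in
theorem gammaPSU_eq_top (hn : 3 ≤ n) (h32 : ¬ (n = 3 ∧ q = 2)) : Cfsg.gammaPSU n F q = ⊤ := by
  refine (Subgroup.eq_top_iff' _).mpr fun β => ?_
  obtain ⟨g, σ, rfl⟩ := decomposition hF p hn h32 β
  exact Subgroup.subset_closure ⟨g.1, σ, g.2, isInduced_dia_fld g σ⟩

include hF p in
theorem exists_inndiag_field (hn : 3 ≤ n) (h32 : ¬ (n = 3 ∧ q = 2)) (β : MulAut PSUn) :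
    ∃ (δ φ : MulAut PSUn) (σ : F ≃+* F),
      Cfsg.IsInnerDiagonalAutPSU δ ∧ Cfsg.IsFieldAutPSUOf σ φ ∧ β = δ * φ := by
  obtain ⟨g, σ, rfl⟩ := decomposition hF p hn h32 β
  exact ⟨_, _, σ, isInnerDiagonal_dia g, isFieldAutOf_fld σ, rfl⟩

end Cfsg.Agent.Lib.Classical.AutPSU
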