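import Cfsg.Agent.Lib.Classical.AutPSU.Semilinear
import Cfsg.Agent.Lib.Classical.AutPSU.Hua

/-!
Automorphisms of `PSU_n(q)`, part 6: every automorphism is inner-diagonal times field.
-/

set_option autoImplicit false

namespace Cfsg.Agent.Lib.Classical.AutPSU

open Matrix
open Cfsg.Agent.Lib.Geometry (exists_mul_conj_eq exists_add_conj_eq)
open Cfsg.Agent.Lib.Classical

variable {F : Type*} [Field F] [Fintype F] {q n : ℕ} (hF : Fintype.card F = q ^ 2)

set_option quotPrecheck false in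
local notation "SUn" => Subtype (fun A => A ∈ Cfsg.SU n F q)
set_option quotPrecheck false in
local notation "GUn" => Subtype (fun A => A ∈ Cfsg.GU n F q)
set_option quotPrecheck false in
local notation "Vn" => (Fin n → F)
set_option quotPrecheck false in
local notation "Mat" => Matrix (Fin n) (Fin n) F
set_option quotPrecheck false in
local notation "PSUn" => Cfsg.PSU n F q
set_option quotPrecheck false in
local notation "B" => hermBilin hF n
set_option quotPrecheck false in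
local notation "σq" => conjHom hF

variable (p : ℕ) [Fact p.Prime] [CharP F p]

omit [Fact p.Prime] [CharP F p] in
/-- Automorphisms agreeing on the transvections with centre not orthogonal to `e` are equal. -/
theorem eq_of_agree_pt {e f : Vn} {w : Fin (n - 2) → Vn} (hΦ : Frame hF e f w) (hn : 3 ≤ n)
    (h32 : ¬ (n = 3 ∧ q = 2)) {α β : MulAut PSUn}
    (h : ∀ x a c, InW hF e f x → Adm hF x a → σq c = -c →
      α (tau (pt e f x a) c) = β (tau (pt e f x a) c)) : α = β := by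
  have hoff : ∀ v c, B v v = 0 → B e v ≠ 0 → σq c = -c → α (tau v c) = β (tau v c) := by
    intro v c hv hev hc
    set s := B e v with hs
    obtain ⟨x, a, hx, ha, e1⟩ := pt_cover hF hΦ (z := s⁻¹ • v) (by rw [form_smul_smul, hv, mul_zero])
      (by rw [map_smul, smul_eq_mul, inv_mul_cancel₀ hev])
    have e2 : v = s • pt e f x a := by rw [← e1, smul_inv_smul₀ hev]
    rw [e2, tau_smul hF s (pt_self hF hΦ hx ha) hc]
    exact h x a _ hx ha (skew_mul_fixed hF hc (norm_fixed hF s))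
  refine mulAut_ext hF hn h32 fun v c hv0 hv hc => ?_
  by_cases hev : B e v = 0
  swap
  · exact hoff v c hv hev hc
  obtain ⟨k, hk0, hk⟩ := exists_skew hF
  have hnk : σq (-k) = -(-k) := by rw [map_neg, hk]
  obtain ⟨x, a, hx, ha, hP⟩ : ∃ x a, InW hF e f x ∧ Adm hF x a ∧ B (pt e f x a) v ≠ 0 := by
    by_cases hfv : B f v = 0
    · have hW : InW hF e f v := ⟨hev, hfv⟩
      obtain ⟨i, hi⟩ : ∃ i, B (w i) v ≠ 0 := by
        by_contra hcon
        push Not at hcon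
        apply hv0
        rw [← inW_expand hF hΦ (by omega) hW]
        exact Finset.sum_eq_zero fun i _ => by rw [hcon i, zero_smul]
      obtain ⟨a, ha⟩ := exists_adm hF (w i)
      refine ⟨w i, a, inW_w hF hΦ i, ha, ?_⟩
      simpa [pt, hev, hfv] using hi
    · exact ⟨0, 0, inW_zero hF e f, adm_zero hF, by rwa [pt_zero]⟩
  set P := pt e f x a
  have hPP : B P P = 0 := pt_self hF hΦ hx ha
  set z := v + (-k * B P v) • P with hz
  have hzz : B z z = 0 := by rw [hz, ← uT_mulVec hF hPP hnk, su_form, hv]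
  have hze : B e z ≠ 0 := by
    rw [hz, map_add, map_smul, hev, form_e_pt hF hΦ hx, smul_eq_mul, mul_one, zero_add]
    exact mul_ne_zero (neg_ne_zero.mpr hk0) hP
  have e1 : tau (q := q) v c = tau P k * tau z c * (tau (q := q) P k)⁻¹ := by
    rw [show tau (q := q) P k = pr (uT P k) from rfl, tau_conj hF _ hzz hc, uT_mulVec hF hPP hk]
    congr 1
    rw [hz, map_add, map_smul, hPP, smul_zero, add_zero, add_assoc, ← add_smul, neg_mul, neg_add_cancel,
      zero_smul, add_zero]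
  rw [e1, map_mul, map_mul, map_inv, map_mul, map_mul, map_inv, h x a k hx ha hk, hoff z c hzz hze hc]

include p in
/-- Normalisation by a semilinear automorphism. -/
theorem exists_norm {e f : Vn} {w : Fin (n - 2) → Vn} (hΦ : Frame hF e f w) (hn : 3 ≤ n)
    (β : MulAut PSUn) : ∃ γ : MulAut PSUn, IsSemi γ ∧ Norm hF e f (γ * β) := by
  classical
  have hn1 : 1 ≤ n := by omega
  obtain ⟨he0, hf0⟩ := ne_zero_of_herm hF hΦ.ef
  obtain ⟨a, ha⟩ := img_exists hF p hn β he0 hΦ.ee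
  obtain ⟨b, hb⟩ := img_exists hF p hn β hf0 hΦ.ff
  have hab : B a b ≠ 0 := fun h => one_ne_zero (hΦ.ef.symm.trans ((img_orth hF p hn1 ha hb).mpr h))
  have hb' := img_smul hF hb (inv_ne_zero hab)
  obtain ⟨S, ⟨x₁, hx₁⟩, x₂, hx₂⟩ := exists_SU_nonperp hF hΦ.ee hΦ.ff hΦ.ef ha.2.1.2 hb'.2.1.2
    (by rw [map_smul, smul_eq_mul, inv_mul_cancel₀ hab])
  rw [mulVec_eq_smul] at hx₁ hx₂
  have hx₁0 : x₁ ≠ 0 := fun h => mulVec_ne_zero' S he0 (by show mat S *ᵥ e = 0; rw [hx₁, h, zero_smul])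
  have hx₂0 : x₂ ≠ 0 := fun h => mulVec_ne_zero' S hf0 (by show mat S *ᵥ f = 0; rw [hx₂, h, zero_smul])
  set β₁ := dia (suG S⁻¹) * β with hβ₁
  have i1 : Img hF β₁ e e := by
    have h1 := img_smul hF (img_dia hF ha (suG S⁻¹)) hx₁0
    rw [suG_coe, ← Matrix.mulVec_smul, ← hx₁, inv_mulVec_cancel] at h1
    exact h1
  have i2 : Img hF β₁ f f := by
    have h1 := img_smul hF (img_dia hF hb' (suG S⁻¹)) hx₂0
    rw [suG_coe, ← Matrix.mulVec_smul, ← hx₂, inv_mulVec_cancel] at h1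
    exact h1
  obtain ⟨-, -, φ, hφb, hφ⟩ := i1
  obtain ⟨-, -, ψ, hψb, hψ⟩ := i2
  obtain ⟨hφ0, hφadd⟩ := img_phi hF p hn1 hΦ.ee he0 hΦ.ee hφb.mapsTo hφ
  obtain ⟨hψ0, hψadd⟩ := img_phi hF p hn1 hΦ.ff hf0 hΦ.ff hψb.mapsTo hψ
  have i1 : Img hF β₁ e e := ⟨⟨he0, hΦ.ee⟩, ⟨he0, hΦ.ee⟩, φ, hφb, hφ⟩
  have i2 : Img hF β₁ f f := ⟨⟨hf0, hΦ.ff⟩, ⟨hf0, hΦ.ff⟩, ψ, hψb, hψ⟩
  have hrel : ∀ k, k ≠ 0 → σq k = -k → ψ k * φ k⁻¹ = 1 := by
    intro k hk0 hk
    have hki : σq k⁻¹ = -k⁻¹ := by rw [map_inv₀, hk, inv_neg]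
    have h1 := img_smulL hF (img_conj hF hΦ.ff hΦ.ff hk (hψb.mapsTo hk) (hψ k hk) i1) (inv_ne_zero hk0)
    have h2 := img_conj hF hΦ.ee hΦ.ee hki (hφb.mapsTo hki) (hφ _ hki) i2
    rw [hΦ.fe, mul_one, mul_one, smul_add, inv_smul_smul₀ hk0, add_comm] at h1
    rw [hΦ.ef, mul_one, mul_one] at h2
    obtain ⟨r, -, hr⟩ := img_unique hF p hn1 h2 h1
    have h3 := congrArg (B e) hr
    have h4 := congrArg (B f) hr
    simp only [map_add, map_smul, hΦ.ee, hΦ.ef, hΦ.fe, hΦ.ff, smul_eq_mul, mul_zero, mul_one, zero_add,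
      add_zero] at h3 h4
    subst h3
    exact h4.symm
  obtain ⟨k₀, hk₀0, hk₀⟩ := exists_skew hF
  set c₀ := φ k₀ with hc₀def
  have hc₀ : σq c₀ = -c₀ := hφb.mapsTo hk₀
  have hc₀0 : c₀ ≠ 0 := fun h => hk₀0 (hφb.injOn hk₀ (by simp) (h.trans hφ0.symm))
  let L : Subfield F := RingHom.eqLocusField σq (RingHom.id F)
  have hmem : ∀ t : L, σq (t : F) = t := fun t => t.2
  have hsk : ∀ t : L, σq (k₀ * (t : F)) = -(k₀ * t) := fun t => skew_mul_fixed hF hk₀ (hmem t)
  let φ₀ : L → L := fun t => ⟨φ (k₀ * t) / c₀, by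
    show σq _ = _
    rw [map_div₀, hφb.mapsTo (hsk t), hc₀, neg_div_neg_eq]
    rfl⟩
  have hsk' : ∀ t : L, σq ((t : F) / k₀) = -((t : F) / k₀) := fun t => by
    rw [map_div₀, hmem t, hk₀, div_neg]
  have hη : ∀ t : L, (((φ₀ t⁻¹)⁻¹ : L) : F) = c₀ * ψ ((t : F) / k₀) := by
    intro t
    show (φ (k₀ * ((t⁻¹ : L) : F)) / c₀)⁻¹ = _
    by_cases ht : (t : F) = 0
    · rw [Subfield.coe_inv, ht, _root_.inv_zero, mul_zero, hφ0, zero_div, _root_.inv_zero, zero_div, hψ0, mul_zero]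
    · have h1 := hrel _ (div_ne_zero ht hk₀0) (hsk' t)
      rw [inv_div] at h1
      rw [Subfield.coe_inv, ← div_eq_mul_inv, inv_div, div_eq_mul_inv, eq_inv_of_mul_eq_one_left h1]
  obtain ⟨ρ, hρ⟩ := exists_ringHom_of_hua (φ := φ₀)
    (fun a b => Subtype.ext (by
      show φ (k₀ * ((a : F) + b)) / c₀ = φ (k₀ * a) / c₀ + φ (k₀ * b) / c₀
      rw [mul_add, hφadd _ _ (hsk a) (hsk b), add_div]))
    (Subtype.ext (by
      show φ (k₀ * 1) / c₀ = 1
      rw [mul_one, ← hc₀def, div_self hc₀0]))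
    (fun a b h => by
      have h1 : φ (k₀ * a) / c₀ = φ (k₀ * b) / c₀ := congrArg Subtype.val h
      exact Subtype.ext (mul_left_cancel₀ hk₀0 (hφb.injOn (hsk a) (hsk b) ((div_left_inj' hc₀0).mp h1))))
    (fun a b => Subtype.ext (by
      rw [Subfield.coe_add, hη, hη, hη, Subfield.coe_add, add_div, hψadd _ _ (hsk' a) (hsk' b), mul_add]))
  haveI : CharP L p := (RingHom.charP_iff (Subfield.subtype L) Subtype.val_injective p).mpr inferInstance
  obtain ⟨j, hj⟩ := exists_frobenius_pow p ρ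
  haveI : ExpChar F p := ExpChar.prime Fact.out
  let τ : F ≃+* F := (iterateFrobeniusEquiv F p j).symm
  have hτ : ∀ t : L, τ ((ρ t : L) : F) = t := fun t => by
    rw [hj]
    exact (iterateFrobeniusEquiv F p j).symm_apply_apply (t : F)
  obtain ⟨g, hge, hgf, -⟩ := Frame.exists_map hF (by omega) (Frame.map hF hΦ τ) hΦ
  set β₂ := dia g * (fld τ * β₁) with hβ₂
  have j1 : Img hF β₂ e e := by
    have := img_dia hF (img_fld hF i1 τ) g
    rwa [hge] at this
  have j2 : Img hF β₂ f f := by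
    have := img_dia hF (img_fld hF i2 τ) g
    rwa [hgf] at this
  have hτk : σq (τ c₀) = -τ c₀ := by rw [conj_comm, hc₀, map_neg]
  have hval : ∀ t : L, β₂ (tau e (k₀ * (t : F))) = tau e (τ c₀ * t) := by
    intro t
    have hm : σq (φ (k₀ * (t : F))) = -φ (k₀ * t) := hφb.mapsTo (hsk t)
    rw [hβ₂, MulAut.mul_apply, MulAut.mul_apply, hφ _ (hsk t), fld_tau hF τ hΦ.ee hm,
      dia_tau hF g (by rw [form_map, hΦ.ee, map_zero]) (by rw [conj_comm, hm, map_neg]), hge]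
    congr 1
    rw [show φ (k₀ * (t : F)) = c₀ * ((ρ t : L) : F) by
      rw [hρ]; show _ = c₀ * (φ (k₀ * t) / c₀); rw [mul_div_cancel₀ _ hc₀0], map_mul, hτ]
  have hτ0 : τ c₀ ≠ 0 := fun h => hc₀0 (τ.injective (h.trans (map_zero τ).symm))
  obtain ⟨l, hl⟩ := exists_mul_conj_eq (conjHom_ne_id hF) (conjHom_conjHom hF)
    (s := k₀ / τ c₀) (by rw [map_div₀, hk₀, hτk, neg_div_neg_eq])
  have hl0 : l ≠ 0 := fun h => by
    rw [h, map_zero, zero_mul] at hl
    exact div_ne_zero hk₀0 hτ0 hl.symm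
  have hl' : σq l ≠ 0 := (map_ne_zero_iff _ (RingHom.injective _)).mpr hl0
  have hΨ : Frame hF (l • e) ((σq l)⁻¹ • f) w :=
    { ee := by simp [hΦ.ee]
      ff := by simp [hΦ.ff]
      ef := by simp [hΦ.ef, hl']
      ew := fun i => by simp [hΦ.ew]
      fw := fun i => by simp [hΦ.fw]
      ww := hΦ.ww }
  obtain ⟨h, hhe, hhf, -⟩ := Frame.exists_map hF (by omega) hΦ hΨ
  refine ⟨dia h * dia g * fld τ * dia (suG S⁻¹),
    (((IsSemi.of_dia h).mul (IsSemi.of_dia g)).mul (IsSemi.of_fld τ)).mul (IsSemi.of_dia _), ?_⟩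
  rw [show dia h * dia g * fld τ * dia (suG S⁻¹) * β = dia h * β₂ by rw [hβ₂, hβ₁]; group]
  refine ⟨?_, ?_, fun j hj => ?_⟩
  · have h1 := img_smul hF (img_dia hF j1 h) (inv_ne_zero hl0)
    rwa [hhe, inv_smul_smul₀ hl0] at h1
  · have h1 := img_smul hF (img_dia hF j2 h) hl'
    rwa [hhf, smul_inv_smul₀ hl'] at h1
  · have hjL : σq (j / k₀) = j / k₀ := by rw [map_div₀, hj, hk₀, neg_div_neg_eq]
    have e0 : j = k₀ * ((⟨j / k₀, hjL⟩ : L) : F) := by
      show j = k₀ * (j / k₀)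
      rw [mul_div_cancel₀ _ hk₀0]
    conv_lhs => rw [e0]
    rw [MulAut.mul_apply, hval, dia_tau hF h hΦ.ee (skew_mul_fixed hF hτk hjL), hhe,
      tau_smul hF l hΦ.ee (skew_mul_fixed hF hτk hjL)]
    congr 1
    show τ c₀ * (j / k₀) * (l * σq l) = j
    rw [mul_comm l, hl]
    field_simp

include hF p in
/-- **Every automorphism of `PSU_n(q)` is induced by a semilinear map.** -/
theorem decomposition (hn : 3 ≤ n) (h32 : ¬ (n = 3 ∧ q = 2)) (β : MulAut PSUn) : IsSemi β := by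
  classical
  obtain ⟨e, f, w, hΦ, -⟩ := exists_frame hF (n := n) (by omega)
  obtain ⟨γ, hγ, hN⟩ := exists_norm hF p hΦ hn β
  obtain ⟨χ, A, D⟩ := exists_data hF hΦ p hn hN
  obtain ⟨θ, ε, hθ, hεσ, hεε, hεK, hχ, hA, hww⟩ := D.semilinear hF hΦ p hn h32 hN.1 hN.2.1
  let τ : F ≃+* F := RingEquiv.ofBijective θ (by
    rcases hθ with rfl | rfl
    · exact Function.bijective_id
    · exact Function.Involutive.bijective (conjHom_conjHom hF))
  obtain ⟨μ, hμ⟩ := exists_mul_conj_eq (conjHom_ne_id hF) (conjHom_conjHom hF) (s := ε) hεσ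
  have hW := inW_w hF hΦ
  have hχW := fun i => D.mapW _ (hW i)
  have hΨ : Frame hF ((ε * μ) • e) (μ • f) (fun i => μ • χ (w i)) :=
    { ee := by simp [hΦ.ee]
      ff := by simp [hΦ.ff]
      ef := by simp [hΦ.ef, hεσ]; linear_combination hεε + ε * hμ
      ew := fun i => by simp [(hχW i).1]
      fw := fun i => by simp [(hχW i).2]
      ww := fun i j => by
        rw [form_smul_smul, hww]
        split_ifs
        · linear_combination hεε + ε * hμ
        · rw [mul_zero] }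
  obtain ⟨g, hge, hgf, hgw⟩ := Frame.exists_map hF (by omega) (Frame.map hF hΦ τ) hΨ
  suffices γ * β = dia g * fld τ by
    have h2 : β = γ⁻¹ * (dia g * fld τ) := by rw [← this, inv_mul_cancel_left]
    rw [h2]
    exact hγ.inv.mul ((IsSemi.of_dia g).mul (IsSemi.of_fld τ))
  refine eq_of_agree_pt hF hΦ hn h32 fun x a c hx ha hc => ?_
  have hP := pt_self hF hΦ hx ha
  rw [D.map x a c hx ha hc, MulAut.mul_apply, fld_tau hF τ hP hc,
    dia_tau hF g (by rw [form_map, hP, map_zero]) (by rw [conj_comm, hc, map_neg])]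
  have hvec : (g.1 : Mat) *ᵥ (fun i => τ (pt e f x a i)) = μ • pt e f (χ x) (A x a) := by
    have e1 : pt e f x a = a • e + (1 : F) • f + ∑ i, B (w i) x • w i := by
      rw [inW_expand hF hΦ (by omega) hx, pt, one_smul]; abel
    rw [e1, frame_map_apply, Matrix.mulVec_add, Matrix.mulVec_add, Matrix.mulVec_smul, Matrix.mulVec_smul,
      Matrix.mulVec_sum, hge, hgf, map_one, one_smul, hA x a hx ha, hχ x hx, pt, smul_add, smul_add,
      Finset.smul_sum, smul_smul, smul_smul]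
    simp only [Matrix.mulVec_smul, hgw, smul_smul]
    rw [show τ a * (ε * μ) = μ * (ε * θ a) by show θ a * (ε * μ) = _; ring]
    have : ∀ i, τ (B (w i) x) * μ = μ * θ (B (w i) x) := fun i => mul_comm _ _
    simp only [this]
    abel
  have hτc : σq (τ c) = -τ c := by rw [conj_comm, hc, map_neg]
  rw [hvec, tau_smul hF μ (pt_self hF hΦ (D.mapW x hx) (D.adm x a hx ha)) hτc]
  congr 1
  rw [mul_comm μ, hμ, mul_comm]
  exact (hεK c hc).symm

end Cfsg.Agent.Lib.Classical.AutPSU
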