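import Cfsg.Agent.Lib.Classical.AutPSU.Frame

/-!
Automorphisms of `PSU_n(q)`, part 4: the map induced on the isotropic points not orthogonal to a
fixed one.
-/

set_option autoImplicit false

namespace Cfsg.Agent.Lib.Classical.AutPSU

open Matrix
open Cfsg.Agent.Lib.Geometry (exists_mul_conj_eq exists_add_conj_eq)
open Cfsg.Agent.Lib.Classical

variable {F : Type*} [Field F] [Fintype F] {q n : ℕ} (hF : Fintype.card F = q ^ 2)

set_option quotPrecheck false in
local notation "SUn" => Subtype (fun A => A ∈ Cfsg.SU n F q)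
set_option quotPrecheck false in
local notation "Vn" => (Fin n → F)
set_option quotPrecheck false in
local notation "PSUn" => Cfsg.PSU n F q
set_option quotPrecheck false in
local notation "B" => hermBilin hF n
set_option quotPrecheck false in
local notation "σq" => conjHom hF

/-- Orthogonal to the hyperbolic pair. -/
def InW (e f x : Fin n → F) : Prop := hermBilin hF n e x = 0 ∧ hermBilin hF n f x = 0

/-- The admissible last coordinates over `x`. -/
def Adm (x : Fin n → F) (a : F) : Prop := conjHom hF a + a + hermBilin hF n x x = 0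

/-- The isotropic points not orthogonal to `e`. -/
def pt (e f x : Fin n → F) (a : F) : Fin n → F := f + x + a • e

/-- `β` fixes the two transvection groups of the pair, the first one pointwise. -/
def Norm (e f : Fin n → F) (β : MulAut (Cfsg.PSU n F q)) : Prop :=
  Img hF β e e ∧ Img hF β f f ∧ ∀ j, conjHom hF j = -j → β (tau e j) = tau e j

/-- The coordinates of the map induced on points. -/
structure Data (e f : Fin n → F) (β : MulAut (Cfsg.PSU n F q)) (χ : (Fin n → F) → Fin n → F)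
    (A : (Fin n → F) → F → F) : Prop where
  mapW : ∀ x, InW hF e f x → InW hF e f (χ x)
  adm : ∀ x a, InW hF e f x → Adm hF x a → Adm hF (χ x) (A x a)
  map : ∀ x a c, InW hF e f x → Adm hF x a → conjHom hF c = -c →
    β (tau (pt e f x a) c) = tau (pt e f (χ x) (A x a)) c
  shift : ∀ x a j, InW hF e f x → Adm hF x a → conjHom hF j = -j → A x (a + j) = A x a + j
  zero : χ 0 = 0
  zero' : A 0 0 = 0

theorem exists_adm (x : Vn) : ∃ a, Adm hF x a := by
  obtain ⟨c, hc⟩ := exists_add_conj_eq (conjHom_ne_id hF) (conjHom_conjHom hF)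
    (s := -B x x) (by rw [map_neg, form_self_conj])
  exact ⟨c, by show σq c + c + B x x = 0; linear_combination hc⟩

theorem adm_add {x : Vn} {a j : F} (ha : Adm hF x a) (hj : σq j = -j) : Adm hF x (a + j) := by
  show σq (a + j) + (a + j) + B x x = 0
  have ha' : σq a + a + B x x = 0 := ha
  rw [map_add, hj]
  linear_combination ha'

theorem adm_sub {x : Vn} {a b : F} (ha : Adm hF x a) (hb : Adm hF x b) : σq (b - a) = -(b - a) := by
  have ha' : σq a + a + B x x = 0 := ha
  have hb' : σq b + b + B x x = 0 := hb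
  rw [map_sub]
  linear_combination hb' - ha'

theorem adm_zero : Adm hF (0 : Vn) 0 := by simp [Adm]

theorem inW_zero (e f : Vn) : InW hF e f 0 := ⟨map_zero _, map_zero _⟩

theorem InW.add {e f x y : Vn} (h : InW hF e f x) (h' : InW hF e f y) : InW hF e f (x + y) :=
  ⟨by rw [map_add, h.1, h'.1, add_zero], by rw [map_add, h.2, h'.2, add_zero]⟩

theorem InW.smul {e f x : Vn} (h : InW hF e f x) (a : F) : InW hF e f (a • x) :=
  ⟨by rw [map_smul, h.1, smul_zero], by rw [map_smul, h.2, smul_zero]⟩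

theorem InW.sub {e f x y : Vn} (h : InW hF e f x) (h' : InW hF e f y) : InW hF e f (x - y) :=
  ⟨by rw [map_sub, h.1, h'.1, sub_zero], by rw [map_sub, h.2, h'.2, sub_zero]⟩

theorem pt_zero (e f : Vn) : pt e f (0 : Vn) (0 : F) = f := by simp [pt]

section

variable {k : ℕ} {e f : Fin n → F} {w : Fin k → Fin n → F} (hΦ : Frame hF e f w)
include hΦ

theorem e_ne_zero : e ≠ 0 ∧ f ≠ 0 := ne_zero_of_herm hF hΦ.ef

theorem form_e_pt {x : Vn} (hx : InW hF e f x) (a : F) : B e (pt e f x a) = 1 := by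
  rw [pt, map_add, map_add, map_smul, hΦ.ef, hx.1, hΦ.ee, smul_zero, add_zero, add_zero]

theorem form_f_pt {x : Vn} (hx : InW hF e f x) (a : F) : B f (pt e f x a) = a := by
  rw [pt, map_add, map_add, map_smul, hΦ.ff, hx.2, hΦ.fe, smul_eq_mul, mul_one, add_zero, zero_add]

theorem form_pt_e {x : Vn} (hx : InW hF e f x) (a : F) : B (pt e f x a) e = 1 := by
  rw [← herm_symm hF, form_e_pt hF hΦ hx, map_one]

theorem form_pt {x y : Vn} (hx : InW hF e f x) (hy : InW hF e f y) (a b : F) :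
    B (pt e f x a) (pt e f y b) = b + σq a + B x y := by
  have hxe : B x e = 0 := by rw [← herm_symm hF, hx.1, map_zero]
  have hxf : B x f = 0 := by rw [← herm_symm hF, hx.2, map_zero]
  simp [pt, hΦ.ee, hΦ.ef, hΦ.ff, hΦ.fe, hy.1, hy.2, hxe, hxf]
  ring

theorem pt_self {x : Vn} (hx : InW hF e f x) {a : F} (ha : Adm hF x a) :
    B (pt e f x a) (pt e f x a) = 0 := by
  rw [form_pt hF hΦ hx hx]
  have ha' : σq a + a + B x x = 0 := ha
  linear_combination ha'

theorem adm_of_iso {x : Vn} (hx : InW hF e f x) {a : F} (h : B (pt e f x a) (pt e f x a) = 0) :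
    Adm hF x a := by
  rw [form_pt hF hΦ hx hx] at h
  show σq a + a + B x x = 0
  linear_combination h

theorem pt_ne_zero {x : Vn} (hx : InW hF e f x) (a : F) : pt e f x a ≠ 0 := fun h => by
  have := form_e_pt hF hΦ hx a
  rw [h, map_zero] at this
  exact zero_ne_one this

theorem pt_cover {z : Vn} (hz : B z z = 0) (he : B e z = 1) :
    ∃ x a, InW hF e f x ∧ Adm hF x a ∧ z = pt e f x a := by
  have hx : InW hF e f (z - f - B f z • e) := by
    constructor
    · simp [he, hΦ.ef, hΦ.ee]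
    · simp [hΦ.ff, hΦ.fe]
  have e1 : z = pt e f (z - f - B f z • e) (B f z) := by rw [pt]; abel
  exact ⟨_, _, hx, adm_of_iso hF hΦ hx (by rw [← e1]; exact hz), e1⟩

theorem pt_inj {x y : Vn} (hx : InW hF e f x) (hy : InW hF e f y) {a b : F}
    (h : pt e f x a = pt e f y b) : x = y ∧ a = b := by
  have hab : a = b := by rw [← form_f_pt hF hΦ hx a, h, form_f_pt hF hΦ hy]
  subst hab
  rw [pt, pt, add_left_inj, add_right_inj] at h
  exact ⟨h, rfl⟩

theorem pt_eq_smul {x y : Vn} (hx : InW hF e f x) (hy : InW hF e f y) {a b r : F}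
    (h : pt e f y b = r • pt e f x a) : r = 1 ∧ y = x ∧ b = a := by
  have hr : r = 1 := by
    have := congrArg (B e) h
    rw [map_smul, form_e_pt hF hΦ hx, form_e_pt hF hΦ hy, smul_eq_mul, mul_one] at this
    exact this.symm
  rw [hr, one_smul] at h
  exact ⟨hr, pt_inj hF hΦ hy hx h⟩

variable (p : ℕ) [Fact p.Prime] [CharP F p]

include p in
theorem exists_data (hn : 3 ≤ n) {β : MulAut PSUn} (hβ : Norm hF e f β) :
    ∃ χ A, Data hF e f β χ A := by
  classical
  obtain ⟨hee, hff, hej⟩ := hβ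
  have hn1 : 1 ≤ n := by omega
  obtain ⟨he0, -⟩ := e_ne_zero hF hΦ
  have hex : ∀ x a, InW hF e f x → Adm hF x a →
      ∃ X A', InW hF e f X ∧ Adm hF X A' ∧ Img hF β (pt e f x a) (pt e f X A') := by
    intro x a hx ha
    obtain ⟨z, hz⟩ := img_exists hF p hn β (pt_ne_zero hF hΦ hx a) (pt_self hF hΦ hx ha)
    have hze : B e z ≠ 0 := fun h0 => by
      have h1 := (img_orth hF p hn1 hee hz).mpr h0
      rw [form_e_pt hF hΦ hx] at h1
      exact one_ne_zero h1
    have hz' := img_smul hF hz (inv_ne_zero hze)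
    obtain ⟨X, A', hX, hA', e1⟩ := pt_cover hF hΦ hz'.2.1.2 (by rw [map_smul, smul_eq_mul, inv_mul_cancel₀ hze])
    exact ⟨X, A', hX, hA', e1 ▸ hz'⟩
  have uniq : ∀ {v X X' : Vn} {A₁ A₂ : F}, InW hF e f X → InW hF e f X' →
      Img hF β v (pt e f X A₁) → Img hF β v (pt e f X' A₂) → X' = X ∧ A₂ = A₁ := by
    intro v X X' A₁ A₂ hX hX' h h'
    obtain ⟨r, -, hr⟩ := img_unique hF p hn1 h h'
    exact (pt_eq_smul hF hΦ hX hX' hr).2
  choose X AA hX hA hI using hex
  have hshift : ∀ x a j (hx : InW hF e f x) (ha : Adm hF x a) (hj : σq j = -j),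
      X x (a + j) hx (adm_add hF ha hj) = X x a hx ha ∧
        AA x (a + j) hx (adm_add hF ha hj) = AA x a hx ha + j := by
    intro x a j hx ha hj
    have h1 := img_conj hF hΦ.ee hΦ.ee hj hj (hej j hj) (hI x a hx ha)
    rw [form_e_pt hF hΦ hx, form_e_pt hF hΦ (hX x a hx ha), mul_one,
      show pt e f x a + j • e = pt e f x (a + j) by rw [pt, pt, add_smul]; abel,
      show pt e f (X x a hx ha) (AA x a hx ha) + j • e = pt e f (X x a hx ha) (AA x a hx ha + j) by
        rw [pt, pt, add_smul]; abel] at h1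
    exact uniq (hX x a hx ha) (hX _ _ hx _) h1 (hI x (a + j) hx (adm_add hF ha hj))
  choose a₀ ha₀ using fun x : Vn => exists_adm hF x
  let χ : Vn → Vn := fun x => if hx : InW hF e f x then X x (a₀ x) hx (ha₀ x) else x
  let A : Vn → F → F := fun x a => if h : InW hF e f x ∧ Adm hF x a then AA x a h.1 h.2 else a
  have hχ : ∀ x a (hx : InW hF e f x) (ha : Adm hF x a), χ x = X x a hx ha := by
    intro x a hx ha
    have := (hshift x (a₀ x) (a - a₀ x) hx (ha₀ x) (adm_sub hF (ha₀ x) ha)).1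
    have hc : ∀ a₁ a₂ (e1 : a₁ = a₂) (h₁ : Adm hF x a₁) (h₂ : Adm hF x a₂), X x a₁ hx h₁ = X x a₂ hx h₂ := by
      rintro _ _ rfl _ _; rfl
    simp only [χ, dif_pos hx, ← this]
    exact hc _ _ (add_sub_cancel _ _) _ _
  have hA' : ∀ x a (hx : InW hF e f x) (ha : Adm hF x a), A x a = AA x a hx ha := fun x a hx ha => by
    simp only [A, dif_pos (And.intro hx ha)]
  have hz := uniq (inW_zero hF e f) (hX 0 0 (inW_zero hF e f) (adm_zero hF))
    (by rw [pt_zero]; exact hff) (hI 0 0 (inW_zero hF e f) (adm_zero hF))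
  refine ⟨χ, A, ⟨fun x hx => ?_, fun x a hx ha => ?_, fun x a c hx ha hc => ?_, fun x a j hx ha hj => ?_,
    ?_, ?_⟩⟩
  · simp only [χ, dif_pos hx]; exact hX _ _ _ _
  · rw [hχ x a hx ha, hA' x a hx ha]; exact hA _ _ _ _
  · rw [hχ x a hx ha, hA' x a hx ha]
    obtain ⟨⟨hP0, hP⟩, ⟨-, hP'⟩, φ, hb, hφ⟩ := hI x a hx ha
    suffices φ c = c by rw [hφ c hc, this]
    by_cases hc0 : c = 0
    · subst hc0
      exact (img_phi hF p hn1 hP (pt_ne_zero hF hΦ (hX x a hx ha) _) hP' hb.mapsTo hφ).1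
    have hci : σq c⁻¹ = -c⁻¹ := by rw [map_inv₀, hc, inv_neg]
    have h1 := img_conj hF hP hP' hc (hb.mapsTo hc) (hφ c hc) hee
    rw [form_pt_e hF hΦ hx, form_pt_e hF hΦ (hX x a hx ha), mul_one, mul_one] at h1
    have h2 := img_smulL hF h1 (inv_ne_zero hc0)
    rw [show c⁻¹ • (e + c • pt e f x a) = pt e f x (a + c⁻¹) by
      rw [smul_add, inv_smul_smul₀ hc0, pt, pt, add_smul]; abel] at h2
    have h3 := hI x (a + c⁻¹) hx (adm_add hF ha hci)
    rw [(hshift x a c⁻¹ hx ha hci).1, (hshift x a c⁻¹ hx ha hci).2] at h3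
    obtain ⟨r, -, hr⟩ := img_unique hF p hn1 h3 h2
    have hre := congrArg (B e) hr
    rw [map_add, map_smul, map_smul, hΦ.ee, form_e_pt hF hΦ (hX x a hx ha), form_e_pt hF hΦ (hX x a hx ha),
      zero_add, smul_eq_mul, mul_one, smul_eq_mul, mul_one] at hre
    have hrf := congrArg (B f) hr
    rw [map_add, map_smul, map_smul, hΦ.fe, form_f_pt hF hΦ (hX x a hx ha), form_f_pt hF hΦ (hX x a hx ha),
      smul_eq_mul, smul_eq_mul, ← hre, mul_add] at hrf
    have h4 : φ c * c⁻¹ = 1 := by linear_combination -hrf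
    exact (mul_inv_eq_one₀ hc0).mp h4
  · rw [hA' x a hx ha, hA' x (a + j) hx (adm_add hF ha hj)]
    exact (hshift x a j hx ha hj).2
  · rw [hχ 0 0 (inW_zero hF e f) (adm_zero hF), hz.1]
  · rw [hA' 0 0 (inW_zero hF e f) (adm_zero hF), hz.2]

omit [Fact p.Prime] [CharP F p]

variable {β : MulAut (Cfsg.PSU n F q)} {χ : (Fin n → F) → Fin n → F} {A : (Fin n → F) → F → F} (D : Data hF e f β χ A)
include D

theorem Data.img {x : Vn} (hx : InW hF e f x) {a : F} (ha : Adm hF x a) :
    Img hF β (pt e f x a) (pt e f (χ x) (A x a)) :=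
  ⟨⟨pt_ne_zero hF hΦ hx a, pt_self hF hΦ hx ha⟩,
    ⟨pt_ne_zero hF hΦ (D.mapW x hx) _, pt_self hF hΦ (D.mapW x hx) (D.adm x a hx ha)⟩,
    id, Set.bijOn_id _, fun c hc => D.map x a c hx ha hc⟩

variable [Fact p.Prime] [CharP F p]

include p in
theorem Data.chi_inj (hn : 3 ≤ n) {x y : Vn} (hx : InW hF e f x) (hy : InW hF e f y)
    (h : χ x = χ y) : x = y := by
  obtain ⟨a, ha⟩ := exists_adm hF x
  obtain ⟨b, hb⟩ := exists_adm hF y
  have h1 := D.adm x a hx ha
  have h2 := D.adm y b hy hb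
  rw [← h] at h2
  have hj := adm_sub hF h2 h1
  have hb' := adm_add hF hb hj
  have i1 := D.img hF hΦ hx ha
  have i2 := D.img hF hΦ hy hb'
  rw [D.shift y b _ hy hb hj, ← h, add_sub_cancel] at i2
  obtain ⟨r, -, hr⟩ := img_inj hF p (by omega) i1 i2
  exact ((pt_eq_smul hF hΦ hx hy hr).2.1).symm

include p in
/-- The image of a chord through a point. -/
theorem Data.chord (hn : 3 ≤ n) {x y : Vn} {a b c r : F} (hx : InW hF e f x) (hy : InW hF e f y)
    (ha : Adm hF x a) (hb : Adm hF y b) (hc : σq c = -c)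
    (hr : 1 + c * (b + σq a + B x y) = r) (hr0 : r ≠ 0) :
    ∃ r', r' = 1 + c * (A y b + σq (A x a) + B (χ x) (χ y)) ∧ r' ≠ 0 ∧
      InW hF e f (x + r⁻¹ • (y - x)) ∧ Adm hF (x + r⁻¹ • (y - x)) (a + r⁻¹ * (b - a)) ∧
      χ (x + r⁻¹ • (y - x)) = χ x + r'⁻¹ • (χ y - χ x) ∧
      A (x + r⁻¹ • (y - x)) (a + r⁻¹ * (b - a)) = A x a + r'⁻¹ * (A y b - A x a) := by
  set u := x + r⁻¹ • (y - x) with hu_def
  set d := a + r⁻¹ * (b - a) with hd_def
  have hu : InW hF e f u := hx.add hF ((hy.sub hF hx).smul hF _)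
  have i1 := D.img hF hΦ hx ha
  have h1 := img_conj hF i1.1.2 i1.2.1.2 hc hc (D.map x a c hx ha hc) (D.img hF hΦ hy hb)
  rw [form_pt hF hΦ hx hy, form_pt hF hΦ (D.mapW x hx) (D.mapW y hy)] at h1
  set r' := 1 + c * (A y b + σq (A x a) + B (χ x) (χ y)) with hr'
  have hcd : c * (b + σq a + B x y) = r - 1 := by rw [← hr]; ring
  have hvec : pt e f y b + (c * (b + σq a + B x y)) • pt e f x a = r • pt e f u d := by
    rw [hcd, hu_def, hd_def, pt, pt, pt]
    match_scalars <;> field_simp <;> ring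
  rw [hvec, show c * (A y b + σq (A x a) + B (χ x) (χ y)) = r' - 1 by rw [hr']; ring] at h1
  have hiso : B (pt e f u d) (pt e f u d) = 0 := by
    have := h1.1.2
    rw [form_smul_smul] at this
    exact (mul_eq_zero.mp this).resolve_left (mul_ne_zero ((map_ne_zero_iff _ (RingHom.injective _)).mpr hr0) hr0)
  have hd : Adm hF u d := adm_of_iso hF hΦ hu hiso
  have h2 := img_smulL hF h1 (inv_ne_zero hr0)
  rw [inv_smul_smul₀ hr0] at h2
  obtain ⟨s, hs0, hs⟩ := img_unique hF p (by omega) (D.img hF hΦ hu hd) h2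
  have he := congrArg (B e) hs
  rw [map_add, map_smul, map_smul, form_e_pt hF hΦ (D.mapW y hy), form_e_pt hF hΦ (D.mapW x hx),
    form_e_pt hF hΦ (D.mapW u hu), smul_eq_mul, mul_one, smul_eq_mul, mul_one, add_sub_cancel] at he
  subst he
  have hf := congrArg (B f) hs
  rw [map_add, map_smul, map_smul, form_f_pt hF hΦ (D.mapW y hy), form_f_pt hF hΦ (D.mapW x hx),
    form_f_pt hF hΦ (D.mapW u hu), smul_eq_mul, smul_eq_mul] at hf
  have hA : A u d = A x a + r'⁻¹ * (A y b - A x a) := by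
    field_simp
    linear_combination -hf
  refine ⟨r', rfl, hs0, hu, hd, ?_, hA⟩
  have h5 : r'⁻¹ • (pt e f (χ y) (A y b) + (r' - 1) • pt e f (χ x) (A x a)) = pt e f (χ u) (A u d) := by
    rw [hs, inv_smul_smul₀ hs0]
  rw [hA] at h5
  have h6 : r'⁻¹ • (pt e f (χ y) (A y b) + (r' - 1) • pt e f (χ x) (A x a)) =
      pt e f (χ x + r'⁻¹ • (χ y - χ x)) (A x a + r'⁻¹ * (A y b - A x a)) := by
    rw [pt, pt, pt]
    match_scalars <;> field_simp <;> ring
  exact ((pt_inj hF hΦ ((D.mapW x hx).add hF (((D.mapW y hy).sub hF (D.mapW x hx)).smul hF _)) (D.mapW u hu)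
    (h6.symm.trans h5)).1).symm

include p in
/-- The induced map respects ratios in the subfield. -/
theorem Data.affine (hn : 3 ≤ n) {x y : Vn} (hx : InW hF e f x) (hy : InW hF e f y) {t : F}
    (ht : σq t = t) : χ (x + t • (y - x)) = χ x + t • (χ y - χ x) := by
  by_cases ht0 : t = 0
  · subst ht0; simp
  by_cases ht1 : t = 1
  · subst ht1; simp
  obtain ⟨a, ha⟩ := exists_adm hF x
  obtain ⟨b, hb⟩ := exists_adm hF y
  have ha' : σq a + a + B x x = 0 := ha
  obtain ⟨c, hc0, hc, hr0⟩ : ∃ c : F, c ≠ 0 ∧ σq c = -c ∧ 1 + c * (b + σq a + B x y) ≠ 0 := by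
    obtain ⟨k, hk0, hk⟩ := exists_skew hF
    by_cases h : 1 + k * (b + σq a + B x y) = 0
    · refine ⟨k * t, mul_ne_zero hk0 ht0, skew_mul_fixed hF hk ht, fun h' => ?_⟩
      apply ht1
      linear_combination t * h - h'
    · exact ⟨k, hk0, hk, h⟩
  obtain ⟨r', hr', hr'0, hu, hd, hχ, hA⟩ := D.chord hF hΦ p hn hx hy ha hb hc rfl hr0
  set δ := b + σq a + B x y with hδ
  set r := 1 + c * δ with hr
  set u := x + r⁻¹ • (y - x) with hu_def
  set d := a + r⁻¹ * (b - a) with hd_def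
  set j := (t - 1) / c with hj_def
  have hjk : σq j = -j := by
    rw [hj_def, map_div₀, map_sub, ht, map_one, hc, div_neg]
  set c' := -c / t with hc'
  have hc'k : σq c' = -c' := by rw [hc', map_div₀, map_neg, hc, ht, neg_div, neg_div]
  have hd2 := adm_add hF hd hjk
  have e1 : r * (1 + c' * (d + j + σq a + B x u)) * t = 1 := by
    rw [hd_def, hu_def, map_add, map_smul, map_sub, smul_eq_mul, hc', hj_def]
    field_simp
    rw [hr, hδ]
    linear_combination (-(c * (c * (b + σq a + B x y)))) * ha'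
  have hr2 : 1 + c' * (d + j + σq a + B x u) = (r * t)⁻¹ := by
    refine eq_inv_of_mul_eq_one_left ?_
    linear_combination e1
  obtain ⟨s', hs', hs'0, hv, -, hχ2, -⟩ := D.chord hF hΦ p hn hx hu ha hd2 hc'k hr2
    (inv_ne_zero (mul_ne_zero hr0 ht0))
  have e2 : x + ((r * t)⁻¹)⁻¹ • (u - x) = x + t • (y - x) := by
    rw [inv_inv, hu_def, add_sub_cancel_left, smul_smul]
    congr 2
    field_simp
  rw [e2] at hχ2
  rw [hχ2, hχ, add_sub_cancel_left, smul_smul]
  congr 2
  have hA' : σq (A x a) + A x a + B (χ x) (χ x) = 0 := D.adm x a hx ha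
  rw [D.shift u d j hu hd hjk, hA, hχ, map_add, map_smul, map_sub, smul_eq_mul, hc', hj_def] at hs'
  set δ' := A y b + σq (A x a) + B (χ x) (χ y) with hδ'
  have e3 : s' * r' * t = 1 := by
    rw [hs']
    field_simp
    rw [hr', hδ']
    linear_combination (-(c * (c * (A y b + σq (A x a) + B (χ x) (χ y))))) * hA'
  rw [← mul_inv]
  exact inv_eq_of_mul_eq_one_right e3

include p in
theorem Data.fixed_smul (hn : 3 ≤ n) {x : Vn} (hx : InW hF e f x) {t : F} (ht : σq t = t) :
    χ (t • x) = t • χ x := by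
  have := D.affine hF hΦ p hn (inW_zero hF e f) hx ht
  simpa [D.zero] using this

include p in
theorem Data.add_of_exists (hn : 3 ≤ n) {t : F} (ht : σq t = t) (ht0 : t ≠ 0) (ht1 : t ≠ 1) {x y : Vn}
    (hx : InW hF e f x) (hy : InW hF e f y) : χ (x + y) = χ x + χ y := by
  have h1 : (1 : F) - t ≠ 0 := sub_ne_zero.mpr ht1.symm
  have h2 : σq (1 - t) = 1 - t := by rw [map_sub, map_one, ht]
  have := D.affine hF hΦ p hn (hx.smul hF (1 - t)⁻¹) (hy.smul hF t⁻¹) ht
  rw [show (1 - t)⁻¹ • x + t • (t⁻¹ • y - (1 - t)⁻¹ • x) = x + y by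
      match_scalars <;> field_simp <;> ring,
    D.fixed_smul hF hΦ p hn hx (show σq (1 - t)⁻¹ = (1 - t)⁻¹ by rw [map_inv₀, h2]),
    D.fixed_smul hF hΦ p hn hy (show σq t⁻¹ = t⁻¹ by rw [map_inv₀, ht])] at this
  rw [this]
  match_scalars <;> field_simp <;> ring

end

end Cfsg.Agent.Lib.Classical.AutPSU
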