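import Cfsg.Agent.Lib.Classical.AutPSU.Points

/-!
Automorphisms of `PSU_n(q)`, part 5: the induced map is semilinear.
-/

set_option autoImplicit false

namespace Cfsg.Agent.Lib.Classical.AutPSU

open Matrix
open Cfsg.Agent.Lib.Geometry (exists_mul_conj_eq exists_add_conj_eq)
open Cfsg.Agent.Lib.Classical

variable {F : Type*} [Field F] [Fintype F] {q n : ℕ} (hF : Fintype.card F = q ^ 2)

set_option quotPrecheck false in
local notation "SUn" => Subtype (fun A => A ∈ Cfsg.SU n F q)
set_option quotPrecheck false in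
local notation "Vn" => (Fin n → F)
set_option quotPrecheck false in
local notation "PSUn" => Cfsg.PSU n F q
set_option quotPrecheck false in
local notation "B" => hermBilin hF n
set_option quotPrecheck false in
local notation "σq" => conjHom hF

include hF in
theorem exists_fixed_ne (h : q ≠ 2) : ∃ t : F, σq t = t ∧ t ≠ 0 ∧ t ≠ 1 := by
  have h2 := two_le_q hF
  obtain ⟨g, hg⟩ := IsCyclic.exists_ofOrder_eq_natCard (α := Fˣ)
  rw [natCard_units, hF] at hg
  refine ⟨((g ^ (q + 1) : Fˣ) : F), ?_, Units.ne_zero _, ?_⟩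
  · rw [conjHom_apply, ← Units.val_pow_eq_pow_val, ← pow_mul]
    congr 1
    have : (q + 1) * q = (q + 1) + (q ^ 2 - 1) := by
      have : 1 ≤ q ^ 2 := Nat.one_le_pow _ _ (by omega)
      zify [this]; ring
    rw [this, pow_add, ← hg, pow_orderOf_eq_one, mul_one]
  · intro e
    have e' : g ^ (q + 1) = 1 := Units.ext e
    have hd := Nat.le_of_dvd (by omega) (hg ▸ orderOf_dvd_of_pow_eq_one e')
    have : 3 * q ≤ q ^ 2 := by rw [pow_two]; exact Nat.mul_le_mul_right q (by omega)
    omega

include hF in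
theorem exists_norm_one : ∃ u : F, u * σq u = 1 ∧ σq u ≠ u := by
  have h2 := two_le_q hF
  obtain ⟨g, hg⟩ := IsCyclic.exists_ofOrder_eq_natCard (α := Fˣ)
  rw [natCard_units, hF] at hg
  have hqq : (q - 1) * (q + 1) = q ^ 2 - 1 := by rw [mul_comm, ← Nat.sq_sub_sq, one_pow]
  refine ⟨((g ^ (q - 1) : Fˣ) : F), ?_, ?_⟩
  · rw [conjHom_apply, ← pow_succ', ← Units.val_pow_eq_pow_val, ← pow_mul, hqq, ← hg, pow_orderOf_eq_one,
      Units.val_one]
  · intro e
    rw [conjHom_apply, ← Units.val_pow_eq_pow_val] at e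
    have e' : g ^ ((q - 1) * (q - 1)) = 1 := by
      apply mul_right_cancel (b := g ^ (q - 1))
      rw [← pow_add, one_mul]
      conv_rhs => rw [← Units.ext e]
      rw [← pow_mul]
      congr 1
      obtain ⟨m, rfl⟩ : ∃ m, q = m + 1 := ⟨q - 1, by omega⟩
      simp only [Nat.add_sub_cancel]; ring
    have hd : (q - 1) * (q + 1) ∣ (q - 1) * (q - 1) := by
      rw [hqq, ← hg]; exact orderOf_dvd_of_pow_eq_one e'
    have := Nat.le_of_dvd (by omega) (Nat.dvd_of_mul_dvd_mul_left (by omega) hd)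
    omega

section

variable {e f : Fin n → F} {w : Fin (n - 2) → Fin n → F} (hΦ : Frame hF e f w)
variable {β : MulAut (Cfsg.PSU n F q)} {χ : (Fin n → F) → Fin n → F} {A : (Fin n → F) → F → F}
  (D : Data hF e f β χ A)
variable (p : ℕ) [Fact p.Prime] [CharP F p]

include hΦ in
omit [Fact p.Prime] [CharP F p] in
theorem inW_w (i : Fin (n - 2)) : InW hF e f (w i) := ⟨hΦ.ew i, hΦ.fw i⟩

omit [Fact p.Prime] [CharP F p] in
theorem InW.sum {ι : Type} (s : Finset ι) (x : ι → Vn) (h : ∀ i ∈ s, InW hF e f (x i)) :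
    InW hF e f (∑ i ∈ s, x i) :=
  ⟨by rw [map_sum]; exact Finset.sum_eq_zero fun i hi => (h i hi).1,
    by rw [map_sum]; exact Finset.sum_eq_zero fun i hi => (h i hi).2⟩

include hΦ in
omit [Fact p.Prime] [CharP F p] in
theorem inW_expand (hn : 2 ≤ n) {x : Vn} (hx : InW hF e f x) : ∑ i, B (w i) x • w i = x := by
  have h := hΦ.expand hF hn x
  rwa [hx.1, hx.2, zero_smul, zero_smul, zero_add, zero_add] at h

include hΦ D p in
/-- Additivity when `q = 2`. -/
theorem Data.add_of_two (hn : 3 ≤ n) (hn4 : 4 ≤ n) (hq : q = 2) (hee : Img hF β e e) (hff : Img hF β f f)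
    {x y : Vn} (hx : InW hF e f x) (hy : InW hF e f y) : χ (x + y) = χ x + χ y := by
  classical
  have hn1 : 1 ≤ n := by omega
  have hcard : Fintype.card F = 4 := by rw [hF, hq]; norm_num
  have hσ : ∀ t : F, σq t = t ^ 2 := fun t => by rw [conjHom_apply, hq]
  have h11 : (1 : F) = -1 := by
    have := hσ (-1)
    rw [map_neg, map_one, neg_one_sq] at this
    exact this.symm
  have h2 : (2 : F) = 0 := by linear_combination h11
  have h1K : σq (1 : F) = -1 := by rw [map_one]; exact h11
  have hK : ∀ c : F, σq c = -c → c = 0 ∨ c = 1 := fun c hc => by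
    rw [hσ] at hc
    have : c * (c - 1) = 0 := by linear_combination hc - c * h2
    exact (mul_eq_zero.mp this).imp id sub_eq_zero.mp
  have hN : ∀ s : F, s ≠ 0 → σq s * s = 1 := fun s hs => by
    rw [hσ, ← pow_succ]
    have := FiniteField.pow_card_sub_one_eq_one s hs
    rwa [hcard] at this
  -- transvections are determined by their centres
  have htau : ∀ {v z : Vn}, Img hF β v z → β (tau v 1) = tau z 1 := by
    rintro v z ⟨⟨-, hv⟩, ⟨hz0, hz⟩, φ, hb, hφ⟩
    rcases hK _ (hb.mapsTo h1K) with h | h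
    · exact absurd (hb.injOn h1K (by simp)
        (h.trans (img_phi hF p hn1 hv hz0 hz hb.mapsTo hφ).1.symm)) one_ne_zero
    · rw [hφ 1 h1K, h]
  have hiso : ∀ v, InW hF e f v → B v v = 0 → ∀ x, InW hF e f x → χ (x + v) = χ x + χ v := by
    intro v hv hvv
    by_cases hv0 : v = 0
    · subst hv0; intro x hx; rw [add_zero, D.zero, add_zero]
    suffices ∃ s, ∀ x, InW hF e f x → χ (x + v) = χ x + s by
      obtain ⟨s, hs⟩ := this
      have h0 := hs 0 (inW_zero hF e f)
      rw [zero_add, D.zero, zero_add] at h0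
      rw [h0]
      exact hs
    obtain ⟨v₀, hv₀⟩ := img_exists hF p hn β hv0 hvv
    have he₀ : B e v₀ = 0 := (img_orth hF p hn1 hee hv₀).mp hv.1
    have hf₀ : B f v₀ = 0 := (img_orth hF p hn1 hff hv₀).mp hv.2
    have hve : B v e = 0 := by rw [← herm_symm hF, hv.1, map_zero]
    have hve0 : v + e ≠ 0 := fun h => by
      have := congrArg (B f) h
      rw [map_add, map_zero, hv.2, hΦ.fe, zero_add] at this
      exact one_ne_zero this
    obtain ⟨z, hz⟩ := img_exists hF p hn β hve0
      (by simp [hvv, hΦ.ee, hv.1, hve])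
    obtain ⟨a', b', hz'⟩ := img_span hF p hn hee hv₀ hz hv.1 ⟨1, 1, by rw [one_smul, one_smul, add_comm]⟩
    have hb' : b' ≠ 0 := fun h => by
      rw [h, zero_smul, add_zero] at hz'
      have ha : a' ≠ 0 := fun h' => hz.2.1.1 (by rw [← hz', h', zero_smul])
      have h1 := img_smul hF hz (inv_ne_zero ha)
      rw [← hz', inv_smul_smul₀ ha] at h1
      obtain ⟨r, -, hr⟩ := img_inj hF p hn1 hee h1
      have := congrArg (B f) hr
      rw [map_add, map_smul, hv.2, hΦ.fe, zero_add, smul_eq_mul, mul_one] at this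
      subst this
      rw [one_smul] at hr
      exact hv0 (add_eq_right.mp hr)
    set d := b'⁻¹ * a' with hd
    have hz₂ : Img hF β (v + e) (v₀ + d • e) := by
      have h1 := img_smul hF hz (inv_ne_zero hb')
      rwa [← hz', smul_add, smul_smul, inv_smul_smul₀ hb', ← hd, add_comm (d • e)] at h1
    have hd0 : d ≠ 0 := fun h => by
      rw [h, zero_smul, add_zero] at hz₂
      obtain ⟨r, -, hr⟩ := img_inj hF p hn1 hv₀ hz₂
      have := congrArg (B f) hr
      rw [map_add, map_smul, hv.2, hΦ.fe, zero_add, smul_zero] at this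
      exact one_ne_zero this
    refine ⟨σq d • v₀, fun x hx => ?_⟩
    obtain ⟨a, ha⟩ := exists_adm hF x
    have hX := D.mapW x hx
    have h1 := img_conj hF hv₀.1.2 hv₀.2.1.2 h1K h1K (htau hv₀) (D.img hF hΦ hx ha)
    have h3 := img_conj hF hz₂.1.2 hz₂.2.1.2 h1K h1K (htau hz₂) h1
    have hv₀e : B v₀ e = 0 := by rw [← herm_symm hF, he₀, map_zero]
    have hvf : B v f = 0 := by rw [← herm_symm hF, hv.2, map_zero]
    have hv₀f : B v₀ f = 0 := by rw [← herm_symm hF, hf₀, map_zero]
    have hex : B e x = 0 := hx.1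
    have hex' : B e (χ x) = 0 := hX.1
    have hev : B e v = 0 := hv.1
    simp only [pt, map_add, map_smul, map_smulₛₗ, LinearMap.add_apply, LinearMap.smul_apply, smul_eq_mul,
      hvv, hv₀.2.1.2, he₀, hv₀e, hev, hve, hvf, hv₀f, hex, hex', hΦ.ef, hΦ.ee, map_one,
      one_mul, mul_one, mul_zero, add_zero, zero_add] at h3
    set s := B v x
    set s' := B v₀ (χ x)
    have hdd : σq d * d = 1 := hN d hd0
    have hxv : InW hF e f (x + v) := hx.add hF hv
    have hX2 : InW hF e f (χ x + σq d • v₀) := hX.add hF (InW.smul hF ⟨he₀, hf₀⟩ _)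
    rw [show f + x + a • e + s • v + (1 + s) • (v + e) = pt e f (x + v) (a + (s + 1)) by
        rw [pt]; match_scalars <;> first | ring1 | linear_combination s * h2,
      show f + χ x + A x a • e + s' • v₀ + (σq d + s') • (v₀ + d • e) =
          pt e f (χ x + σq d • v₀) (A x a + (s' + σq d) * d) by
        rw [pt]; match_scalars <;> first | ring1 | linear_combination s' * h2] at h3
    have hAd : Adm hF (x + v) (a + (s + 1)) := adm_of_iso hF hΦ hxv h3.1.2
    obtain ⟨r, -, hr⟩ := img_unique hF p hn1 h3 (D.img hF hΦ hxv hAd)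
    exact (pt_eq_smul hF hΦ hX2 (D.mapW _ hxv) hr).2.1
  let S : AddSubmonoid Vn :=
    { carrier := {v | InW hF e f v ∧ ∀ x, InW hF e f x → χ (x + v) = χ x + χ v}
      zero_mem' := ⟨inW_zero hF e f, fun x _ => by rw [add_zero, D.zero, add_zero]⟩
      add_mem' := fun {v v'} ⟨hv, h⟩ ⟨hv', h'⟩ => ⟨hv.add hF hv', fun x hx => by
        rw [← add_assoc, h' _ (hx.add hF hv), h x hx, h' v hv, add_assoc]⟩ }
  obtain ⟨ω, hω⟩ : ∃ ω : F, ω ^ 2 + ω + 1 = 0 := by
    obtain ⟨t, ht, ht0, ht1⟩ : ∃ t : F, t ^ 3 = 1 ∧ t ≠ 0 ∧ t ≠ 1 := by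
      obtain ⟨t, ht⟩ : ∃ t : F, σq t ≠ t := by
        by_contra h
        push Not at h
        exact conjHom_ne_id hF (RingHom.ext h)
      have ht0 : t ≠ 0 := fun h => ht (by rw [h, map_zero])
      refine ⟨t, ?_, ht0, fun h => ht (by rw [h, map_one])⟩
      have := hN t ht0
      rwa [hσ, ← pow_succ] at this
    refine ⟨t, (mul_eq_zero.mp (show (t - 1) * (t ^ 2 + t + 1) = 0 by linear_combination ht)).resolve_left
      (sub_ne_zero.mpr ht1)⟩
  have hω0 : ω ≠ 0 := fun h => by rw [h] at hω; simp at hω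
  have hω1 : ω + 1 ≠ 0 := fun h => by
    have : ω * ω = 0 := by linear_combination hω - h
    exact hω0 (mul_self_eq_zero.mp this)
  have hnt : Nontrivial (Fin (n - 2)) := Fin.nontrivial_iff_two_le.mpr (by omega)
  have hmem : ∀ (i : Fin (n - 2)) (s : F), s • w i ∈ S := by
    intro i s
    by_cases hs : s = 0
    · subst hs; rw [zero_smul]; exact S.zero_mem
    obtain ⟨j, hj⟩ := exists_ne i
    have hone : ∀ t : F, t ≠ 0 → t • w i + w j ∈ S := fun t ht => by
      have hW := ((inW_w hF hΦ i).smul hF t).add hF (inW_w hF hΦ j)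
      refine ⟨hW, hiso _ hW ?_⟩
      simp [hΦ.ww, hj, hj.symm]
      linear_combination hN t ht + h2
    have := S.add_mem (hone (s * ω) (mul_ne_zero hs hω0)) (hone (s * (ω + 1)) (mul_ne_zero hs hω1))
    convert this using 1
    match_scalars
    · linear_combination -(s * ω) * h2
    · linear_combination -h2
  have : y ∈ S := by
    rw [← inW_expand hF hΦ (by omega) hy]
    exact sum_mem fun i _ => hmem i _
  exact this.2 x hx

include hΦ D p in
theorem Data.additive (hn : 3 ≤ n) (h32 : ¬ (n = 3 ∧ q = 2)) (hee : Img hF β e e) (hff : Img hF β f f)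
    {x y : Vn} (hx : InW hF e f x) (hy : InW hF e f y) : χ (x + y) = χ x + χ y := by
  by_cases hq : q = 2
  · exact D.add_of_two hF hΦ p hn (by
      by_contra h
      exact h32 ⟨by omega, hq⟩) hq hee hff hx hy
  · obtain ⟨t, ht, ht0, ht1⟩ := exists_fixed_ne hF hq
    exact D.add_of_exists hF hΦ p hn ht ht0 ht1 hx hy

include hΦ D p in
theorem Data.iso_coord (hn : 3 ≤ n) (hff : Img hF β f f) {y : Vn} (hy : InW hF e f y) (hyy : B y y = 0) :
    A y 0 = 0 := by
  have ha : Adm hF y 0 := by simp [Adm, hyy]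
  have h1 := (img_orth hF p (by omega) hff (D.img hF hΦ hy ha)).mp (form_f_pt hF hΦ hy 0)
  rwa [form_f_pt hF hΦ (D.mapW y hy)] at h1

include hΦ D p in
/-- On an anisotropic line the map is semilinear. -/
theorem Data.line (hn : 3 ≤ n) (h32 : ¬ (n = 3 ∧ q = 2)) (hee : Img hF β e e) (hff : Img hF β f f)
    {k0 : F} (hk0 : k0 ≠ 0) (hk : σq k0 = -k0) {y : Vn} (hy : InW hF e f y) (hyy : B y y ≠ 0) :
    ∃ θ : F →+* F, (θ = RingHom.id F ∨ θ = σq) ∧ (∀ s, χ (s • y) = θ s • χ y) ∧
      ∀ b, Adm hF y b → k0 * A y b = θ (k0 * b) := by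
  obtain ⟨b, hb⟩ := exists_adm hF y
  have hb' : σq b + b + B y y = 0 := hb
  set X := k0 * b with hX
  set X' := k0 * A y b with hX'
  have hXne : σq X ≠ X := by
    intro h
    rw [hX, map_mul, hk] at h
    have h1 : k0 * (σq b + b) = 0 := by linear_combination -h
    rcases mul_eq_zero.mp h1 with h1 | h1
    · exact hk0 h1
    · exact hyy (by linear_combination hb' - h1)
  have hsX : ∀ s, σq s = s → s + X ≠ 0 := fun s hs h => hXne (by
    rw [show X = -s by linear_combination h, map_neg, hs])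
  have hhom : ∀ s, σq s = s → s + X' ≠ 0 ∧ χ ((s + X)⁻¹ • y) = (s + X')⁻¹ • χ y := by
    intro s hs
    have hj : σq ((s - 1) / k0) = -((s - 1) / k0) := by
      rw [map_div₀, map_sub, hs, map_one, hk, div_neg]
    obtain ⟨r', hr', hr0, -, -, hχ, -⟩ := D.chord hF hΦ p hn (inW_zero hF e f) hy (adm_zero hF)
      (adm_add hF hb hj) hk (r := s + X)
      (by rw [hX, map_zero, map_zero, LinearMap.zero_apply]; field_simp; ring) (hsX s hs)
    have e1 : r' = s + X' := by
      rw [hr', D.zero, D.zero', D.shift y b _ hy hb hj, hX', map_zero, map_zero, LinearMap.zero_apply]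
      field_simp
      ring
    subst e1
    refine ⟨hr0, ?_⟩
    simpa [D.zero] using hχ
  obtain ⟨hX'0, hχ0⟩ := hhom 0 (map_zero _)
  simp only [zero_add] at hX'0 hχ0
  obtain ⟨hX'1, hχ1⟩ := hhom 1 (map_one _)
  have hX0 : X ≠ 0 := fun h => hXne (by rw [h, map_zero])
  set Y := X⁻¹ with hY
  have hYne : σq Y ≠ Y := by rw [hY, map_inv₀]; exact fun h => hXne (inv_injective h)
  have hdec : ∀ z, ∃ α γ : F, σq α = α ∧ σq γ = γ ∧ z = α + γ * Y := by
    intro z
    have hne : Y - σq Y ≠ 0 := sub_ne_zero.mpr hYne.symm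
    have hne' : σq Y - Y ≠ 0 := sub_ne_zero.mpr hYne
    refine ⟨z - (z - σq z) / (Y - σq Y) * Y, (z - σq z) / (Y - σq Y), ?_, ?_, by ring⟩
    · simp only [map_sub, map_mul, map_div₀, conjHom_conjHom]
      field_simp
      ring
    · simp only [map_sub, map_div₀, conjHom_conjHom]
      field_simp
      ring
  have hlin : ∀ α γ, σq α = α → σq γ = γ → χ ((α + γ * Y) • y) = (α + γ * X'⁻¹) • χ y := by
    intro α γ hα hγ
    rw [add_smul, mul_smul,
      D.additive hF hΦ p hn h32 hee hff (hy.smul hF _) ((hy.smul hF _).smul hF _),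
      D.fixed_smul hF hΦ p hn hy hα, D.fixed_smul hF hΦ p hn (hy.smul hF _) hγ, hχ0, add_smul, smul_smul]
  have hχy : χ y ≠ 0 := fun h => by
    have : y = 0 := D.chi_inj hF hΦ p hn hy (inW_zero hF e f) (h.trans D.zero.symm)
    exact hyy (by rw [this]; simp)
  obtain ⟨α, γ, hα, hγ, hαγ⟩ := hdec (1 + X)⁻¹
  have e' : (1 + X')⁻¹ = α + γ * X'⁻¹ := smul_left_injective F hχy (by
    show (1 + X')⁻¹ • χ y = _
    rw [← hχ1, hαγ, hlin α γ hα hγ])
  have hX1 := hsX 1 (map_one _)
  have q1 : (α * X + γ) * (1 + X) = X := by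
    rw [hY] at hαγ
    field_simp at hαγ
    linear_combination -hαγ
  have q2 : (α * X' + γ) * (1 + X') = X' := by
    field_simp at e'
    linear_combination -e'
  have hα0 : α ≠ 0 := by
    intro h
    rw [h, zero_mul, zero_add] at q1
    have hγ1 : (1 - γ) ≠ 0 := fun h' => by
      rw [← sub_eq_zero.mp h', one_mul] at q1
      exact one_ne_zero (by linear_combination q1)
    refine hXne ?_
    rw [show X = γ / (1 - γ) by rw [eq_div_iff hγ1]; linear_combination -q1, map_div₀, map_sub, map_one, hγ]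
  have q3 : (α * σq X + γ) * (1 + σq X) = σq X := by
    have := congrArg σq q1
    rwa [map_mul, map_add, map_add, map_mul, map_one, hα, hγ] at this
  have hsum : α * (X + σq X) + (α + γ - 1) = 0 := by
    have : (X - σq X) * (α * (X + σq X) + (α + γ - 1)) = 0 := by linear_combination q1 - q3
    exact (mul_eq_zero.mp this).resolve_left (sub_ne_zero.mpr hXne.symm)
  have hroot : (X' - X) * (α * (X' - σq X)) = 0 := by linear_combination q2 - q1 - (X' - X) * hsum
  obtain ⟨θ, hθ, hθX⟩ : ∃ θ : F →+* F, (θ = RingHom.id F ∨ θ = σq) ∧ X' = θ X := by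
    rcases mul_eq_zero.mp hroot with h | h
    · exact ⟨_, Or.inl rfl, by rw [RingHom.id_apply]; exact sub_eq_zero.mp h⟩
    · exact ⟨_, Or.inr rfl, sub_eq_zero.mp ((mul_eq_zero.mp h).resolve_left hα0)⟩
  have hfix : ∀ s, σq s = s → θ s = s := fun s hs => by
    rcases hθ with rfl | rfl
    · rfl
    · exact hs
  refine ⟨θ, hθ, fun s => ?_, fun b₂ hb₂ => ?_⟩
  · obtain ⟨α₂, γ₂, h1, h2, rfl⟩ := hdec s
    rw [hlin α₂ γ₂ h1 h2, map_add, map_mul, hfix α₂ h1, hfix γ₂ h2, hY, map_inv₀, ← hθX]
  · have hj := adm_sub hF hb hb₂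
    have e1 := D.shift y b _ hy hb hj
    rw [add_sub_cancel] at e1
    rw [e1, mul_add, ← hX', hθX, hX, show k0 * b₂ = k0 * b + k0 * (b₂ - b) by ring, map_add,
      hfix (k0 * (b₂ - b)) (by rw [map_mul, hk, hj]; ring)]

include hΦ D p in
/-- **The induced map is semilinear.** -/
theorem Data.semilinear (hn : 3 ≤ n) (h32 : ¬ (n = 3 ∧ q = 2)) (hee : Img hF β e e) (hff : Img hF β f f) :
    ∃ (θ : F →+* F) (ε : F), (θ = RingHom.id F ∨ θ = σq) ∧ σq ε = ε ∧ ε * ε = 1 ∧
      (∀ c, σq c = -c → ε * θ c = c) ∧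
      (∀ x, InW hF e f x → χ x = ∑ i, θ (B (w i) x) • χ (w i)) ∧
      (∀ x a, InW hF e f x → Adm hF x a → A x a = ε * θ a) ∧
      ∀ i j, B (χ (w i)) (χ (w j)) = if i = j then ε else 0 := by
  classical
  have hn1 : 1 ≤ n := by omega
  obtain ⟨k0, hk0, hk⟩ := exists_skew hF
  have hadd := fun {x y : Vn} hx hy => D.additive hF hΦ p hn h32 hee hff (x := x) (y := y) hx hy
  have hW := inW_w hF hΦ
  have hw1 : ∀ i, B (w i) (w i) = 1 := fun i => by rw [hΦ.ww, if_pos rfl]
  have hlines := fun i => D.line hF hΦ p hn h32 hee hff hk0 hk (hW i) (by rw [hw1]; exact one_ne_zero)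
  choose θs hθs hsmul hcoef using hlines
  let i₀ : Fin (n - 2) := ⟨0, by omega⟩
  set θ := θs i₀ with hθdef
  have hinv : ∀ i, ∀ t, θs i (θs i t) = t := fun i t => by
    rcases hθs i with h | h <;> rw [h]
    · rfl
    · exact conjHom_conjHom hF t
  have hsame : ∀ i t, θs i t = θ t := by
    intro i t
    by_cases hi : i = i₀
    · subst hi; rfl
    obtain ⟨c, hc⟩ := exists_mul_conj_eq (conjHom_ne_id hF) (conjHom_conjHom hF)
      (s := (-1 : F)) (by rw [map_neg, map_one])
    have hc0 : c ≠ 0 := fun e => by rw [e, map_zero, zero_mul] at hc; exact one_ne_zero (neg_eq_zero.mp hc.symm)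
    set v := w i₀ + c • w i with hv_def
    have hv : InW hF e f v := (hW i₀).add hF ((hW i).smul hF c)
    have hvv : B v v = 0 := by
      simp [hv_def, hΦ.ww, hi, Ne.symm hi]
      linear_combination hc
    have ha : Adm hF v 0 := by simp [Adm, hvv]
    have hat : Adm hF (t • v) 0 := by
      simp [Adm, hvv]
    have hff' : Img hF β (pt e f 0 0) (pt e f 0 0) := by rw [pt_zero]; exact hff
    obtain ⟨a', b', hab⟩ := img_span hF p hn hff' (D.img hF hΦ hv ha) (D.img hF hΦ (hv.smul hF t) hat)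
      (by rw [pt_zero]; exact form_f_pt hF hΦ hv 0)
      ⟨1 - t, t, by rw [pt, pt, pt]; match_scalars <;> ring⟩
    have hab1 : a' + b' = 1 := by
      have := congrArg (B e) hab
      rw [map_add, map_smul, map_smul, form_e_pt hF hΦ (inW_zero hF e f), form_e_pt hF hΦ (D.mapW v hv),
        form_e_pt hF hΦ (D.mapW _ (hv.smul hF t)), smul_eq_mul, mul_one, smul_eq_mul, mul_one] at this
      exact this
    rw [D.iso_coord hF hΦ p hn hff hv hvv, D.iso_coord hF hΦ p hn hff (hv.smul hF t) (by simp [hvv])] at hab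
    have hlin : χ (t • v) = b' • χ v := by
      rw [show a' = 1 - b' by linear_combination hab1] at hab
      have h2 : pt e f (χ (t • v)) (0 : F) = pt e f (b' • χ v) (0 : F) := by
        rw [← hab, pt, pt, pt]
        match_scalars <;> ring
      exact (pt_inj hF hΦ (D.mapW _ (hv.smul hF t)) ((D.mapW v hv).smul hF b') h2).1
    rw [hv_def, smul_add, hadd ((hW i₀).smul hF t) (((hW i).smul hF c).smul hF t),
      hadd (hW i₀) ((hW i).smul hF c), smul_smul, hsmul i₀, hsmul i, hsmul i, map_mul, smul_add, smul_smul] at hlin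
    have h3 : (θs i₀ t - b') • χ (w i₀) = ((b' - θs i t) * θs i c) • χ (w i) := by
      linear_combination (norm := module) hlin
    rw [← hinv i₀ (θs i₀ t - b'), ← hinv i ((b' - θs i t) * θs i c), ← hsmul i₀, ← hsmul i] at h3
    have h4 := D.chi_inj hF hΦ p hn ((hW i₀).smul hF _) ((hW i).smul hF _) h3
    have h5 := congrArg (B (w i₀)) h4
    rw [map_smul, map_smul, hΦ.ww, hΦ.ww, if_pos rfl, if_neg (Ne.symm hi), smul_eq_mul, mul_one,
      smul_zero] at h5
    have h6 := congrArg (B (w i)) h4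
    rw [map_smul, map_smul, hΦ.ww, hΦ.ww, if_neg hi, if_pos rfl, smul_zero, smul_eq_mul, mul_one] at h6
    have h5' : θs i₀ t - b' = 0 := (map_eq_zero_iff _ (RingHom.injective _)).mp h5
    have h6' := (map_eq_zero_iff _ (RingHom.injective _)).mp h6.symm
    rcases mul_eq_zero.mp h6' with h7 | h7
    · rw [hθdef]; linear_combination -h5' - h7
    · exact absurd ((map_eq_zero_iff _ (RingHom.injective _)).mp h7) hc0
  have hsum : ∀ (s : Finset (Fin (n - 2))) (c : Fin (n - 2) → F),
      χ (∑ i ∈ s, c i • w i) = ∑ i ∈ s, θ (c i) • χ (w i) := by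
    intro s c
    induction s using Finset.induction_on with
    | empty => rw [Finset.sum_empty, Finset.sum_empty, D.zero]
    | insert i s his ih =>
      rw [Finset.sum_insert his, Finset.sum_insert his,
        hadd ((hW i).smul hF _) (InW.sum hF _ _ fun j _ => (hW j).smul hF _), ih, hsmul, hsame]
  have hexp : ∀ x, InW hF e f x → χ x = ∑ i, θ (B (w i) x) • χ (w i) := fun x hx => by
    conv_lhs => rw [← inW_expand hF hΦ (by omega) hx]
    exact hsum _ _
  have hlinear : ∀ x, InW hF e f x → ∀ t, χ (t • x) = θ t • χ x := fun x hx t => by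
    rw [hexp _ (hx.smul hF t), hexp x hx, Finset.smul_sum]
    exact Finset.sum_congr rfl fun i _ => by rw [map_smul, smul_eq_mul, map_mul, smul_smul]
  have hθor := hθs i₀
  rw [← hθdef] at hθor
  have hθσ : ∀ t, σq (θ t) = θ (σq t) := fun t => by rcases hθor with h | h <;> rw [h] <;> rfl
  have hfix : ∀ s, σq s = s → θ s = s := fun s hs => by
    rcases hθor with h | h <;> rw [h]
    · rfl
    · exact hs
  have hk' : ∀ x a, InW hF e f x → Adm hF x a → k0 * A x a = θ (k0 * a) := by
    intro x a hx ha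
    by_cases hxx : B x x = 0
    · have h0 := D.iso_coord hF hΦ p hn hff hx hxx
      have ha' : σq a + a + B x x = 0 := ha
      have haK : σq a = -a := by linear_combination ha' - hxx
      have := D.shift x 0 a hx (by simp [Adm, hxx]) haK
      rw [zero_add, h0, zero_add] at this
      rw [this, hfix _ (by rw [map_mul, hk, haK]; ring)]
    · obtain ⟨θ', -, h1, h2⟩ := D.line hF hΦ p hn h32 hee hff hk0 hk hx hxx
      have hχx : χ x ≠ 0 := fun h => hxx (by
        rw [D.chi_inj hF hΦ p hn hx (inW_zero hF e f) (h.trans D.zero.symm)]; simp)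
      have e1 : θ' (k0 * a) = θ (k0 * a) :=
        smul_left_injective F hχx ((h1 _).symm.trans (hlinear x hx _))
      rw [h2 a ha, e1]
  set ε := θ k0 / k0 with hε
  have hθk : θ k0 = k0 ∨ θ k0 = -k0 := by
    rcases hθor with h | h <;> rw [h]
    · exact Or.inl rfl
    · exact Or.inr hk
  have hεor : ε = 1 ∨ ε = -1 := by
    rcases hθk with h | h <;> rw [hε, h]
    · exact Or.inl (div_self hk0)
    · exact Or.inr (by rw [neg_div, div_self hk0])
  have hεσ : σq ε = ε := by rcases hεor with h | h <;> rw [h] <;> simp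
  have hεε : ε * ε = 1 := by rcases hεor with h | h <;> rw [h] <;> ring
  have hA : ∀ x a, InW hF e f x → Adm hF x a → A x a = ε * θ a := fun x a hx ha => by
    have := hk' x a hx ha
    rw [map_mul] at this
    rw [hε, div_mul_eq_mul_div, eq_div_iff hk0]
    linear_combination this
  have hnorm : ∀ x, InW hF e f x → B (χ x) (χ x) = ε * θ (B x x) := fun x hx => by
    obtain ⟨a, ha⟩ := exists_adm hF x
    have h1 : σq (A x a) + A x a + B (χ x) (χ x) = 0 := D.adm x a hx ha
    have h2 : θ (σq a) + θ a + θ (B x x) = 0 := by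
      rw [← map_add, ← map_add, show σq a + a + B x x = 0 from ha, map_zero]
    rw [hA x a hx ha, map_mul, hεσ, hθσ] at h1
    linear_combination h1 - ε * h2
  refine ⟨θ, ε, hθor, hεσ, hεε, fun c hc => ?_, hexp, hA, fun i j => ?_⟩
  · rw [hε, div_mul_eq_mul_div, div_eq_iff hk0, ← map_mul, hfix _ (by rw [map_mul, hk, hc]; ring), mul_comm]
  · by_cases hij : i = j
    · subst hij
      rw [if_pos rfl, hnorm _ (hW i), hw1, map_one, mul_one]
    · rw [if_neg hij]
      set d := B (χ (w i)) (χ (w j)) with hd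
      have htr : ∀ c : F, σq c * c = -1 → θ c * d + σq (θ c * d) = 0 := by
        intro c hc
        have hv : InW hF e f (w i + c • w j) := (hW i).add hF ((hW j).smul hF c)
        have h1 := hnorm _ hv
        rw [hadd (hW i) ((hW j).smul hF c), hlinear _ (hW j) c] at h1
        simp only [map_add, map_smul, map_smulₛₗ, LinearMap.add_apply, LinearMap.smul_apply, smul_eq_mul,
          hnorm _ (hW i), hnorm _ (hW j), hw1, hΦ.ww, if_neg hij, if_neg (Ne.symm hij), map_one, map_zero,
          mul_one, mul_zero, add_zero, zero_add, map_mul, ← herm_symm hF (χ (w i)) (χ (w j)), ← hd] at h1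
        have h3 : θ (σq c) * θ c = -1 := by rw [← map_mul, hc, map_neg, map_one]
        rw [map_mul]
        rw [← hθσ] at h3
        rw [← hθσ] at h1
        linear_combination h1
      obtain ⟨c, hc⟩ := exists_mul_conj_eq (conjHom_ne_id hF) (conjHom_conjHom hF)
        (s := (-1 : F)) (by rw [map_neg, map_one])
      obtain ⟨u, hu, hu'⟩ := exists_norm_one hF
      have h1 := htr c hc
      have h2 := htr (u * c) (by rw [map_mul]; linear_combination hc * (u * σq u) - hu)
      have hc0 : θ c ≠ 0 := fun e => by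
        rw [(map_eq_zero_iff _ (RingHom.injective _)).mp e, map_zero, zero_mul] at hc
        exact one_ne_zero (neg_eq_zero.mp hc.symm)
      rw [map_mul θ, mul_assoc, map_mul σq (θ u)] at h2
      have h3 : (θ u - σq (θ u)) * (θ c * d) = 0 := by linear_combination h2 - σq (θ u) * h1
      rcases mul_eq_zero.mp h3 with h | h
      · exfalso
        rw [hθσ, ← map_sub] at h
        exact hu' (sub_eq_zero.mp ((map_eq_zero_iff _ (RingHom.injective _)).mp h)).symm
      · exact (mul_eq_zero.mp h).resolve_left hc0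

end

end Cfsg.Agent.Lib.Classical.AutPSU
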