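import Cfsg.Agent.Lib.Classical.AutPSU.Elements

/-!
Automorphisms of `PSU_n(q)`, part 2: automorphisms permute the transvection groups.
-/

set_option autoImplicit false

namespace Cfsg.Agent.Lib.Classical.AutPSU

open Matrix
open scoped Pointwise
open Cfsg.Agent.Lib.Geometry (exists_add_conj_eq)
open Cfsg.Agent.Lib.Classical

variable {F : Type*} [Field F] [Fintype F] {q n : ℕ} (hF : Fintype.card F = q ^ 2)

set_option quotPrecheck false in
local notation "SUn" => Subtype (fun A => A ∈ Cfsg.SU n F q)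
set_option quotPrecheck false in
local notation "Vn" => (Fin n → F)
set_option quotPrecheck false in
local notation "Mat" => Matrix (Fin n) (Fin n) F
set_option quotPrecheck false in
local notation "PSUn" => Cfsg.PSU n F q
set_option quotPrecheck false in
local notation "B" => hermBilin hF n
set_option quotPrecheck false in
local notation "σq" => conjHom hF

/-- The stabiliser of a point. -/
def stabP (e : Vn) : Subgroup SUn where
  carrier := {g | ∃ a : F, a ≠ 0 ∧ mat g *ᵥ e = a • e}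
  one_mem' := ⟨1, one_ne_zero, by rw [one_mulVec', one_smul]⟩
  mul_mem' := fun {a b} ⟨x, hx, ha⟩ ⟨y, hy, hb⟩ =>
    ⟨y * x, mul_ne_zero hy hx, by rw [mulVec_mul', hb, Matrix.mulVec_smul, ha, smul_smul]⟩
  inv_mem' := fun {a} ⟨x, hx, ha⟩ => ⟨x⁻¹, inv_ne_zero hx, by
    have h := congrArg (mat a⁻¹ *ᵥ ·) ha
    simp only [inv_mulVec_cancel, Matrix.mulVec_smul] at h
    rw [eq_inv_smul_iff₀ hx]
    exact h.symm⟩

/-- The unipotent radical of the stabiliser. -/
def rad (e : Vn) : Subgroup SUn where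
  carrier := {g | mat g *ᵥ e = e ∧ ∀ w : Vn, Cfsg.hermForm n F q w e = 0 → ∃ a : F, mat g *ᵥ w = w + a • e}
  one_mem' := ⟨one_mulVec' e, fun w _ => ⟨0, by rw [one_mulVec', zero_smul, add_zero]⟩⟩
  mul_mem' := fun {g h} ⟨hg, hg'⟩ ⟨hh, hh'⟩ => ⟨by rw [mulVec_mul', hh, hg], fun w hw => by
    obtain ⟨a, ha⟩ := hh' w hw
    obtain ⟨b, hb⟩ := hg' w hw
    exact ⟨b + a, by rw [mulVec_mul', ha, Matrix.mulVec_add, Matrix.mulVec_smul, hb, hg, add_smul, add_assoc]⟩⟩
  inv_mem' := fun {g} ⟨hg, hg'⟩ => by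
    have he : mat g⁻¹ *ᵥ e = e := by
      conv_lhs => rw [← hg]
      exact inv_mulVec_cancel g e
    refine ⟨he, fun w hw => ?_⟩
    obtain ⟨a, ha⟩ := hg' w hw
    refine ⟨-a, ?_⟩
    have h := congrArg (mat g⁻¹ *ᵥ ·) ha
    simp only [inv_mulVec_cancel, Matrix.mulVec_add, Matrix.mulVec_smul, he] at h
    rw [neg_smul]
    exact eq_add_neg_of_add_eq h.symm

include hF in
/-- Nilpotency of the radical. -/
theorem rad_cube {e : Vn} {M : Mat} (hM : ∀ x y, B (M *ᵥ x) (M *ᵥ y) = B x y) (he : M *ᵥ e = e)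
    (hw : ∀ w : Vn, B e w = 0 → ∃ a : F, M *ᵥ w = w + a • e) : (M - 1) ^ 3 = 0 := by
  refine Matrix.ext_of_mulVec_single fun k => ?_
  set x : Vn := Pi.single k 1
  have h1 : B e ((M - 1) *ᵥ x) = 0 := by
    rw [Matrix.sub_mulVec, Matrix.one_mulVec, map_sub]
    conv_lhs => arg 1; rw [← he]
    rw [hM, sub_self]
  obtain ⟨a, ha⟩ := hw _ h1
  have h2 : (M - 1) *ᵥ ((M - 1) *ᵥ x) = a • e := by
    rw [Matrix.sub_mulVec M 1 ((M - 1) *ᵥ x), Matrix.one_mulVec, ha, add_sub_cancel_left]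
  rw [pow_three, ← Matrix.mulVec_mulVec, ← Matrix.mulVec_mulVec, h2, Matrix.mulVec_smul,
    Matrix.sub_mulVec, Matrix.one_mulVec, he, sub_self, smul_zero, Matrix.zero_mulVec]

variable (p : ℕ) [Fact p.Prime] [CharP F p]

omit [Fintype F] in
theorem pow_sq_eq_one_of_cube (hn : 1 ≤ n) {M : Mat} (h3 : (M - 1) ^ 3 = 0) : M ^ p ^ 2 = 1 := by
  haveI : Nonempty (Fin n) := ⟨⟨0, hn⟩⟩
  have hp2 : 2 ≤ p := (Fact.out : p.Prime).two_le
  have h4 : (M - 1) ^ p ^ 2 = 0 := pow_eq_zero_of_le (by nlinarith) h3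
  have h5 := sub_pow_char_pow_of_commute (p := p) 2 (Commute.one_right M)
  rw [h4, one_pow] at h5
  exact sub_eq_zero.mp h5.symm

include hF in
theorem isPGroup_rad (e : Vn) (hn : 1 ≤ n) : IsPGroup p (rad (F := F) (q := q) (n := n) e) := by
  intro g
  refine ⟨2, Subtype.ext (su_ext fun x => ?_)⟩
  have h := pow_sq_eq_one_of_cube p hn (rad_cube hF (su_form hF g.1) g.2.1 g.2.2)
  rw [Subgroup.coe_one, one_mulVec', show mat ((g ^ p ^ 2 : rad e) : SUn) = mat g.1 ^ p ^ 2 by simp [mat], h,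
    Matrix.one_mulVec]

omit [Fact p.Prime] [CharP F p] in
include hF in
theorem rad_le_stabP (e : Vn) : rad (F := F) (q := q) (n := n) e ≤ stabP e :=
  fun g hg => ⟨1, one_ne_zero, by rw [one_smul]; exact hg.1⟩

include hF p in
/-- The Eichler elements of the radical. -/
theorem exists_eichler (hn : 1 ≤ n) {e w : Vn} (he : B e e = 0) (hw : B e w = 0) :
    ∃ (E : SUn) (c : F), E ∈ rad (q := q) e ∧
      ∀ x, mat E *ᵥ x = x + B e x • (w + c • e) - B w x • e := by
  obtain ⟨c, hc⟩ := exists_add_conj_eq (conjHom_ne_id hF) (conjHom_conjHom hF)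
    (s := -B w w) (by rw [map_neg, form_self_conj])
  have hwe : B w e = 0 := by rw [← herm_symm hF, hw, map_zero]
  let L : Vn →ₗ[F] Vn := LinearMap.id + (B e).smulRight (w + c • e) - (B w).smulRight e
  set M : Mat := LinearMap.toMatrix' L
  have hM : ∀ x, M *ᵥ x = x + B e x • (w + c • e) - B w x • e := fun x => by
    rw [← Matrix.toLin'_apply, Matrix.toLin'_toMatrix']
    rfl
  have hform : ∀ x y, B (M *ᵥ x) (M *ᵥ y) = B x y := by
    intro x y
    rw [hM, hM]
    simp only [map_add, map_sub, map_smul, map_smulₛₗ, LinearMap.add_apply, LinearMap.sub_apply,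
      LinearMap.smul_apply, smul_eq_mul, he, hw, hwe, herm_symm hF e x, herm_symm hF w x,
      conjHom_conjHom, mul_zero, add_zero, sub_zero, zero_add]
    linear_combination B x e * B e y * hc
  have hMe : M *ᵥ e = e := by rw [hM, he, hwe]; simp
  have hMw : ∀ z, B e z = 0 → ∃ a : F, M *ᵥ z = z + a • e := fun z hz => ⟨-B w z, by
    rw [hM, hz, zero_smul, add_zero, neg_smul, sub_eq_add_neg]⟩
  have hdet : M.det = 1 := by
    have h := congrArg Matrix.det (pow_sq_eq_one_of_cube p hn (rad_cube hF hform hMe hMw))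
    rw [Matrix.det_pow, Matrix.det_one] at h
    exact eq_one_of_pow_char p h
  exact ⟨⟨⟨M, hdet⟩, fun x y => hform y x⟩, c, ⟨hMe, hMw⟩, hM⟩

include hF p in
/-- An element commuting with the radical and fixing `e` fixes `e^⊥`. -/
theorem fix_perp_of_commute (hn : 1 ≤ n) {e : Vn} (he0 : e ≠ 0) (he : B e e = 0) {u : SUn}
    (hu : mat u *ᵥ e = e) (hc : ∀ E ∈ rad (q := q) e, u * E = E * u) {w : Vn} (hw : B e w = 0) :
    mat u *ᵥ w = w := by
  obtain ⟨f, hf, -⟩ := exists_partner hF he0 he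
  have huf : B e (mat u *ᵥ f) = 1 := by
    conv_lhs => arg 1; rw [← hu]
    rw [su_form, hf]
  have shift : ∀ z, B e z = 0 → mat u *ᵥ z = z + (B z f - B z (mat u *ᵥ f)) • e := by
    intro z hz
    obtain ⟨E, c, hE, hEx⟩ := exists_eichler hF p hn he hz
    have h := congrArg (fun g : SUn => mat g *ᵥ f) (hc E hE)
    simp only [mulVec_mul', hEx, hf, huf, one_smul] at h
    simp only [Matrix.mulVec_add, Matrix.mulVec_sub, Matrix.mulVec_smul, hu] at h
    rw [sub_smul, ← sub_eq_zero]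
    rw [← sub_eq_zero] at h
    rw [← h]
    abel
  obtain ⟨t, ht⟩ : ∃ t : F, σq t ≠ t := by
    by_contra h
    push Not at h
    exact conjHom_ne_id hF (RingHom.ext h)
  set l := B w f - B w (mat u *ᵥ f) with hl
  have h1 := shift (t • w) (by rw [map_smul, hw, smul_zero])
  rw [Matrix.mulVec_smul, shift w hw, smul_add, smul_smul, add_right_inj] at h1
  have h2 := smul_left_injective F he0 h1
  simp only [map_smulₛₗ, LinearMap.smul_apply, smul_eq_mul, ← mul_sub, ← hl] at h2
  have h3 : l = 0 := by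
    by_contra h0
    exact ht (mul_right_cancel₀ h0 h2).symm
  rw [shift w hw, ← hl, h3, zero_smul, add_zero]

include hF in
omit [Fact p.Prime] [CharP F p] in
theorem eq_uT_of_fix {e : Vn} (he0 : e ≠ 0) (he : B e e = 0) {u : SUn}
    (hfix : ∀ w, B e w = 0 → mat u *ᵥ w = w) :
    ∃ c : F, σq c = -c ∧ u = uT (q := q) e c := by
  obtain ⟨f, hf, hff⟩ := exists_partner hF he0 he
  have hfe : B f e = 1 := by rw [← herm_symm hF, hf, map_one]
  have hu : mat u *ᵥ e = e := hfix e he
  set z := mat u *ᵥ f - f with hz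
  have hwz : ∀ w, B e w = 0 → B w z = 0 := by
    intro w hw
    rw [hz, map_sub]
    conv_lhs => arg 1; arg 1; rw [← hfix w hw]
    rw [su_form, sub_self]
  set k := B f z with hk
  have hze : z = k • e := by
    rw [← sub_eq_zero]
    refine (hermBilin_nondegenerate hF n).2 _ fun x => ?_
    have hd : B e (x - B e x • f) = 0 := by rw [map_sub, map_smul, hf, smul_eq_mul, mul_one, sub_self]
    have h1 := hwz _ hd
    have h2 : B (x - B e x • f) e = 0 := by rw [← herm_symm hF, hd, map_zero]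
    simp only [map_sub, map_smulₛₗ, LinearMap.sub_apply, LinearMap.smul_apply, smul_eq_mul,
      herm_symm hF e x, hfe, mul_one] at h1 h2
    rw [map_sub, map_smul, smul_eq_mul]
    linear_combination h1
  have huf : mat u *ᵥ f = f + k • e := by rw [← hze, hz]; abel
  have hkk : σq k = -k := by
    have h1 := su_form hF u f f
    rw [huf] at h1
    simp only [map_add, map_smul, map_smulₛₗ, LinearMap.add_apply, LinearMap.smul_apply, smul_eq_mul,
      he, hf, hfe, hff, mul_zero, mul_one, add_zero, zero_add] at h1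
    linear_combination h1
  refine ⟨k, hkk, su_ext fun x => ?_⟩
  rw [uT_mulVec hF he hkk]
  have hd : B e (x - B e x • f) = 0 := by rw [map_sub, map_smul, hf, smul_eq_mul, mul_one, sub_self]
  have h1 := hfix _ hd
  rw [Matrix.mulVec_sub, Matrix.mulVec_smul, huf, sub_eq_iff_eq_add] at h1
  rw [h1, smul_add, smul_smul, mul_comm k]
  abel

include hF p in
/-- The index of the stabiliser of a point. -/
theorem not_dvd_index_stabP (hn : 3 ≤ n) {e : Vn} (he0 : e ≠ 0) (he : B e e = 0) :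
    ¬ p ∣ (stabP (q := q) e).index := by
  classical
  haveI := isoPts_pretransitive (n := n) hF
  have hS : stabP (q := q) e = MulAction.stabilizer SUn (ipt hF e he0 he) := by
    ext g
    have hg0 : mat g *ᵥ e ≠ 0 := mulVec_ne_zero' g he0
    have hg' : B (mat g *ᵥ e) (mat g *ᵥ e) = 0 := by rw [su_form, he]
    have hsm : g • ipt hF e he0 he = ipt hF (mat g *ᵥ e) hg0 hg' :=
      smul_ipt hF he0 he hg0 hg' (b := 1) (by rw [one_smul]; exact mulVec_eq_smul g e)
    rw [MulAction.mem_stabilizer_iff, hsm, ipt_eq_iff hF hg0 hg' he0 he]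
    exact ⟨fun ⟨a, _, h⟩ => ⟨a, h.symm⟩, fun ⟨a, h⟩ => ⟨a, fun ha => hg0 (by rw [← h, ha, zero_smul]), h.symm⟩⟩
  rw [hS, MulAction.index_stabilizer_of_transitive]
  intro hdvd
  have hvec : hermCount F q n 0 = Nat.card (isoPts F q n) * Nat.card Fˣ + 1 := by
    let g : Option (isoPts F q n × Fˣ) → {v : Vn // Cfsg.hermForm n F q v v = 0} := fun o => match o with
      | none => ⟨0, by rw [← hermBilin_apply hF]; simp⟩
      | some x => ⟨(x.2 : F) • x.1.1.rep, by
          rw [← hermBilin_apply hF, map_smul, map_smulₛₗ, LinearMap.smul_apply, hermBilin_apply,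
            show Cfsg.hermForm n F q x.1.1.rep x.1.1.rep = 0 from x.1.2]
          simp⟩
    have hg : Function.Bijective g := by
      constructor
      · rintro (_ | ⟨P, a⟩) (_ | ⟨P', a'⟩) h <;> have h' := congrArg Subtype.val h
        · rfl
        · exact absurd h'.symm (smul_ne_zero a'.ne_zero P'.1.rep_nonzero)
        · exact absurd h' (smul_ne_zero a.ne_zero P.1.rep_nonzero)
        · change (a : F) • P.1.rep = (a' : F) • P'.1.rep at h'
          have hP : P = P' := by
            refine Subtype.ext ?_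
            rw [← Projectivization.mk_rep P.1, ← Projectivization.mk_rep P'.1, Projectivization.mk_eq_mk_iff']
            exact ⟨(a : F)⁻¹ * a', by rw [mul_smul, ← h', inv_smul_smul₀ a.ne_zero]⟩
          subst hP
          rw [Units.ext (smul_left_injective F P.1.rep_nonzero h')]
      · rintro ⟨v, hv⟩
        by_cases h0 : v = 0
        · exact ⟨none, Subtype.ext h0.symm⟩
        · obtain ⟨a, ha⟩ := Projectivization.exists_smul_eq_mk_rep F v h0
          refine ⟨some (ipt hF v h0 hv, a⁻¹), Subtype.ext ?_⟩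
          show ((a⁻¹ : Fˣ) : F) • (Projectivization.mk F v h0).rep = v
          rw [← ha, Units.smul_def, smul_smul, Units.inv_mul, one_smul]
    haveI : Finite (isoPts F q n) := Subtype.finite
    rw [hermCount, ← Nat.card_congr (Equiv.ofBijective g hg), Finite.card_option, Nat.card_prod]
  have hz := hermCount_zero_eq hF n
  have h1 := hdvd.mul_right (Nat.card Fˣ)
  rw [show Nat.card (isoPts F q n) * Nat.card Fˣ =
    if Even n then (q ^ n - 1) * (q ^ (n - 1) + 1) else (q ^ n + 1) * (q ^ (n - 1) - 1) by omega] at h1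
  obtain ⟨p', f, hp', hc', hq⟩ := exists_q_pow hF
  rw [CharP.eq F hc' ‹CharP F p›] at hq
  have h2q := two_le_q hF
  have hf : 1 ≤ f := by
    by_contra h
    rw [show f = 0 by omega, pow_zero] at hq
    omega
  have hp := (Fact.out : p.Prime)
  have hd : ∀ k, 1 ≤ k → p ∣ q ^ k := fun k hk =>
    (hq ▸ dvd_pow_self p (by omega) : p ∣ q).trans (dvd_pow_self _ (by omega))
  have hno1 : ∀ k, 1 ≤ k → ¬ p ∣ q ^ k - 1 := fun k hk h => by
    have h2 := Nat.dvd_sub (hd k hk) h
    have hpos : 1 ≤ q ^ k := Nat.one_le_pow _ _ (by omega)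
    rw [show q ^ k - (q ^ k - 1) = 1 by omega] at h2
    exact hp.one_lt.ne' (Nat.dvd_one.mp h2)
  have hno2 : ∀ k, 1 ≤ k → ¬ p ∣ q ^ k + 1 := fun k hk h => by
    exact hp.one_lt.ne' (Nat.dvd_one.mp ((Nat.dvd_add_right (hd k hk)).mp h))
  split_ifs at h1
  · exact (hp.dvd_mul.mp h1).elim (hno1 n (by omega)) (hno2 (n - 1) (by omega))
  · exact (hp.dvd_mul.mp h1).elim (hno2 n (by omega)) (hno1 (n - 1) (by omega))

include hF p in
/-- **Automorphisms permute transvection groups.** -/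
theorem exists_image (hn : 3 ≤ n) (β : MulAut PSUn) {v : Vn} (hv0 : v ≠ 0) (hv : B v v = 0) :
    ∃ (w : Vn) (φ : F → F), w ≠ 0 ∧ B w w = 0 ∧
      Set.BijOn φ {c | σq c = -c} {c | σq c = -c} ∧ ∀ c, σq c = -c → β (tau v c) = tau w (φ c) := by
  classical
  haveI : Finite SUn := Subtype.finite
  have hn1 : 1 ≤ n := by omega
  set e := v
  obtain ⟨P₀, hP₀⟩ := ((isPGroup_rad hF p e hn1).comap_of_injective
    (stabP (q := q) e).subtype Subtype.val_injective).exists_le_sylow
  set U := (P₀ : Subgroup (stabP (q := q) e)).map (stabP e).subtype with hU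
  have hUp : IsPGroup p U := P₀.isPGroup'.map _
  have hUi : ¬ p ∣ U.index := by
    rw [hU, Subgroup.index_map_subtype]
    exact fun h => ((Fact.out : p.Prime).dvd_mul.mp h).elim P₀.not_dvd_index
      (not_dvd_index_stabP hF p hn hv0 hv)
  let P : Sylow p PSUn := (hUp.map pr).toSylow (P := U.map pr) fun h =>
    hUi (h.trans (Subgroup.index_map_dvd U pr_surjective))
  have hUe : ∀ y ∈ U, mat y *ᵥ e = e := by
    intro y hy
    obtain ⟨k, hk⟩ := hUp ⟨y, hy⟩
    obtain ⟨a, -, ha⟩ : y ∈ stabP e := by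
      obtain ⟨z, -, rfl⟩ := hy
      exact z.2
    have hpow : ∀ j : ℕ, mat (y ^ j) *ᵥ e = a ^ j • e := by
      intro j
      induction j with
      | zero => rw [pow_zero, one_mulVec', pow_zero, one_smul]
      | succ j ih => rw [pow_succ, mulVec_mul', ha, Matrix.mulVec_smul, ih, smul_smul, pow_succ']
    have h1 := hpow (p ^ k)
    rw [show y ^ p ^ k = 1 from congrArg Subtype.val hk, one_mulVec'] at h1
    have h2 : a ^ p ^ k = 1 := smul_left_injective F hv0 (h1.symm.trans (one_smul F e).symm)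
    rw [ha, eq_one_of_pow_char p h2, one_smul]
  have htau : ∀ c, σq c = -c → ∀ y ∈ U, pr y * tau e c = tau (q := q) e c * pr y := by
    intro c hc y hy
    have h := tau_conj hF y hv hc
    rw [hUe y hy] at h
    exact mul_inv_eq_iff_eq_mul.mp h
  have hradU : ∀ g ∈ rad (q := q) e, g ∈ U := fun g hg =>
    ⟨⟨g, rad_le_stabP hF e hg⟩, hP₀ hg, rfl⟩
  have heU : ∀ c, σq c = -c → uT (q := q) e c ∈ U := by
    intro c hc
    refine hradU _ ⟨?_, fun w hw => ⟨c * B e w, ?_⟩⟩
    · rw [uT_mulVec hF hv hc, hv, mul_zero, zero_smul, add_zero]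
    · rw [uT_mulVec hF hv hc]
  obtain ⟨x, hx⟩ := MulAction.exists_smul_eq PSUn P (β • P)
  obtain ⟨s, rfl⟩ := pr_surjective x
  have hmem : ∀ y, y ∈ (β • P : Sylow p PSUn) ↔ ∃ u ∈ U, y = pr (s * u * s⁻¹) := by
    intro y
    rw [← hx]
    show y ∈ MulAut.conj (pr s) • (P : Subgroup PSUn) ↔ _
    rw [Subgroup.mem_pointwise_smul_iff_inv_smul_mem]
    show _ ∈ U.map pr ↔ _
    constructor
    · rintro ⟨u, hu, e⟩
      refine ⟨u, hu, ?_⟩
      rw [map_mul, map_mul, map_inv, e]
      simp [MulAut.smul_def, mul_assoc]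
    · rintro ⟨u, hu, rfl⟩
      exact ⟨u, hu, by simp [MulAut.smul_def, mul_assoc]⟩
  have hw : B (mat s *ᵥ e) (mat s *ᵥ e) = 0 := by rw [su_form, hv]
  have hw0 : mat s *ᵥ e ≠ 0 := mulVec_ne_zero' s hv0
  have himg : ∀ c : {c : F // σq c = -c}, ∃ k : {c : F // σq c = -c},
      β (tau (q := q) e c.1) = tau (mat s *ᵥ e) k.1 := by
    rintro ⟨c, hc⟩
    obtain ⟨u, hu, hue⟩ := (hmem _).mp (Subgroup.mem_map_of_mem β.toMonoidHom
      (Subgroup.mem_map_of_mem pr (heU c hc)))
    have hue' : β (tau e c) = pr (s * u * s⁻¹) := hue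
    have hcu : ∀ t ∈ U, u * t = t * u := by
      intro t ht
      obtain ⟨y, ⟨r, hr, rfl⟩, hy'⟩ := (hmem (pr (s * t * s⁻¹))).mpr ⟨t, ht, rfl⟩
      have hcomm : pr (s * u * s⁻¹) * pr (s * t * s⁻¹) = pr (s * t * s⁻¹) * pr (s * u * s⁻¹) := by
        rw [← hue', ← hy']
        show β (tau e c) * β (pr r) = β (pr r) * β (tau e c)
        rw [← map_mul, ← map_mul, htau c hc r hr]
      simp only [map_mul, map_inv] at hcomm
      have hc2 : pr (u * t) = pr (t * u) := by
        rw [map_mul, map_mul]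
        have h3 := congrArg (fun z => z * pr s) hcomm
        simpa [mul_assoc] using h3
      have hz : (u * t)⁻¹ * (t * u) ∈ Subgroup.center SUn := QuotientGroup.eq.mp hc2
      have hzU : (u * t)⁻¹ * (t * u) ∈ U := mul_mem (inv_mem (mul_mem hu ht)) (mul_mem ht hu)
      obtain ⟨k, hk⟩ := hUp ⟨_, hzU⟩
      exact inv_mul_eq_one.mp (eq_one_of_central_pow hF p hn1 hz (congrArg Subtype.val hk))
    have hfix : ∀ w, B e w = 0 → mat u *ᵥ w = w := fun w hwe =>
      fix_perp_of_commute hF p hn1 hv0 hv (hUe u hu) (fun E hE => hcu E (hradU E hE)) hwe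
    obtain ⟨k, hk, rfl⟩ := eq_uT_of_fix hF hv0 hv hfix
    exact ⟨⟨k, hk⟩, by rw [hue', uT_conj hF s hv hk]; rfl⟩
  choose φ hφ using himg
  refine ⟨mat s *ᵥ e, fun c => if hc : σq c = -c then (φ ⟨c, hc⟩).1 else 0, hw0, hw, ?_, fun c hc => by
    simp only [dif_pos hc]; exact hφ ⟨c, hc⟩⟩
  have hinj : Function.Injective φ := fun c d h => Subtype.ext (tau_inj hF p hn1 hv0 hv c.2 d.2
    (β.injective ((hφ c).trans (by rw [h, ← hφ d]))))
  have hsurj := Finite.surjective_of_injective hinj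
  refine ⟨fun c (hc : σq c = -c) => ?_, fun c (hc : σq c = -c) d (hd : σq d = -d) h => ?_, fun c (hc : σq c = -c) => ?_⟩
  · simp only [dif_pos hc, Set.mem_setOf_eq]
    exact (φ ⟨c, hc⟩).2
  · simp only [dif_pos hc, dif_pos hd] at h
    exact congrArg Subtype.val (hinj (Subtype.ext h))
  · obtain ⟨⟨d, hd⟩, hd'⟩ := hsurj ⟨c, hc⟩
    exact ⟨d, hd, by simp only [dif_pos hd, hd']⟩

end Cfsg.Agent.Lib.Classical.AutPSU
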